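import Cfsg.Agent.DoubleAlt.Tab

/-!
# The action of the centralizer of `py` on three permutations off the first six points
-/

set_option autoImplicit false
set_option maxRecDepth 100000
set_option maxHeartbeats 1000000

namespace CfsgLib.DoubleAlt

open Equiv Equiv.Perm

variable {n : ℕ}

/-- The six permutations of three points. -/
def permThree : List (Perm (Fin 3)) :=
  [1, swap 0 1, swap 0 2, swap 1 2, swap 0 1 * swap 1 2, swap 1 2 * swap 0 1]

/-- The three transpositions. -/
def transThree : List (Perm (Fin 3)) := [swap 0 1, swap 0 2, swap 1 2]

/-- The permutation induced on three objects by conjugation. -/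
def indPerm (d : Fin 3 → Perm (Fin n)) (π : Perm (Fin n)) : Perm (Fin 3) :=
  ((permThree.filter fun σ => decide (∀ i, π * d i * π⁻¹ = d (σ i))).head?).getD 1

/-- The involutions of the list moving eight points. -/
def eightList (L : List (Perm (Fin n))) : List (Perm (Fin n)) :=
  L.filter fun π => decide (π * π = 1 ∧ nMoved π = 8)

variable [NeZero n]

/-- The data of the action. -/
structure Act (T : Tab n) (m J : ℕ) where
  /-- The three objects. -/
  d : Fin 3 → Perm (Fin n)
  inj : Function.Injective d
  spec : ∀ π ∈ T.L, ∀ i, π * d i * π⁻¹ = d (indPerm d π i)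
  nodup : T.L.Nodup
  card : 2 * T.L.length = 3 * m
  eight : 2 * (eightList T.L).length = J
  sgn : ∀ π ∈ eightList T.L, indPerm d π ∈ transThree
  fib : ∀ τ ∈ transThree, 3 * (2 * ((eightList T.L).filter fun π => decide (indPerm d π = τ)).length) = J
  pyTriv : indPerm d (py n) = 1
  idTriv : indPerm d 1 = 1

/-- The action in degree nine. -/
def actNine : Act tabNine 36 18 where
  d := fun i => nth [sw 6 7, sw 6 8, sw 7 8] i 1
  inj := by unfold Function.Injective; decide +kernel
  spec := of_all (by decide +kernel)
  nodup := by decide +kernel
  card := by decide +kernel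
  eight := by decide +kernel
  sgn := of_all (by decide +kernel)
  fib := of_all (by decide +kernel)
  pyTriv := by decide +kernel
  idTriv := by decide +kernel

/-- The action in degree ten. -/
def actTen : Act tabTen 144 36 where
  d := fun i => nth [sw 6 7 * sw 8 9, sw 6 8 * sw 7 9, sw 6 9 * sw 7 8] i 1
  inj := by unfold Function.Injective; decide +kernel
  spec := of_all (by decide +kernel)
  nodup := by decide +kernel
  card := by decide +kernel
  eight := by decide +kernel
  sgn := of_all (by decide +kernel)
  fib := of_all (by decide +kernel)
  pyTriv := by decide +kernel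
  idTriv := by decide +kernel

theorem sign_transThree : ∀ τ ∈ transThree, sign τ = -1 := of_all (by decide +kernel)

theorem mem_transThree : ∀ τ : Perm (Fin 3), sign τ = -1 → τ ∈ transThree := by decide +kernel

end CfsgLib.DoubleAlt
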