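import Cfsg.Agent.AltOre.Lifts
import Mathlib.GroupTheory.SpecificGroups.Alternating.Centralizer
import Cfsg.Prelude.Def_SporadicB

/-!
# An involution whose centralizer is a non-split double cover of an alternating group

`Img D g π` says that `g` centralizes the involution and lies over the permutation `π`.
-/

set_option autoImplicit false
set_option linter.style.haveILetI false
set_option linter.unusedSectionVars false

namespace CfsgLib.DoubleAlt

open Equiv Equiv.Perm
open scoped commutatorElement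

variable {G : Type*} [Group G] {n : ℕ}

/-- The centralizer of the involution `z` as a perfect double cover. -/
structure Data (z : G) (n : ℕ) where
  /-- The cover. -/
  cov : AltOre.Cover ↥(Subgroup.centralizer ({z} : Set G)) n
  five : 5 ≤ n
  hz : orderOf z = 2
  zval : (cov.z : G) = z
  perf : commutator ↥(Subgroup.centralizer ({z} : Set G)) = ⊤

/-- The hypothesis of the statement provides the data. -/
theorem exists_data [Finite G] {z : G} (hn : 5 ≤ n) (hz : orderOf z = 2)
    (h : Cfsg.IsNonsplitDoubleCover (Subgroup.centralizer ({z} : Set G)) (alternatingGroup (Fin n))) :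
    Nonempty (Data z n) := by
  classical
  obtain ⟨hc2, ⟨e⟩, hns⟩ := h
  set C := Subgroup.centralizer ({z} : Set G) with hC
  set zc : C := ⟨z, Subgroup.mem_centralizer_singleton_iff.2 rfl⟩ with hzc
  have hz1 : z ≠ 1 := fun h => by rw [h, orderOf_one] at hz; omega
  have hzc1 : zc ≠ 1 := fun h => hz1 (congrArg Subtype.val h)
  have hzcent : zc ∈ Subgroup.center C :=
    Subgroup.mem_center_iff.2 fun g => Subtype.ext (Subgroup.mem_centralizer_singleton_iff.1 g.2)
  have htwo : ∀ g ∈ Subgroup.center C, g = 1 ∨ g = zc := fun g hg => by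
    by_contra hne
    push Not at hne
    obtain ⟨y, -, hy⟩ := (Nat.card_eq_two_iff' (1 : Subgroup.center C)).1 hc2
    have h1 := hy ⟨g, hg⟩ fun h' => hne.1 (congrArg Subtype.val h')
    have h2 := hy ⟨zc, hzcent⟩ fun h' => hzc1 (congrArg Subtype.val h')
    exact hne.2 (congrArg Subtype.val (h1.trans h2.symm))
  set q : C →* alternatingGroup (Fin n) :=
    e.toMonoidHom.comp (QuotientGroup.mk' (Subgroup.center C)) with hq
  have hker : ∀ g : C, q g = 1 ↔ g ∈ Subgroup.center C := fun g => by
    rw [hq, MonoidHom.comp_apply, MulEquiv.coe_toMonoidHom, map_eq_one_iff e e.injective]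
    exact QuotientGroup.eq_one_iff g
  have hsur : Function.Surjective q := e.surjective.comp (QuotientGroup.mk'_surjective _)
  refine ⟨⟨⟨(alternatingGroup (Fin n)).subtype.comp q, fun g => (q g).2, fun σ hσ => ?_, fun g => ?_,
    zc, hzcent, hzc1, htwo⟩, hn, hz, rfl, ?_⟩⟩
  · obtain ⟨g, hg⟩ := hsur ⟨σ, Perm.mem_alternatingGroup.2 hσ⟩
    exact ⟨g, by rw [MonoidHom.comp_apply, hg]; rfl⟩
  · rw [MonoidHom.comp_apply]
    exact ⟨fun h => (hker g).1 (Subtype.ext h), fun h => by rw [(hker g).2 h]; rfl⟩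
  · have hmap : (commutator C).map q = ⊤ := by
      rw [commutator_def, Subgroup.map_commutator, Subgroup.map_top_of_surjective _ hsur,
        ← commutator_def, _root_.commutator_alternatingGroup_eq_top (by rw [Nat.card_fin]; exact hn)]
    have hdec : ∀ g : C, ∃ d ∈ commutator C, d⁻¹ * g ∈ Subgroup.center C := fun g => by
      obtain ⟨d, hd, hde⟩ : q g ∈ (commutator C).map q := hmap ▸ Subgroup.mem_top _
      exact ⟨d, hd, (hker _).1 (by rw [map_mul, map_inv, hde, inv_mul_cancel])⟩
    have hzmem : zc ∈ commutator C := by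
      by_contra hno
      refine hns (commutator C) (Subgroup.isComplement'_of_disjoint_and_mul_eq_univ ?_ ?_)
      · rw [Subgroup.disjoint_def]
        intro g hg hg'
        rcases htwo g hg with rfl | rfl
        · rfl
        · exact absurd hg' hno
      · refine Set.eq_univ_of_forall fun g => ?_
        obtain ⟨d, hd, hdc⟩ := hdec g
        exact ⟨d⁻¹ * g, hdc, d, hd, by
          show d⁻¹ * g * d = g
          rw [← Subgroup.mem_center_iff.1 hdc d, mul_inv_cancel_left]⟩
    rw [eq_top_iff]
    intro g _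
    obtain ⟨d, hd, hdc⟩ := hdec g
    rcases htwo _ hdc with h1 | h1
    · rwa [← inv_mul_eq_one.1 h1]
    · rw [show g = d * zc by rw [← h1, mul_inv_cancel_left]]
      exact mul_mem hd hzmem

/-- `g` centralizes `z` and lies over `π`. -/
def Data.Img {z : G} (D : Data z n) (g : G) (π : Perm (Fin n)) : Prop :=
  ∃ h : Subgroup.centralizer ({z} : Set G), (h : G) = g ∧ D.cov.pr h = π

namespace Data

variable [Finite G] {z : G} (D : Data z n)
include D

theorem z_sq : z * z = 1 := by rw [← _root_.sq, ← D.hz, pow_orderOf_eq_one]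

theorem z_ne : z ≠ 1 := fun h => by have := D.hz; rw [h, orderOf_one] at this; omega

theorem z_inv : z⁻¹ = z := inv_eq_of_mul_eq_one_right D.z_sq

variable {D}

theorem Img.comm {g : G} {π : Perm (Fin n)} (h : D.Img g π) : Commute g z := by
  obtain ⟨h, rfl, -⟩ := h
  exact Subgroup.mem_centralizer_singleton_iff.1 h.2

theorem Img.sgn {g : G} {π : Perm (Fin n)} (h : D.Img g π) : sign π = 1 := by
  obtain ⟨h, -, rfl⟩ := h
  exact D.cov.sgn h

theorem Img.mul {g g' : G} {π π' : Perm (Fin n)} (h : D.Img g π) (h' : D.Img g' π') :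
    D.Img (g * g') (π * π') := by
  obtain ⟨h, rfl, rfl⟩ := h
  obtain ⟨h', rfl, rfl⟩ := h'
  exact ⟨h * h', rfl, map_mul _ _ _⟩

theorem Img.inv {g : G} {π : Perm (Fin n)} (h : D.Img g π) : D.Img g⁻¹ π⁻¹ := by
  obtain ⟨h, rfl, rfl⟩ := h
  exact ⟨h⁻¹, rfl, map_inv _ _⟩

theorem Img.pow {g : G} {π : Perm (Fin n)} (h : D.Img g π) (k : ℕ) : D.Img (g ^ k) (π ^ k) := by
  obtain ⟨h, rfl, rfl⟩ := h
  exact ⟨h ^ k, rfl, map_pow _ _ _⟩

theorem Img.conj {g g' : G} {π π' : Perm (Fin n)} (h : D.Img g π) (h' : D.Img g' π') :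
    D.Img (g * g' * g⁻¹) (π * π' * π⁻¹) := (h.mul h').mul h.inv

theorem Img.unique {g : G} {π π' : Perm (Fin n)} (h : D.Img g π) (h' : D.Img g π') : π = π' := by
  obtain ⟨h, rfl, rfl⟩ := h
  obtain ⟨h', e, rfl⟩ := h'
  rw [Subtype.ext e]

theorem Img.eq_one {g : G} (h : D.Img g 1) : g = 1 ∨ g = z := by
  obtain ⟨h, rfl, hh⟩ := h
  rcases D.cov.two h ((D.cov.ker h).1 hh) with rfl | rfl
  · exact Or.inl rfl
  · exact Or.inr D.zval

theorem Img.eq_or {g g' : G} {π : Perm (Fin n)} (h : D.Img g π) (h' : D.Img g' π) :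
    g = g' ∨ g = g' * z := by
  rcases Img.eq_one (inv_mul_cancel π ▸ h'.inv.mul h) with e | e
  · exact Or.inl (inv_mul_eq_one.1 e).symm
  · exact Or.inr (eq_mul_of_inv_mul_eq e)

variable (D)

theorem img_one : D.Img (1 : G) 1 := ⟨1, rfl, map_one _⟩

theorem img_z : D.Img z 1 := ⟨D.cov.z, D.zval, (D.cov.ker _).2 D.cov.hz⟩

theorem exists_img {π : Perm (Fin n)} (hπ : sign π = 1) : ∃ g, D.Img g π := by
  obtain ⟨h, hh⟩ := D.cov.surj π hπ
  exact ⟨h, h, rfl, hh⟩

theorem img_of_comm {g : G} (h : Commute g z) : ∃ π, D.Img g π :=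
  ⟨_, ⟨g, Subgroup.mem_centralizer_singleton_iff.2 h⟩, rfl, rfl⟩

variable {D}

/-- Double transpositions lift to square roots of `z`. -/
theorem Img.double_sq {g : G} {π : Perm (Fin n)} (h : D.Img g π) (hπ : π.cycleType = {2, 2}) :
    g * g = z := by
  obtain ⟨h, rfl, rfl⟩ := h
  exact (congrArg Subtype.val (D.cov.sq_eq_z D.perf D.five hπ)).trans D.zval

/-- Double transpositions with a double transposition as product anticommute. -/
theorem Img.anti {g g' : G} {π π' : Perm (Fin n)} (h : D.Img g π) (h' : D.Img g' π')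
    (hπ : π.cycleType = {2, 2}) (hπ' : π'.cycleType = {2, 2}) (hp : (π * π').cycleType = {2, 2}) :
    g * g' = z * (g' * g) := by
  have h1 := h.double_sq hπ
  have h2 := h'.double_sq hπ'
  have h3 := (h.mul h').double_sq hp
  have hc : z * g = g * z := h.comm.eq.symm
  calc g * g' = g * g' * (g * g') * ((g' * g')⁻¹ * g' * ((g * g)⁻¹ * g)) := by group
    _ = z * (z * g' * (z * g)) := by rw [h1, h2, h3, D.z_inv]
    _ = g' * (z * g) := by rw [← mul_assoc z (z * g'), ← mul_assoc z z, D.z_sq, one_mul]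
    _ = z * (g' * g) := by rw [← mul_assoc, h'.comm.eq, mul_assoc]

/-- An element of odd order commutes with whatever its image commutes with. -/
theorem Img.odd_comm {g g' : G} {π π' : Perm (Fin n)} (h : D.Img g π) (h' : D.Img g' π')
    (hc : Commute π π') (hodd : Odd (orderOf g)) : Commute g g' := by
  have e := h'.conj h
  rw [← hc.eq, mul_inv_cancel_right] at e
  rcases e.eq_or h with e | e
  · exact (mul_inv_eq_iff_eq_mul.1 e).symm
  exfalso
  have ho : orderOf (g * z) = orderOf g * orderOf z :=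
    h.comm.orderOf_mul_eq_mul_orderOf_of_coprime (by rw [D.hz]; exact Nat.coprime_two_right.2 hodd)
  have he : orderOf (g' * g * g'⁻¹) = orderOf g := by
    rw [← orderOf_injective (MulAut.conj g').toMonoidHom (MulEquiv.injective _) g]; rfl
  rw [e, ho, D.hz] at he
  have := orderOf_pos g
  omega

/-- Elements with disjoint supports commute. -/
theorem Img.off {g g' : G} {π π' : Perm (Fin n)} (h : D.Img g π) (h' : D.Img g' π')
    (hd : ∀ x, π x ≠ x → π' x = x) : Commute g g' := by
  classical
  have hs' := h'.sgn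
  obtain ⟨h, rfl, rfl⟩ := h
  obtain ⟨h', rfl, rfl⟩ := h'
  have := D.cov.off_commute (d := h) (F := (D.cov.pr h).support) (r := D.cov.pr h')
    (fun w hw => notMem_support.1 hw) (fun w hw => apply_mem_support.2 hw)
    (fun w hw => hd w (mem_support.1 hw)) hs' h' rfl
  have := commutatorElement_eq_one_iff_commute.1 this
  exact this.map (Subgroup.centralizer ({z} : Set G)).subtype

variable (D)

/-- Odd order permutations have lifts of the same order. -/
theorem exists_odd_lift {π : Perm (Fin n)} (hπ : sign π = 1) (hodd : Odd (orderOf π)) :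
    ∃ g, D.Img g π ∧ g ^ orderOf π = 1 := by
  obtain ⟨g, hg⟩ := D.exists_img hπ
  have hp : D.Img (g ^ orderOf π) 1 := pow_orderOf_eq_one π ▸ hg.pow _
  rcases hp.eq_one with e | e
  · exact ⟨g, hg, e⟩
  refine ⟨g * z, by simpa using hg.mul D.img_z, ?_⟩
  obtain ⟨k, hk⟩ := hodd
  have hz' : z ^ orderOf π = z := by
    rw [hk, pow_succ, pow_mul, _root_.sq, D.z_sq, one_pow, one_mul]
  rw [hg.comm.mul_pow, e, hz', D.z_sq]

end Data

end CfsgLib.DoubleAlt
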