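import Cfsg.Agent.DoubleAlt.Cycle

/-!
# Degree nine: no inverted elements commute with the third three-cycle
-/

set_option autoImplicit false
set_option maxRecDepth 100000
set_option maxHeartbeats 1000000
set_option linter.style.haveILetI false
set_option linter.unusedSectionVars false

namespace CfsgLib.DoubleAlt

open Equiv Equiv.Perm

theorem dc_nine : ∀ π ∈ listNine, π * π * π = 1 → pa 9 * π * pa 9 = π⁻¹ → π ∈ dcList 9 :=
  of_all (by decide +kernel)

/-- The permutation conjugating `pd` to `py`. -/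
def pσ : Perm (Fin 9) := sw 4 5 * sw 7 8

/-- An even permutation commuting with the third three-cycle. -/
def pk : Perm (Fin 9) := sw 1 4 * sw 2 3

theorem cube_nine : ∀ q ∈ listNine, q * q * q = 1 → pσ⁻¹ * q * pσ * py 9 = py 9 * (pσ⁻¹ * q * pσ) :=
  of_all (by decide +kernel)

theorem sigma_nine : pσ * pd 9 * pσ⁻¹ = py 9 ∧ pk * c3 9 = c3 9 * pk := by decide +kernel

theorem double_nine :
    py 9 * (pk * py 9 * pk⁻¹) * (py 9 * (pk * py 9 * pk⁻¹)) = 1 ∧
      nMoved (py 9 * (pk * py 9 * pk⁻¹)) = 4 := by decide +kernel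

theorem turn_nine : ∀ π ∈ listNine, π * pa 9 = pa 9 * π →
    (π * pd 9 * π⁻¹ = pd 9 ∨ π * pd 9 * π⁻¹ = (pd 9)⁻¹) ∧
      (π * c3 9 * π⁻¹ = c3 9 ∨ π * c3 9 * π⁻¹ = (c3 9)⁻¹) := of_all (by decide +kernel)

theorem sign_pσ : sign pσ = 1 := by
  rw [pσ, map_mul, sw_eq, sw_eq, sign_swap (by decide), sign_swap (by decide)]; decide

theorem sign_pk : sign pk = 1 := by
  rw [pk, map_mul, sw_eq, sw_eq, sign_swap (by decide), sign_swap (by decide)]; decide

section gen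

variable {G : Type*} [Group G]

theorem pow_mod_three {x : G} (hx : x ^ 3 = 1) (i : ℕ) : x ^ i = x ^ (i % 3) := pow_eq_pow_mod i hx

theorem mem_zpowers_symm {x y : G} (hx : x ^ 3 = 1) (h : y ∈ Subgroup.zpowers x) (hy : y ≠ 1) :
    x ∈ Subgroup.zpowers y := by
  obtain ⟨k, rfl⟩ := h
  change x ^ k ≠ 1 at hy
  show x ∈ Subgroup.zpowers (x ^ k)
  have ho : orderOf x ∣ 3 := orderOf_dvd_of_pow_eq_one hx
  refine ⟨k, ?_⟩
  show (x ^ k) ^ k = x
  conv_rhs => rw [← zpow_one x]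
  rw [← zpow_mul]
  refine zpow_eq_zpow_iff_modEq.2 (Int.ModEq.of_dvd (Int.natCast_dvd_natCast.2 ho) ?_)
  have h0 : k % 3 ≠ 0 := fun h0 => hy (by
    obtain ⟨j, rfl⟩ := Int.dvd_of_emod_eq_zero h0
    rw [zpow_mul, zpow_ofNat, hx, one_zpow])
  show k * k % 3 = 1 % 3
  rw [Int.mul_emod]
  obtain h1 | h1 : k % 3 = 1 ∨ k % 3 = 2 := by omega
  all_goals rw [h1]; rfl

theorem inv_zpowers {x y : G} (h : y = x ∨ y = x⁻¹) : Subgroup.zpowers y = Subgroup.zpowers x := by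
  rcases h with rfl | rfl
  · rfl
  · exact Subgroup.zpowers_inv

theorem commute_of_zpowers {x y w : G} (h : y ∈ Subgroup.zpowers x) (hc : Commute x w) : Commute y w := by
  obtain ⟨k, rfl⟩ := h
  exact hc.zpow_left k

theorem zpowers_conj {g x y : G} (h : y ∈ Subgroup.zpowers x) :
    g * y * g⁻¹ ∈ Subgroup.zpowers (g * x * g⁻¹) := by
  obtain ⟨k, rfl⟩ := h
  exact ⟨k, by show (g * x * g⁻¹) ^ k = g * x ^ k * g⁻¹; rw [conj_zpow]⟩

theorem commute_conj' {g x y : G} (h : Commute x y) : Commute (g⁻¹ * x * g) (g⁻¹ * y * g) := by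
  have := h.map (MulAut.conj g⁻¹).toMonoidHom
  simpa using this

end gen

variable {G : Type*} [Group G] [Finite G] {z : G}
variable {D : Data z 9} {F : Frame D tabNine}

/-- The elements `d ^ i * e3 ^ j`. -/
def pzEl (F : Frame D tabNine) (i j : Fin 3) : G := F.d ^ (i : ℕ) * F.e3 ^ (j : ℕ)

theorem pzEl_mul (i j k l : Fin 3) : pzEl F i j * pzEl F k l = pzEl F (i + k) (j + l) := by
  rw [pzEl, pzEl, pzEl, mul_assoc, ← mul_assoc (F.e3 ^ (j : ℕ)), ← (F.d_e3.pow_pow _ _).eq, mul_assoc,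
    ← mul_assoc (F.d ^ (i : ℕ)), ← pow_add, ← pow_add, Fin.val_add, Fin.val_add, ← pow_mod_three F.d_cube,
    ← pow_mod_three F.h3c]

theorem cyc_e3 (F : Frame D tabNine) : Cyc D F.e3 (c3 9) :=
  ⟨F.h3, F.h3c, by
    rw [c3, sw_eq, sw_eq, swap_comm (6 : Fin 9) 7]
    exact isThreeCycle_swap_mul_swap_same (by decide) (by decide) (by decide), le_of_eq_of_le rfl (by decide), le_refl 9⟩

theorem cyc_e1 (F : Frame D tabNine) : Cyc D F.e1 (c1 9) :=
  ⟨F.h1, F.h1c, by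
    rw [c1, sw_eq, sw_eq, swap_comm (0 : Fin 9) 1]
    exact isThreeCycle_swap_mul_swap_same (by decide) (by decide) (by decide), le_of_eq_of_le rfl (by decide), le_refl 9⟩

/-- The elements centralized by `z` and inverted by `a`. -/
theorem pz_cases {p : G} (h : PZ F p) : ∃ i j, p = pzEl F i j := by
  obtain ⟨ho, hy, hz, ha⟩ := h
  obtain ⟨π, hL, hπ, h3⟩ := F.odd_img hz hy ho
  have hinv : pa 9 * π * pa 9 = π⁻¹ := by
    have h1 := (F.ha.conj hπ).unique (ha ▸ hπ.inv)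
    rwa [inv_eq_of_mul_eq_one_right tabNine.paSq] at h1
  have hm := dc_nine π hL h3 hinv
  have hrest : ∀ i j : Fin 3, π = pd 9 ^ (i : ℕ) * c3 9 ^ (j : ℕ) → p = pzEl F i j := by
    intro i j hij
    refine Data.Img.odd_eq (hij ▸ hπ) ((F.d_img.pow _).mul (F.h3.pow _)) ho (odd_of_cube ?_)
    unfold pzEl
    rw [(F.d_e3.pow_pow _ _).mul_pow, ← pow_mul, ← pow_mul, mul_comm _ 3, mul_comm _ 3, pow_mul, pow_mul,
      F.d_cube, F.h3c, one_pow, one_pow, one_mul]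
  obtain ⟨i, j, hij⟩ : ∃ i j : Fin 3, π = pd 9 ^ (i : ℕ) * c3 9 ^ (j : ℕ) := by
    simp only [dcList, List.mem_flatMap, List.mem_map, List.mem_cons, List.not_mem_nil, or_false] at hm
    obtain ⟨u, hu, v, hv, rfl⟩ := hm
    rcases hu with rfl | rfl | rfl <;> rcases hv with rfl | rfl | rfl
    exacts [⟨0, 0, by simp⟩, ⟨0, 1, by simp⟩, ⟨0, 2, by simp [pow_two]⟩, ⟨1, 0, by simp⟩, ⟨1, 1, by simp⟩,
      ⟨1, 2, by simp [pow_two]⟩, ⟨2, 0, by simp [pow_two]⟩, ⟨2, 1, by simp [pow_two]⟩,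
      ⟨2, 2, by simp [pow_two]⟩]
  exact ⟨i, j, hrest i j hij⟩

theorem pz_d (F : Frame D tabNine) : PZ F F.d :=
  ⟨odd_of_cube F.d_cube, F.y_d.symm, F.d_img.comm, F.a_d⟩

theorem pz_e3 (F : Frame D tabNine) : PZ F F.e3 :=
  ⟨odd_of_cube F.h3c, F.y_e3.symm, F.h3.comm, F.a_e3⟩

/-- The second involution normalises the core of the centralizer of `e3`. -/
theorem a_normO (F : Frame D tabNine) {x : G} (hx : x ∈ (cyc_e3 F).O) : F.a * x * F.a⁻¹ ∈ (cyc_e3 F).O := by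
  refine coreOf_conj (g := F.a) (fun w => ?_) hx
  rw [Subgroup.mem_centralizer_singleton_iff, Subgroup.mem_centralizer_singleton_iff]
  constructor
  · intro hw
    have h := (commute_conj (g := F.a) (show Commute w F.e3 from hw)).inv_right
    rwa [F.a_e3, inv_inv] at h
  · intro hw
    have h := (commute_conj (g := F.a⁻¹) (show Commute (F.a * w * F.a⁻¹) F.e3 from hw)).inv_right
    rw [inv_inv, show F.a⁻¹ * (F.a * w * F.a⁻¹) * F.a = w by group] at h
    rwa [show (F.a⁻¹ * F.e3 * F.a)⁻¹ = F.e3 by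
      rw [F.a_inv, show F.a * F.e3 * F.a = F.e3⁻¹ by
        nth_rewrite 2 [← F.a_inv]; exact F.a_e3, inv_inv]] at h

namespace Turn

variable (τ : Turn F)

theorem paz_of_pz' {m : G} (h : PZ F m) : PAZ F (τ.t⁻¹ * m * τ.t) := by
  obtain ⟨ho, hy, hz, ha⟩ := h
  have ez : τ.t⁻¹ * F.a * τ.t = z := by rw [← τ.tz]; group
  have eaz : τ.t⁻¹ * z * τ.t = F.a * z := by
    calc τ.t⁻¹ * z * τ.t = τ.t⁻¹ * (τ.t * (F.a * z) * τ.t⁻¹) * τ.t := by rw [τ.taz]
      _ = F.a * z := by group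
  refine ⟨by have := orderOf_conj' τ.t⁻¹ m; rw [inv_inv] at this; rwa [this], ?_, ?_, ?_⟩
  · have := commute_conj' (g := τ.t) hy
    rwa [show τ.t⁻¹ * F.y * τ.t = F.y by rw [mul_assoc, ← τ.ty.eq, inv_mul_cancel_left]] at this
  · have := commute_conj' (g := τ.t) hz
    rwa [eaz] at this
  · have h2 : τ.t⁻¹ * F.a * τ.t * (τ.t⁻¹ * m * τ.t) * (τ.t⁻¹ * F.a * τ.t)⁻¹ =
      τ.t⁻¹ * (F.a * m * F.a⁻¹) * τ.t := by group
    rw [ez, ha] at h2
    rw [h2]
    group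

theorem pa_of_paz' {m : G} (h : PAZ F m) : PA F (τ.t⁻¹ * m * τ.t) := by
  obtain ⟨ho, hy, haz, hz⟩ := h
  have ez : τ.t⁻¹ * F.a * τ.t = z := by rw [← τ.tz]; group
  have ea : τ.t⁻¹ * (F.a * z) * τ.t = F.a := by rw [← τ.ta]; group
  have hai : F.a * m * F.a⁻¹ = m⁻¹ := by
    rw [show F.a * m * F.a⁻¹ = F.a * z * (z⁻¹ * m * z) * (F.a * z)⁻¹ by group, D.z_inv]
    have : z * m * z = m⁻¹ := by
      nth_rewrite 2 [← D.z_inv]
      exact hz
    rw [this, haz.symm.inv_right.eq, mul_inv_cancel_right]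
  refine ⟨by have := orderOf_conj' τ.t⁻¹ m; rw [inv_inv] at this; rwa [this], ?_, ?_, ?_⟩
  · have := commute_conj' (g := τ.t) hy
    rwa [show τ.t⁻¹ * F.y * τ.t = F.y by rw [mul_assoc, ← τ.ty.eq, inv_mul_cancel_left]] at this
  · have := commute_conj' (g := τ.t) haz
    rwa [ea] at this
  · have h2 : τ.t⁻¹ * F.a * τ.t * (τ.t⁻¹ * m * τ.t) * (τ.t⁻¹ * F.a * τ.t)⁻¹ =
      τ.t⁻¹ * (F.a * m * F.a⁻¹) * τ.t := by group
    rw [ez, hai] at h2
    rw [h2]
    group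

/-- The image of `d` among the elements centralized by `a`. -/
def dA : G := τ.t * F.d * τ.t⁻¹

theorem dA_pa : PA F τ.dA := τ.pa_of_pz (pz_d F)

theorem dA_ne : τ.dA ≠ 1 := by
  intro h
  rw [dA, conj_eq_one_iff] at h
  have h1 := F.d_img
  rw [h] at h1
  exact absurd (h1.unique D.img_one) (by decide +kernel)

/-- The element `dA` does not commute with `e3`. -/
theorem not_commute_dA : ¬ Commute τ.dA F.e3 := by
  intro hc
  obtain ⟨ho, hy, ha, hz⟩ := τ.dA_pa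
  have hC := cyc_e3 F
  have hdO : τ.dA ∈ hC.O := hC.mem_O hc ho hz
  have hsC : F.s ∈ Subgroup.centralizer ({F.e3} : Set G) :=
    Subgroup.mem_centralizer_singleton_iff.2 (mul_inv_eq_iff_eq_mul.1 F.s_e3)
  have hA : ∀ o ∈ hC.O, Commute o F.a → Commute o F.y := by
    intro o ho' hoa
    have hoi := hC.inverted_of_fixed F.a_z F.a_e3 ho' hoa
    obtain ⟨f, hf, hfe⟩ := hC.comm_inv ho' hdO hoi hz
    have hf1 : f = 1 := by
      obtain ⟨k, rfl⟩ := hf
      change o * τ.dA = τ.dA * o * F.e3 ^ k at hfe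
      show F.e3 ^ k = 1
      have h2 : F.a * (o * τ.dA) * F.a⁻¹ = F.a * (τ.dA * o * F.e3 ^ k) * F.a⁻¹ := by rw [hfe]
      rw [← conj_mul, ← conj_mul, ← conj_mul, ← conj_zpow, F.a_e3, mul_inv_eq_iff_eq_mul.2 hoa.symm.eq,
        mul_inv_eq_iff_eq_mul.2 ha.symm.eq, hfe, mul_left_cancel_iff, inv_zpow, eq_inv_iff_mul_eq_one] at h2
      have hd : orderOf (F.e3 ^ k) ∣ 2 := orderOf_dvd_of_pow_eq_one (by rw [_root_.sq]; exact h2)
      have h3 : orderOf (F.e3 ^ k) ∣ 3 := orderOf_dvd_of_pow_eq_one (by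
        rw [← zpow_natCast, ← zpow_mul, mul_comm, zpow_mul, zpow_natCast, F.h3c, one_zpow])
      exact orderOf_eq_one_iff.1 (Nat.dvd_one.1 (Nat.dvd_gcd hd h3))
    rw [hf1, mul_one] at hfe
    have hcd : Commute o τ.dA := hfe
    have e1 : Commute (τ.t⁻¹ * o * τ.t) z := by
      have h := commute_conj' (g := τ.t) hoa
      rwa [show τ.t⁻¹ * F.a * τ.t = z by rw [← τ.tz]; group] at h
    have e2 : Commute (τ.t⁻¹ * o * τ.t) F.d := by
      have h := commute_conj' (g := τ.t) hcd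
      rwa [show τ.t⁻¹ * τ.dA * τ.t = F.d by rw [dA]; group] at h
    have hodd : Odd (orderOf (τ.t⁻¹ * o * τ.t)) := by
      have h := orderOf_conj' τ.t⁻¹ o
      rw [inv_inv] at h
      rw [h]
      exact (coreOf_odd _).of_dvd_nat (Subgroup.orderOf_dvd_natCard _ ho')
    obtain ⟨π, hπ⟩ := D.img_of_comm e1
    have hcp : Commute π (pd 9) := (hπ.mul F.d_img).unique (e2.eq ▸ F.d_img.mul hπ)
    obtain ⟨g, hg⟩ := D.exists_img sign_pσ
    have hq : Commute (pσ * π * pσ⁻¹) (py 9) := by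
      rw [← sigma_nine.1]
      exact commute_conj hcp
    have hqL := mem_listNine hq (hg.conj hπ).sgn
    have hq3 : (pσ * π * pσ⁻¹) * (pσ * π * pσ⁻¹) * (pσ * π * pσ⁻¹) = 1 := by
      have hd : orderOf (pσ * π * pσ⁻¹) ∣ 3 * 8 := orderOf_dvd_of_pow_eq_one (tabNine.exp _ hqL)
      have hd' : orderOf (pσ * π * pσ⁻¹) ∣ orderOf (τ.t⁻¹ * o * τ.t) := by
        rw [orderOf_conj']
        refine orderOf_dvd_of_pow_eq_one ((hπ.pow _).unique ?_)
        rw [pow_orderOf_eq_one]; exact D.img_one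
      rw [← _root_.sq, ← pow_succ]
      exact orderOf_dvd_iff_pow_eq_one.1
        ((Nat.Coprime.pow_right 3 (Nat.coprime_two_right.2 (hodd.of_dvd_nat hd'))).dvd_of_dvd_mul_right hd)
    have hpy : Commute π (py 9) := by
      have h := cube_nine _ hqL hq3
      rwa [show pσ⁻¹ * (pσ * π * pσ⁻¹) * pσ = π by group] at h
    have h := commute_conj (g := τ.t) (hπ.odd_comm F.y_img hpy hodd)
    rwa [show τ.t * (τ.t⁻¹ * o * τ.t) * τ.t⁻¹ = o by group, τ.ty'] at h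
  have hle : hC.O ≤ Subgroup.centralizer ({F.y} : Set G) := by
    refine le_of_fixed (a := F.a) D.z_sq F.ha2 F.a_z D.z_ne F.a_ne F.a_ne_z (coreOf_odd _) hC.z_norm ?_ ?_ ?_ ?_
    · exact fun x hx => a_normO F hx
    · intro x hx hxz
      exact Subgroup.mem_centralizer_singleton_iff.2
        (commute_of_zpowers (hC.fixed hx hxz) F.y_e3.symm).eq
    · exact fun x hx hxa => Subgroup.mem_centralizer_singleton_iff.2 (hA x hx hxa).eq
    · intro x hx hxaz
      have h1 := commute_conj (g := F.s) hxaz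
      rw [F.s_az] at h1
      have h2 := hA _ (coreOf_normal hsC hx) h1
      have h3 := (commute_conj' (g := F.s) h2)
      rw [show F.s⁻¹ * (F.s * x * F.s⁻¹) * F.s = x by group,
        show F.s⁻¹ * F.y * F.s = F.y⁻¹ by
          calc F.s⁻¹ * F.y * F.s = F.s⁻¹ * (F.y⁻¹)⁻¹ * F.s := by rw [inv_inv]
            _ = F.s⁻¹ * (F.s * F.y * F.s⁻¹)⁻¹ * F.s := by rw [F.s_y]
            _ = F.y⁻¹ := by group] at h3
      exact Subgroup.mem_centralizer_singleton_iff.2 (inv_inv F.y ▸ h3.inv_right).eq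
  obtain ⟨k, hk⟩ := D.exists_img sign_pk
  have hke : Commute k F.e3 := (F.h3.odd_comm hk (Eq.symm sigma_nine.2) (odd_of_cube F.h3c)).symm
  have hkC : k⁻¹ ∈ Subgroup.centralizer ({F.e3} : Set G) :=
    inv_mem (Subgroup.mem_centralizer_singleton_iff.2 hke.eq)
  have h1 : Commute τ.dA (k * F.y * k⁻¹) := by
    have h := commute_conj (g := k) (show Commute (k⁻¹ * τ.dA * k) F.y by
      have := Subgroup.mem_centralizer_singleton_iff.1 (hle (coreOf_normal hkC hdO))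
      rwa [inv_inv] at this)
    rwa [show k * (k⁻¹ * τ.dA * k) * k⁻¹ = τ.dA by group] at h
  have hg := F.y_img.mul (hk.conj F.y_img)
  have hzc : Commute τ.dA z :=
    (hg.double_sq (cycleType_double double_nine.1 double_nine.2)).subst (motive := fun w => Commute τ.dA w)
      ((hy.mul_right h1).mul_right (hy.mul_right h1))
  rw [hzc.symm.eq, mul_inv_cancel_right, eq_inv_iff_mul_eq_one] at hz
  have h2 : orderOf τ.dA ∣ 2 := orderOf_dvd_of_pow_eq_one (by rw [_root_.sq]; exact hz)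
  have h3 : orderOf τ.dA ∣ 3 := orderOf_dvd_of_pow_eq_one (τ.cube_pa τ.dA_pa)
  exact τ.dA_ne (orderOf_eq_one_iff.1 (Nat.dvd_one.1 (Nat.dvd_gcd h2 h3)))

end Turn

end CfsgLib.DoubleAlt
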