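import Cfsg.Agent.DoubleAlt.CaseA

/-!
# Degree nine: elements centralized by `a` and commuting with `e3` are trivial
-/

set_option autoImplicit false
set_option maxRecDepth 100000
set_option maxHeartbeats 1000000
set_option linter.style.haveILetI false
set_option linter.unusedSectionVars false

namespace CfsgLib.DoubleAlt

open Equiv Equiv.Perm

section gen

variable {G : Type*} [Group G]

theorem cube_mul {a b h : G} (hb : b * a = a * b * h) (hha : Commute h a) (hhb : Commute h b)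
    (ha : a ^ 3 = 1) (hb3 : b ^ 3 = 1) (hh : h ^ 3 = 1) : (a * b) ^ 3 = 1 := by
  have e : (a * b) ^ 3 = a * (b * a) * (b * a) * b := by
    simp only [pow_succ, pow_zero, one_mul, mul_assoc]
  rw [e, hb]
  calc a * (a * b * h) * (a * b * h) * b = a * a * (b * (h * a)) * (b * (h * b)) := by
        simp only [mul_assoc]
    _ = a * a * (b * a * h) * (b * b * h) := by rw [hha.eq, hhb.eq]; simp only [mul_assoc]
    _ = a * a * (b * a) * (h * (b * b)) * h := by simp only [mul_assoc]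
    _ = a * a * (a * b * h) * (b * b * h) * h := by rw [(hhb.mul_right hhb).eq, hb]
    _ = a * a * a * b * (h * (b * b)) * h * h := by simp only [mul_assoc]
    _ = a ^ 3 * b ^ 3 * h ^ 3 := by
        rw [(hhb.mul_right hhb).eq]
        simp only [pow_succ, pow_zero, one_mul, mul_assoc]
    _ = 1 := by rw [ha, hb3, hh, one_mul, one_mul]

theorem pow_mod_three_zpow {x : G} (hx : x ^ 3 = 1) (k : ℤ) : x ^ k = x ^ (k % 3).toNat := by
  rw [← zpow_natCast, Int.toNat_of_nonneg (Int.emod_nonneg k (by decide))]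
  conv_lhs => rw [← Int.emod_add_mul_ediv k 3]
  rw [zpow_add, zpow_mul, zpow_ofNat x 3, hx, one_zpow, mul_one]

end gen

variable {G : Type*} [Group G] [Finite G] {z : G}
variable {D : Data z 9} {F : Frame D tabNine}

theorem pzEl_zero : pzEl F 0 0 = 1 := by simp [pzEl]

theorem pzEl_smul (r i j : Fin 3) : pzEl F (r * i) (r * j) = pzEl F i j ^ (r : ℕ) := by
  obtain rfl | rfl | rfl : r = 0 ∨ r = 1 ∨ r = 2 := by revert r; decide
  · rw [zero_mul, zero_mul, pzEl_zero]; exact (pow_zero _).symm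
  · rw [one_mul, one_mul]; exact (pow_one _).symm
  · rw [show (2 : Fin 3) = 1 + 1 from rfl, add_mul, add_mul, one_mul, one_mul, ← pzEl_mul]
    exact (pow_two _).symm

namespace Turn

variable (τ : Turn F)
include τ

theorem pa_cases {m : G} (h : PA F m) : ∃ i j, m = τ.t * pzEl F i j * τ.t⁻¹ := by
  obtain ⟨i, j, hij⟩ := pz_cases (τ.pz_of_pa h)
  exact ⟨i, j, by rw [← hij]; group⟩

/-- The elements centralized by `a` which commute with `e3` lie on a line. -/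
theorem line {m m' : G} (hm : PA F m) (hm' : PA F m') (hc : Commute m F.e3) (hc' : Commute m' F.e3)
    (h1 : m ≠ 1) : m' ∈ Subgroup.zpowers m := by
  obtain ⟨i, j, rfl⟩ := τ.pa_cases hm
  obtain ⟨k, l, rfl⟩ := τ.pa_cases hm'
  have hne : ¬ (i = 0 ∧ j = 0) := fun h => h1 (by rw [h.1, h.2, pzEl_zero]; group)
  rcases (show ∀ i j k l : Fin 3, ¬ (i = 0 ∧ j = 0) → (∃ r, k = r * i ∧ l = r * j) ∨
      ∃ r q, r * i + q * k = 1 ∧ r * j + q * l = 0 by decide) i j k l hne with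
    ⟨r, rfl, rfl⟩ | ⟨r, q, hr, hq⟩
  · rw [pzEl_smul, ← conj_pow]
    exact Subgroup.pow_mem _ (Subgroup.mem_zpowers _) _
  · refine absurd ?_ τ.not_commute_dA
    have h : τ.dA = (τ.t * pzEl F i j * τ.t⁻¹) ^ (r : ℕ) * (τ.t * pzEl F k l * τ.t⁻¹) ^ (q : ℕ) := by
      rw [conj_pow, conj_pow, ← pzEl_smul, ← pzEl_smul, conj_mul, pzEl_mul, hr, hq, dA]
      simp [pzEl]
    rw [h]
    exact (hc.pow_left _).mul_left (hc'.pow_left _)

/-- Such elements commute with `e1`. -/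
theorem commute_e1 {m : G} (hm : PA F m) (hc : Commute m F.e3) (h1 : m ≠ 1) : Commute m F.e1 := by
  classical
  haveI : Fact (Nat.Prime 3) := ⟨Nat.prime_three⟩
  have hC := cyc_e3 F
  let P : Subgroup G := hC.O ⊓ Subgroup.centralizer ({F.y} : Set G)
  let X : Subgroup G := Subgroup.zpowers F.e3
  have hmemP : ∀ {x}, x ∈ P ↔ x ∈ hC.O ∧ Commute x F.y := fun {x} => by
    rw [Subgroup.mem_inf, Subgroup.mem_centralizer_singleton_iff]; rfl
  have hXP : X ≤ P := Subgroup.zpowers_le.2 (hmemP.2 ⟨hC.e_mem, F.y_e3.symm⟩)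
  have hX3 : ∀ f ∈ X, f ^ 3 = 1 := by
    rintro f ⟨k, rfl⟩
    show (F.e3 ^ k) ^ 3 = 1
    rw [← zpow_natCast, ← zpow_mul, mul_comm, zpow_mul, zpow_natCast, F.h3c, one_zpow]
  have hPz : ∀ x ∈ P, z * x * z⁻¹ ∈ P := fun x hx => hmemP.2 ⟨hC.z_norm x (hmemP.1 hx).1, by
    have h := commute_conj (g := z) (hmemP.1 hx).2
    rwa [F.y_img.comm.symm.eq, mul_inv_cancel_right] at h⟩
  have hPa : ∀ x ∈ P, F.a * x * F.a⁻¹ ∈ P := fun x hx => hmemP.2 ⟨a_normO F (hmemP.1 hx).1, by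
    have h := commute_conj (g := F.a) (hmemP.1 hx).2
    rwa [F.a_y.eq, mul_inv_cancel_right] at h⟩
  have hPodd : Odd (Nat.card P) := (coreOf_odd _).of_dvd_nat (Subgroup.card_dvd_of_le inf_le_left)
  have hXz : ∀ f ∈ X, Commute f z := hC.fixed_z
  have hXc : ∀ f ∈ X, ∀ o ∈ hC.O, Commute f o := hC.central
  have hfix : ∀ f ∈ P, Commute f z → f ∈ X := fun f hf => hC.fixed (hmemP.1 hf).1
  have haX : ∀ f ∈ X, F.a * f * F.a⁻¹ = f⁻¹ := by
    rintro f ⟨k, rfl⟩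
    show F.a * F.e3 ^ k * F.a⁻¹ = (F.e3 ^ k)⁻¹
    rw [← conj_zpow, F.a_e3, inv_zpow]
  have hsplitU : ∀ {u u' f f' : G}, u ∈ hC.O → z * u * z⁻¹ = u⁻¹ → z * u' * z⁻¹ = u'⁻¹ → f ∈ X → f' ∈ X →
      u * f = u' * f' → u = u' ∧ f = f' :=
    fun hu hi hi' hf hf' he => split_unique (coreOf_odd _) hC.le_O hXc hXz hu hi hi' hf hf' he
  -- the two components
  have comp : ∀ p ∈ P, z * p * z⁻¹ = p⁻¹ → ∃ u ∈ P, ∃ v ∈ P, ∃ f ∈ X, ∃ g ∈ X, PA F u ∧ PAZ F v ∧
      p * (F.a * p * F.a⁻¹) = u * f ∧ p * (F.a * p * F.a⁻¹)⁻¹ = v * g := by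
    intro p hp hi
    set q := F.a * p * F.a⁻¹ with hq
    have hqP : q ∈ P := hPa p hp
    have hqi : z * q * z⁻¹ = q⁻¹ := by
      rw [hq, show z * (F.a * p * F.a⁻¹) * z⁻¹ = (z * F.a) * p * (z * F.a)⁻¹ by group, ← F.a_z.eq,
        show F.a * z * p * (F.a * z)⁻¹ = F.a * (z * p * z⁻¹) * F.a⁻¹ by group, hi]
      group
    have haq : F.a * q * F.a⁻¹ = p := by
      rw [hq, show F.a * (F.a * p * F.a⁻¹) * F.a⁻¹ = F.a * F.a * p * (F.a * F.a)⁻¹ by group, F.ha2]; group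
    obtain ⟨u, hu, f, hf, hui, hfz, hue⟩ := exists_split D.z_sq hPodd hPz (mul_mem hp hqP)
    obtain ⟨v, hv, g, hg, hvi, hgz, hve⟩ := exists_split D.z_sq hPodd hPz (mul_mem hp (inv_mem hqP))
    have hfX := hfix f hf hfz
    have hgX := hfix g hg hgz
    obtain ⟨k, hk, hke⟩ := hC.comm_inv (hmemP.1 hp).1 (hmemP.1 hqP).1 hi hqi
    have hau : F.a * u * F.a⁻¹ = u := by
      have h2 : (F.a * u * F.a⁻¹) * (f⁻¹ * k) = u * f := by
        have h : F.a * (p * q) * F.a⁻¹ = F.a * (u * f) * F.a⁻¹ := by rw [hue]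
        rw [← conj_mul, ← hq, haq, ← conj_mul, haX f hfX] at h
        rw [← mul_assoc, ← h, ← hke, hue]
      refine (hsplitU (hmemP.1 (hPa u hu)).1 ?_ hui (mul_mem (inv_mem hfX) hk) hfX h2).1
      rw [show z * (F.a * u * F.a⁻¹) * z⁻¹ = (z * F.a) * u * (z * F.a)⁻¹ by group, ← F.a_z.eq,
        show F.a * z * u * (F.a * z)⁻¹ = F.a * (z * u * z⁻¹) * F.a⁻¹ by group, hui]
      group
    have hav : F.a * v * F.a⁻¹ = v⁻¹ := by
      have h2 : (F.a * v * F.a⁻¹) * g⁻¹ = v⁻¹ * g⁻¹ := by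
        have h : F.a * (p * q⁻¹) * F.a⁻¹ = F.a * (v * g) * F.a⁻¹ := by rw [hve]
        rw [← conj_mul, ← conj_inv, ← hq, haq, ← conj_mul, haX g hgX] at h
        rw [← h, show q * p⁻¹ = (p * q⁻¹)⁻¹ by group, hve, mul_inv_rev]
        exact (hXc g hgX v (hmemP.1 hv).1).inv_left.inv_right.eq
      exact mul_right_cancel h2
    refine ⟨u, hu, v, hv, f, hfX, g, hgX, ⟨?_, (hmemP.1 hu).2, (mul_inv_eq_iff_eq_mul.1 hau).symm, hui⟩,
      ⟨?_, (hmemP.1 hv).2, ?_, hvi⟩, hue, hve⟩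
    · exact hPodd.of_dvd_nat (Subgroup.orderOf_dvd_natCard _ hu)
    · exact hPodd.of_dvd_nat (Subgroup.orderOf_dvd_natCard _ hv)
    · have h : F.a * z * v * (F.a * z)⁻¹ = v := by
        rw [show F.a * z * v * (F.a * z)⁻¹ = F.a * (z * v * z⁻¹) * F.a⁻¹ by group, hvi, ← conj_inv, hav,
          inv_inv]
      exact (mul_inv_eq_iff_eq_mul.1 h).symm
  have one_of : ∀ p ∈ P, z * p * z⁻¹ = p⁻¹ → p * p ∈ X → p = 1 := by
    intro p hp hi hpX
    have h := (hXz _ hpX).symm.eq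
    have h2 : z * (p * p) * z⁻¹ = (p * p)⁻¹ := by rw [← conj_mul, hi, mul_inv_rev]
    rw [h, mul_inv_cancel_right, eq_inv_iff_mul_eq_one] at h2
    have h4 : orderOf p ∣ 4 := orderOf_dvd_of_pow_eq_one (by
      rw [show p ^ 4 = p * p * (p * p) by simp only [pow_succ, pow_zero, one_mul, mul_assoc], h2])
    have hcop : Nat.Coprime (orderOf p) 4 := by
      rw [show (4 : ℕ) = 2 ^ 2 from rfl]
      exact (Nat.coprime_two_right.2 (hPodd.of_dvd_nat (Subgroup.orderOf_dvd_natCard _ hp))).pow_right 2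
    exact orderOf_eq_one_iff.1 (hcop.eq_one_of_dvd h4)
  -- the product of the components
  have prod : ∀ p ∈ P, z * p * z⁻¹ = p⁻¹ → ∃ u ∈ P, ∃ v ∈ P, ∃ w ∈ X, PA F u ∧ PAZ F v ∧ p * p = u * v * w ∧
      (Commute p F.e1 → Commute (F.a * p * F.a⁻¹) F.e1 → Commute u F.e1 ∧ Commute v F.e1) := by
    intro p hp hi
    obtain ⟨u, hu, v, hv, f, hf, g, hg, hU, hV, hue, hve⟩ := comp p hp hi
    have hqi : z * (F.a * p * F.a⁻¹) * z⁻¹ = (F.a * p * F.a⁻¹)⁻¹ := by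
      rw [show z * (F.a * p * F.a⁻¹) * z⁻¹ = (z * F.a) * p * (z * F.a)⁻¹ by group, ← F.a_z.eq,
        show F.a * z * p * (F.a * z)⁻¹ = F.a * (z * p * z⁻¹) * F.a⁻¹ by group, hi]
      group
    obtain ⟨k, hk, hke⟩ := hC.comm_inv (hmemP.1 (hPa p hp)).1 (hmemP.1 hp).1 hqi hi
    set q := F.a * p * F.a⁻¹ with hq
    refine ⟨u, hu, v, hv, f * g * k⁻¹, mul_mem (mul_mem hf hg) (inv_mem hk), hU, hV, ?_, fun c1 c2 => ?_⟩
    · have hkc : Commute k q⁻¹ := (hXc k hk q (hmemP.1 (hPa p hp)).1).inv_right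
      have e : p * q * (p * q⁻¹) = p * p * k := by
        rw [mul_assoc p q, ← mul_assoc q p, hke, mul_assoc (p * q) k, hkc.eq, ← mul_assoc (p * q), mul_assoc p q,
          mul_inv_cancel, mul_one, mul_assoc]
      rw [hue, hve] at e
      calc p * p = p * p * k * k⁻¹ := by group
        _ = u * (f * v) * g * k⁻¹ := by rw [← e]; group
        _ = u * v * (f * g * k⁻¹) := by rw [(hXc f hf v (hmemP.1 hv).1).eq]; group
    · have hC1 : F.e1 ∈ Subgroup.centralizer ({F.e3} : Set G) :=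
        Subgroup.mem_centralizer_singleton_iff.2 F.e13.eq
      have hkey : ∀ {w f}, w ∈ P → z * w * z⁻¹ = w⁻¹ → f ∈ X → Commute (w * f) F.e1 → Commute w F.e1 := by
        intro w f hw hwi hf hwf
        have hfc : F.e1 * f * F.e1⁻¹ = f := by
          rw [(commute_of_zpowers hf F.e13.symm).symm.eq, mul_inv_cancel_right]
        have h : F.e1 * w * F.e1⁻¹ * f = w * f := by
          nth_rewrite 1 [← hfc]
          rw [conj_mul, ← hwf.eq, mul_inv_cancel_right]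
        refine (mul_inv_eq_iff_eq_mul.1 (hsplitU (coreOf_normal hC1 (hmemP.1 hw).1) ?_ hwi hf hf h).1).symm
        rw [show z * (F.e1 * w * F.e1⁻¹) * z⁻¹ = (z * F.e1) * w * (z * F.e1)⁻¹ by group, F.h1.comm.symm.eq,
          show F.e1 * z * w * (F.e1 * z)⁻¹ = F.e1 * (z * w * z⁻¹) * F.e1⁻¹ by group, hwi]
        group
      exact ⟨hkey hu hU.2.2.2 hf (hue ▸ c1.mul_left c2), hkey hv hV.2.2.2 hg (hve ▸ c1.mul_left c2.inv_left)⟩
  -- exponent three
  have cube_inv : ∀ p ∈ P, z * p * z⁻¹ = p⁻¹ → p ^ 3 = 1 := by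
    intro p hp hi
    obtain ⟨u, hu, v, hv, w, hw, hU, hV, he, -⟩ := prod p hp hi
    obtain ⟨h, hh, hhe⟩ := hC.comm_inv (hmemP.1 hv).1 (hmemP.1 hu).1 hV.2.2.2 hU.2.2.2
    have h3 := cube_mul hhe (hXc h hh u (hmemP.1 hu).1) (hXc h hh v (hmemP.1 hv).1)
      (τ.cube_pa hU) (τ.cube_paz hV) (hX3 h hh)
    have hwc : Commute (u * v) w :=
      ((hXc w hw u (hmemP.1 hu).1).symm).mul_left (hXc w hw v (hmemP.1 hv).1).symm
    have h6 : p ^ 3 * p ^ 3 = 1 := by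
      rw [← ((Commute.refl p).mul_pow 3), he, hwc.mul_pow, h3, hX3 w hw, one_mul]
    have hd : orderOf p ∣ 3 * 2 := orderOf_dvd_of_pow_eq_one (by
      rw [pow_mul, _root_.sq]; exact h6)
    exact orderOf_dvd_iff_pow_eq_one.1 ((Nat.coprime_two_right.2
      (hPodd.of_dvd_nat (Subgroup.orderOf_dvd_natCard _ hp))).dvd_of_dvd_mul_right hd)
  have hP3 : IsPGroup 3 P := fun x => ⟨1, Subtype.ext (by
    obtain ⟨p, hp, f, hf, hi, hfz, he⟩ := exists_split D.z_sq hPodd hPz x.2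
    show (x : G) ^ 3 ^ 1 = 1
    have hfX := hfix f hf hfz
    rw [pow_one, he, (hXc f hfX p (hmemP.1 hp).1).symm.mul_pow, cube_inv p hp hi, hX3 f hfX, one_mul])⟩
  let S : Type _ := {x : G // x ∈ P ∧ z * x * z⁻¹ = x⁻¹}
  let φ : S × X → P := fun w => ⟨w.1.1 * w.2.1, mul_mem w.1.2.1 (hXP w.2.2)⟩
  have hφ : Function.Bijective φ := by
    constructor
    · rintro ⟨⟨p, hp, hi⟩, ⟨f, hf⟩⟩ ⟨⟨p', hp', hi'⟩, ⟨f', hf'⟩⟩ he
      obtain ⟨h1, h2⟩ := hsplitU (hmemP.1 hp).1 hi hi' hf hf' (congrArg Subtype.val he)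
      subst h1 h2
      rfl
    · rintro ⟨x, hx⟩
      obtain ⟨p, hp, f, hf, hi, hfz, he⟩ := exists_split D.z_sq hPodd hPz hx
      exact ⟨⟨⟨p, hp, hi⟩, ⟨f, hfix f hf hfz⟩⟩, Subtype.ext he.symm⟩
  have hmP : m ∈ P := hmemP.2 ⟨hC.mem_O hc hm.1 hm.2.2.2, hm.2.1⟩
  have hS3 : 3 ∣ Nat.card S := by
    obtain ⟨k, hk⟩ := IsPGroup.iff_card.1 hP3
    rw [← Nat.card_eq_of_bijective φ hφ, Nat.card_prod] at hk
    have hd : Nat.card S ∣ 3 ^ k := Dvd.intro _ hk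
    obtain ⟨i, -, hi⟩ := (Nat.dvd_prime_pow Nat.prime_three).1 hd
    have h2 : 1 < Nat.card S := by
      rw [Finite.one_lt_card_iff_nontrivial]
      exact ⟨⟨⟨m, hmP, hm.2.2.2⟩, ⟨1, one_mem _, by simp⟩, fun e => h1 (congrArg Subtype.val e)⟩⟩
    rw [hi] at h2 ⊢
    rcases i with _ | i
    · simp at h2
    · exact dvd_pow_self 3 i.succ_ne_zero
  letI : Fintype S := Fintype.ofFinite S
  have hconjS : ∀ x : S, F.e1 * x.1 * F.e1⁻¹ ∈ P ∧ z * (F.e1 * x.1 * F.e1⁻¹) * z⁻¹ = (F.e1 * x.1 * F.e1⁻¹)⁻¹ := by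
    rintro ⟨x, hx, hi⟩
    refine ⟨hmemP.2 ⟨coreOf_normal (Subgroup.mem_centralizer_singleton_iff.2 F.e13.eq) (hmemP.1 hx).1, ?_⟩, ?_⟩
    · have h := commute_conj (g := F.e1) (hmemP.1 hx).2
      rwa [show F.e1 * F.y * F.e1⁻¹ = F.y by
        rw [(show Commute F.e1 F.y from (Commute.refl F.e1).mul_right F.e12).eq, mul_inv_cancel_right]] at h
    · rw [show z * (F.e1 * x * F.e1⁻¹) * z⁻¹ = (z * F.e1) * x * (z * F.e1)⁻¹ by group, F.h1.comm.symm.eq,
        show F.e1 * z * x * (F.e1 * z)⁻¹ = F.e1 * (z * x * z⁻¹) * F.e1⁻¹ by group]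
      exact (congrArg (fun w => F.e1 * w * F.e1⁻¹) hi).trans (by group)
  let σ : Perm S := Equiv.ofBijective (fun x => ⟨F.e1 * x.1 * F.e1⁻¹, hconjS x⟩)
    (Finite.injective_iff_bijective.1 fun x y h => Subtype.ext (by simpa using congrArg Subtype.val h))
  have hσ : σ ^ 3 ^ 1 = 1 := by
    refine Equiv.ext fun x => Subtype.ext ?_
    show ((σ ^ 3 ^ 1) x).1 = x.1
    simp only [pow_one, pow_succ, pow_zero, one_mul, Perm.mul_apply, σ, Equiv.ofBijective_apply]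
    have e : F.e1 * F.e1 * F.e1 = 1 := by rw [← _root_.sq, ← pow_succ]; exact F.h1c
    rw [show F.e1 * (F.e1 * (F.e1 * x.1 * F.e1⁻¹) * F.e1⁻¹) * F.e1⁻¹ =
      F.e1 * F.e1 * F.e1 * x.1 * (F.e1 * F.e1 * F.e1)⁻¹ by group, e]
    group
  obtain ⟨⟨p, hp, hi⟩, hpσ, hp1⟩ := Equiv.Perm.exists_fixed_point_of_prime'
    (by rwa [← Nat.card_eq_fintype_card]) hσ (a := (⟨1, one_mem _, by simp⟩ : S)) (Subtype.ext (by simp [σ]))
  have hpe : Commute p F.e1 := (mul_inv_eq_iff_eq_mul.1 (congrArg Subtype.val hpσ)).symm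
  have hye : Commute F.e1 F.y := (Commute.refl F.e1).mul_right F.e12
  have hqe : Commute (F.a * p * F.a⁻¹) F.e1 := by
    have h := commute_conj (g := F.a) hpe
    rw [F.a_e1] at h
    have hq := (hmemP.1 (hPa p hp)).2
    rw [show F.e1 = F.y * F.e2⁻¹ by rw [Frame.y, mul_inv_cancel_right]]
    exact hq.mul_right h.inv_right
  obtain ⟨u, hu, v, hv, w, hw, hU, hV, he, hce⟩ := prod p hp hi
  obtain ⟨hue, hve⟩ := hce hpe hqe
  by_cases hu1 : u = 1
  · by_cases hv1 : v = 1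
    · exact absurd (Subtype.ext (one_of p hp hi (by rw [he, hu1, hv1, one_mul, one_mul]; exact hw))) hp1
    · have hsv := F.pa_of_paz hV
      have hsc : Commute (F.s * v * F.s⁻¹) F.e3 := by
        have h := commute_conj (g := F.s) (hC.comm_O (hmemP.1 hv).1)
        rwa [F.s_e3] at h
      have hse : Commute (F.s * v * F.s⁻¹) F.e1 := by
        have h := (commute_conj (g := F.s) hve).inv_right
        rwa [F.s_e1, inv_inv] at h
      exact commute_of_zpowers (τ.line hsv hm hsc hc (fun h => hv1 (conj_eq_one_iff.1 h))) hse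
  · exact commute_of_zpowers (τ.line hU hm (hC.comm_O (hmemP.1 hu).1) hc hu1) hue

/-- Such elements commute with all elements centralized by `z` and inverted by `a`. -/
theorem commute_pz {m p : G} (hm : PA F m) (hc : Commute m F.e3) (hp : PZ F p) : Commute m p := by
  by_cases h1 : m = 1
  · rw [h1]; exact Commute.one_left p
  have he1 := τ.commute_e1 hm hc h1
  have he2 : Commute m F.e2 := by
    rw [show F.e2 = F.e1⁻¹ * F.y by rw [Frame.y, inv_mul_cancel_left]]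
    exact he1.inv_right.mul_right hm.2.1
  obtain ⟨i, j, rfl⟩ := pz_cases hp
  exact ((he1.mul_right he2.inv_right).pow_right _).mul_right (hc.pow_right _)

/-- The elements centralized by `a` which commute with `e3` are trivial. -/
theorem eq_one_of_pa {m : G} (hm : PA F m) (hc : Commute m F.e3) : m = 1 := by
  classical
  by_contra h1
  set n' := F.s * m * F.s⁻¹ with hn'
  have hn := F.paz_of_pa hm
  have hn3 : Commute n' F.e3 := by
    have h := commute_conj (g := F.s) hc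
    rwa [F.s_e3] at h
  have hnX : ∀ p, PZ F p → Commute n' p := by
    intro p hp
    have hd : ∀ i j, Commute n' (pzEl F i j) := by
      intro i j
      have h := commute_conj (g := F.s) (τ.commute_pz hm hc (pz_d F))
      rw [F.s_d] at h
      exact ((inv_inv F.d ▸ h.inv_right).pow_right _).mul_right (hn3.pow_right _)
    obtain ⟨i, j, rfl⟩ := pz_cases hp
    exact hd i j
  -- first step: the translate lies on the line
  set m2 := τ.t⁻¹ * n' * τ.t with hm2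
  have hm2A : PA F m2 := τ.pa_of_paz' hn
  have hc2 : Commute m2 n' := by
    have h := commute_conj' (g := τ.t) (hnX _ (τ.pz_of_paz hn))
    rwa [show τ.t⁻¹ * (τ.t * n' * τ.t⁻¹) * τ.t = n' by group] at h
  have hn1 : n' ≠ 1 := fun h => h1 (conj_eq_one_iff.1 h)
  have hm21 : m2 ≠ 1 := fun h => hn1 (by
    rw [show n' = τ.t * m2 * τ.t⁻¹ by rw [hm2]; group, h]; group)
  have hm2e : Commute m2 F.e3 := by
    by_contra hno
    obtain ⟨i, j, hij⟩ := τ.pa_cases hm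
    obtain ⟨k, l, hkl⟩ := τ.pa_cases hm2A
    rcases (show ∀ i j k l : Fin 3, ¬ (i = 0 ∧ j = 0) → (∃ r, k = r * i ∧ l = r * j) ∨
        ∃ r q, r * i + q * k = 0 ∧ r * j + q * l = 1 by decide) i j k l
      (fun h => h1 (by rw [hij, h.1, h.2, pzEl_zero]; group)) with ⟨r, hr1, hr2⟩ | ⟨r, q, hr, hq⟩
    · exact hno (by rw [hkl, hr1, hr2, pzEl_smul, ← conj_pow, ← hij]; exact hc.pow_left _)
    · have hmn : Commute m n' := by
        obtain ⟨f, hf, hfe⟩ := (cyc_e3 F).comm_inv ((cyc_e3 F).mem_O hc hm.1 hm.2.2.2)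
          ((cyc_e3 F).mem_O hn3 hn.1 hn.2.2.2) hm.2.2.2 hn.2.2.2
        have he1 := τ.commute_e1 hm hc h1
        have hn1e : Commute n' F.e1 := by
          have h := (commute_conj (g := F.s) he1).inv_right
          rwa [F.s_e1, inv_inv] at h
        obtain ⟨g, hg, hge⟩ := (cyc_e1 F).comm_inv ((cyc_e1 F).mem_O he1 hm.1 hm.2.2.2)
          ((cyc_e1 F).mem_O hn1e hn.1 hn.2.2.2) hm.2.2.2 hn.2.2.2
        have hfg : f = g := mul_left_cancel (hfe.symm.trans hge)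
        obtain ⟨u, rfl⟩ := hf
        obtain ⟨w, hw⟩ := hg
        change F.e1 ^ w = g at hw
        change F.e3 ^ u = g at hfg
        have hu : F.e3 ^ u = 1 := by
          by_contra hu
          have h3 : F.e3 ∈ Subgroup.zpowers (F.e3 ^ u) :=
            mem_zpowers_symm F.h3c ⟨u, rfl⟩ hu
          rw [hfg, ← hw] at h3
          obtain ⟨w', hw'⟩ := Subgroup.zpowers_le.2 (Subgroup.zpow_mem _ (Subgroup.mem_zpowers F.e1) w) h3
          change F.e1 ^ w' = F.e3 at hw'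
          rw [pow_mod_three_zpow F.h1c w'] at hw'
          have h := (hw' ▸ F.h1.pow _ : D.Img F.e3 _).unique F.h3
          exact absurd h ((show ∀ i : ℕ, i < 3 → c1 9 ^ i ≠ c3 9 by decide +kernel) _ (by omega))
        change m * n' = n' * m * F.e3 ^ u at hfe
        rw [hu, mul_one] at hfe
        exact hfe
      have hce : Commute (τ.t * F.e3 * τ.t⁻¹) n' := by
        have h : τ.t * F.e3 * τ.t⁻¹ = m ^ (r : ℕ) * m2 ^ (q : ℕ) := by
          rw [hij, hkl, conj_pow, conj_pow, ← pzEl_smul, ← pzEl_smul, conj_mul, pzEl_mul, hr, hq]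
          simp [pzEl]
        rw [h]
        exact (hmn.pow_left _).mul_left (hc2.pow_left _)
      have h := (commute_conj' (g := τ.t) hce).symm
      rw [show τ.t⁻¹ * (τ.t * F.e3 * τ.t⁻¹) * τ.t = F.e3 by group, ← hm2] at h
      exact hno h
  have hl2 : m ∈ Subgroup.zpowers m2 := τ.line hm2A hm hm2e hc hm21
  have hl2' : m2 ∈ Subgroup.zpowers m := τ.line hm hm2A hc hm2e h1
  have htm : τ.t * m * τ.t⁻¹ ∈ Subgroup.zpowers n' := by
    have h := zpowers_conj (g := τ.t) hl2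
    rwa [show τ.t * m2 * τ.t⁻¹ = n' by rw [hm2]; group] at h
  have hntm : n' ∈ Subgroup.zpowers (τ.t * m * τ.t⁻¹) := by
    have h := zpowers_conj (g := τ.t) hl2'
    rwa [show τ.t * m2 * τ.t⁻¹ = n' by rw [hm2]; group] at h
  set p0 := τ.t * n' * τ.t⁻¹ with hp0
  have hp0Z : PZ F p0 := τ.pz_of_paz hn
  have hp01 : p0 ≠ 1 := fun h => hn1 (conj_eq_one_iff.1 h)
  -- `p0` commutes with everything centralized by `a` or `a * z`
  have hp0A : ∀ q, PA F q → Commute p0 q := by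
    intro q hq
    have h := commute_conj (g := τ.t) (hnX _ (τ.pz_of_pa hq))
    rwa [show τ.t * (τ.t⁻¹ * q * τ.t) * τ.t⁻¹ = q by group] at h
  have hnA : ∀ q, PA F q → Commute n' q := by
    intro q hq
    have h := commute_conj (g := τ.t) (τ.commute_pz hm hc (τ.pz_of_pa hq))
    rw [show τ.t * (τ.t⁻¹ * q * τ.t) * τ.t⁻¹ = q by group] at h
    exact commute_of_zpowers hntm h
  have hp0W : ∀ w, PAZ F w → Commute p0 w := by
    intro w hw
    have h := commute_conj (g := τ.t) (hnA _ (τ.pa_of_paz' hw))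
    rwa [show τ.t * (τ.t⁻¹ * w * τ.t) * τ.t⁻¹ = w by group] at h
  set c' := τ.t * F.e3 * τ.t⁻¹ with hc'
  have hline : ∀ p, PZ F p → Commute p c' → p ∈ Subgroup.zpowers p0 := by
    intro p hp hpc
    have hw := τ.paz_of_pz' hp
    have hwe : Commute (τ.t⁻¹ * p * τ.t) F.e3 := by
      have h := commute_conj' (g := τ.t) hpc
      rwa [show τ.t⁻¹ * c' * τ.t = F.e3 by rw [hc']; group] at h
    have hsA := F.pa_of_paz hw
    have hse : Commute (F.s * (τ.t⁻¹ * p * τ.t) * F.s⁻¹) F.e3 := by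
      have h := commute_conj (g := F.s) hwe
      rwa [F.s_e3] at h
    have h := zpowers_conj (g := F.s) (τ.line hm hsA hc hse h1)
    rw [← hn', show F.s * (F.s * (τ.t⁻¹ * p * τ.t) * F.s⁻¹) * F.s⁻¹ =
      (F.s * F.s) * (τ.t⁻¹ * p * τ.t) * (F.s * F.s)⁻¹ by group, F.s_sq, hw.2.2.2] at h
    have h2 := zpowers_conj (g := τ.t) (inv_mem h)
    rwa [inv_inv, show τ.t * (τ.t⁻¹ * p * τ.t) * τ.t⁻¹ = p by group, ← hp0] at h2
  -- the fixed line of `s`
  obtain ⟨i, j, hij⟩ := pz_cases hp0Z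
  have hs0 : F.s * p0 * F.s⁻¹ ∈ Subgroup.zpowers p0 := by
    refine hline _ ?_ ?_
    · rw [hij, pzEl, ← conj_mul, ← conj_pow, ← conj_pow, F.s_d, F.s_e3]
      refine ⟨odd_of_cube ?_, ?_, ?_, ?_⟩
      · rw [(F.d_e3.inv_left.pow_pow _ _).mul_pow, ← pow_mul, ← pow_mul, mul_comm _ 3, mul_comm _ 3, pow_mul,
          pow_mul, inv_pow, F.d_cube, F.h3c, inv_one, one_pow, one_pow, one_mul]
      · exact ((F.y_d.symm.inv_left.pow_left _).mul_left (F.y_e3.symm.pow_left _))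
      · exact ((F.d_img.comm.inv_left.pow_left _).mul_left (F.h3.comm.pow_left _))
      · rw [← conj_mul, ← conj_pow, ← conj_pow, ← conj_inv, F.a_d, F.a_e3, inv_inv, inv_pow, inv_pow,
          mul_inv_rev, inv_inv]
        exact ((F.d_e3.pow_pow (i : ℕ) (j : ℕ)).inv_right).eq
    · have hsc := F.paz_of_pa (τ.pa_of_pz (pz_e3 F))
      have h := commute_conj (g := F.s) (hp0W _ hsc).inv_right
      rw [← hc'] at h
      have e : F.s * (F.s * c' * F.s⁻¹)⁻¹ * F.s⁻¹ = c' := by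
        rw [show F.s * (F.s * c' * F.s⁻¹)⁻¹ * F.s⁻¹ = (F.s * F.s) * c'⁻¹ * (F.s * F.s)⁻¹ by group, F.s_sq,
          ← conj_inv, (τ.pa_of_pz (pz_e3 F)).2.2.2, inv_inv]
      rwa [e] at h
  -- an odd power of `t` maps `d` and `e3` to powers of themselves
  obtain ⟨π, hπ, hπd, hπc⟩ : ∃ π, D.Img (τ.t * τ.t * τ.t) π ∧
      (π * pd 9 * π⁻¹ = pd 9 ∨ π * pd 9 * π⁻¹ = (pd 9)⁻¹) ∧
      (π * c3 9 * π⁻¹ = c3 9 ∨ π * c3 9 * π⁻¹ = (c3 9)⁻¹) := by
    have hz3 : τ.t * τ.t * τ.t * z * (τ.t * τ.t * τ.t)⁻¹ = z := by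
      rw [show τ.t * τ.t * τ.t * z * (τ.t * τ.t * τ.t)⁻¹ = τ.t * (τ.t * (τ.t * z * τ.t⁻¹) * τ.t⁻¹) * τ.t⁻¹ by
        group, τ.tz, τ.ta, τ.taz]
    have ha3 : τ.t * τ.t * τ.t * F.a * (τ.t * τ.t * τ.t)⁻¹ = F.a := by
      rw [show τ.t * τ.t * τ.t * F.a * (τ.t * τ.t * τ.t)⁻¹ = τ.t * (τ.t * (τ.t * F.a * τ.t⁻¹) * τ.t⁻¹) * τ.t⁻¹ by
        group, τ.ta, τ.taz, τ.tz]
    obtain ⟨π, hπ⟩ := D.img_of_comm (mul_inv_eq_iff_eq_mul.1 hz3)
    have hy3 : Commute (τ.t * τ.t * τ.t) F.y := (τ.ty.mul_left τ.ty).mul_left τ.ty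
    exact ⟨π, hπ, turn_nine π (mem_listNine ((hπ.mul F.y_img).unique (hy3.eq ▸ F.y_img.mul hπ)) hπ.sgn)
      ((hπ.mul F.ha).unique ((mul_inv_eq_iff_eq_mul.1 ha3) ▸ F.ha.mul hπ))⟩
  have back : ∀ {x : G} {ρ : Perm (Fin 9)}, D.Img x ρ → x ^ 3 = 1 →
      (π * ρ * π⁻¹ = ρ ∨ π * ρ * π⁻¹ = ρ⁻¹) → p0 ∈ Subgroup.zpowers x →
      m ∈ Subgroup.zpowers (τ.t * x * τ.t⁻¹) := by
    intro x ρ hx hx3 hπx hp
    have hx' : τ.t⁻¹ * τ.t⁻¹ * τ.t⁻¹ * x * (τ.t⁻¹ * τ.t⁻¹ * τ.t⁻¹)⁻¹ ∈ Subgroup.zpowers x := by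
      have he : τ.t * τ.t * τ.t * x * (τ.t * τ.t * τ.t)⁻¹ = x ∨
          τ.t * τ.t * τ.t * x * (τ.t * τ.t * τ.t)⁻¹ = x⁻¹ := by
        rcases hπx with e | e
        · exact Or.inl (Frame.conj_eq hπ hx hx hx3 hx3 e)
        · exact Or.inr (Frame.conj_eq hπ hx hx.inv hx3 (by rw [inv_pow, hx3, inv_one]) e)
      rcases he with e | e
      · refine ⟨1, ?_⟩
        show x ^ (1 : ℤ) = _
        rw [zpow_one]; nth_rewrite 2 [← e]; group
      · refine ⟨-1, ?_⟩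
        show x ^ (-1 : ℤ) = _
        rw [zpow_neg_one]
        calc x⁻¹ = ((τ.t * τ.t * τ.t)⁻¹ * (τ.t * τ.t * τ.t * x * (τ.t * τ.t * τ.t)⁻¹) *
              (τ.t * τ.t * τ.t))⁻¹ := by group
          _ = _ := by rw [e]; simp only [mul_inv_rev, inv_inv, mul_assoc]
    -- `m` is a power of `t⁻² x t²`
    have h2 := zpowers_conj (g := τ.t⁻¹) hp
    rw [inv_inv, show τ.t⁻¹ * p0 * τ.t = n' by rw [hp0]; group] at h2
    have h3 := zpowers_conj (g := τ.t⁻¹) h2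
    rw [inv_inv, ← hm2] at h3
    have h4 : τ.t⁻¹ * (τ.t⁻¹ * x * τ.t) * τ.t ∈ Subgroup.zpowers (τ.t * x * τ.t⁻¹) := by
      have h := zpowers_conj (g := τ.t) hx'
      rwa [show τ.t * (τ.t⁻¹ * τ.t⁻¹ * τ.t⁻¹ * x * (τ.t⁻¹ * τ.t⁻¹ * τ.t⁻¹)⁻¹) * τ.t⁻¹ =
        τ.t⁻¹ * (τ.t⁻¹ * x * τ.t) * τ.t by
          simp only [mul_inv_rev, inv_inv, mul_assoc, mul_inv_cancel_left, mul_inv_cancel, mul_one]] at h
    exact Subgroup.zpowers_le.2 (Subgroup.zpowers_le.2 h4 h3) hl2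
  rw [hij, pzEl] at hs0
  rw [← conj_mul, ← conj_pow, ← conj_pow, F.s_d, F.s_e3] at hs0
  obtain ⟨k, hk⟩ := hs0
  change (F.d ^ (i : ℕ) * F.e3 ^ (j : ℕ)) ^ k = F.d⁻¹ ^ (i : ℕ) * F.e3 ^ (j : ℕ) at hk
  have hcube : (F.d ^ (i : ℕ) * F.e3 ^ (j : ℕ)) ^ 3 = 1 := by
    have := τ.cube_pz hp0Z
    rwa [hij, pzEl] at this
  rw [pow_mod_three_zpow hcube k] at hk
  have himg := ((F.d_img.pow (i : ℕ)).mul (F.h3.pow (j : ℕ))).pow (k % 3).toNat
  rw [hk] at himg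
  have heq := ((F.d_img.inv.pow (i : ℕ)).mul (F.h3.pow (j : ℕ))).unique himg
  rcases (show ∀ i j : Fin 3, ∀ k : ℕ, k < 3 → (pd 9)⁻¹ ^ (i : ℕ) * c3 9 ^ (j : ℕ) =
      (pd 9 ^ (i : ℕ) * c3 9 ^ (j : ℕ)) ^ k → i = 0 ∨ j = 0 by decide +kernel) i j _ (by omega) heq with
    rfl | rfl
  · -- `p0` is a power of `e3`
    have hp : p0 ∈ Subgroup.zpowers F.e3 := by
      rw [hij, pzEl]; simpa using Subgroup.pow_mem _ (Subgroup.mem_zpowers F.e3) _
    have hmc := back F.h3 F.h3c hπc hp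
    have hcm := mem_zpowers_symm (τ.cube_pa (τ.pa_of_pz (pz_e3 F))) hmc h1
    have hdc : Commute F.d c' := (commute_of_zpowers hcm (τ.commute_pz hm hc (pz_d F))).symm
    obtain ⟨u, hu⟩ := Subgroup.zpowers_le.2 hp (hline _ (pz_d F) hdc)
    change F.e3 ^ u = F.d at hu
    rw [pow_mod_three_zpow F.h3c u] at hu
    have h := (hu ▸ F.h3.pow _ : D.Img F.d _).unique F.d_img
    exact absurd h ((show ∀ i : ℕ, i < 3 → c3 9 ^ i ≠ pd 9 by decide +kernel) _ (by omega))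
  · -- `p0` is a power of `d`
    have hp : p0 ∈ Subgroup.zpowers F.d := by
      rw [hij, pzEl]; simpa using Subgroup.pow_mem _ (Subgroup.mem_zpowers F.d) _
    have hmd := back F.d_img F.d_cube hπd hp
    exact τ.not_commute_dA (commute_of_zpowers (mem_zpowers_symm (τ.cube_pa τ.dA_pa) hmd h1) hc)

end Turn

end CfsgLib.DoubleAlt
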