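import Cfsg.Agent.DoubleAlt.Tab
import Mathlib.GroupTheory.Sylow
import Mathlib.GroupTheory.PGroup
import Mathlib.NumberTheory.Padics.PadicVal.Basic

/-!
# Degree ten: a Sylow three-subgroup and the abelian subgroups normalized by `py`
-/

set_option autoImplicit false
set_option maxRecDepth 100000
set_option maxHeartbeats 1000000
set_option linter.style.haveILetI false

namespace CfsgLib.DoubleAlt

open Equiv Equiv.Perm

/-- The permutation of the three three-cycles. -/
def pτ : Perm (Fin 10) := sw 0 3 * sw 3 6 * (sw 1 4 * sw 4 7) * (sw 2 5 * sw 5 8)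

/-- The elements of a Sylow three-subgroup. -/
def sylList : List (Perm (Fin 10)) :=
  (baseList 10).flatMap fun u => [1, pτ, pτ * pτ].map fun v => u * v

/-- The seven-cycle. -/
def pw : Perm (Fin 10) := sw 0 1 * sw 1 2 * sw 2 3 * sw 3 4 * sw 4 5 * sw 5 9

/-- A double transposition commuting with the third three-cycle. -/
def pj : Perm (Fin 10) := sw 3 9 * sw 4 5

theorem seven_facts : pw ^ 7 = 1 ∧ pw * c3 10 = c3 10 * pw ∧ pj * c3 10 = c3 10 * pj ∧
    pw * (pj * pw * pj⁻¹) * (pw * (pj * pw * pj⁻¹)) = 1 ∧ nMoved (pw * (pj * pw * pj⁻¹)) = 4 := by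
  decide +kernel

theorem sign_pw : sign pw = 1 := by
  simp only [pw, sw_eq, map_mul]
  rw [sign_swap (by decide), sign_swap (by decide), sign_swap (by decide), sign_swap (by decide),
    sign_swap (by decide), sign_swap (by decide)]
  decide

theorem sign_pj : sign pj = 1 := by
  simp only [pj, sw_eq, map_mul]
  rw [sign_swap (by decide), sign_swap (by decide)]
  decide

theorem sylList_left : ∀ q ∈ sylList, c1 10 * q ∈ sylList ∧ c2 10 * q ∈ sylList ∧ c3 10 * q ∈ sylList ∧
    pτ * q ∈ sylList ∧ (c1 10)⁻¹ * q ∈ sylList ∧ (c2 10)⁻¹ * q ∈ sylList ∧ (c3 10)⁻¹ * q ∈ sylList ∧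
    pτ⁻¹ * q ∈ sylList := of_all (by decide +kernel)

theorem sylList_facts : ∀ q ∈ sylList, q ^ 9 = 1 ∧ (q * q * q = 1 → nMoved q = 6 → q ∈ baseList 10) ∧
    (q ∉ baseList 10 → (sylList.filter fun r => decide (r * q = q * r)).length ≤ 9) :=
  of_all (by decide +kernel)

theorem sylList_nodup : sylList.Nodup := by decide +kernel

theorem sylList_length : sylList.length = 81 ∧ (baseList 10).length = 27 ∧ nMoved (py 10) = 6 := by
  decide +kernel

/-- A Sylow three-subgroup. -/
def sylGrp : Subgroup (Perm (Fin 10)) := Subgroup.closure {c1 10, c2 10, c3 10, pτ}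

theorem mem_sylGrp {q : Perm (Fin 10)} (h : q ∈ sylGrp) : q ∈ sylList := by
  refine Subgroup.closure_induction_left (p := fun q _ => q ∈ sylList) (by decide +kernel) ?_ ?_ h
  · intro x hx y _ hy
    obtain ⟨h1, h2, h3, h4, -⟩ := sylList_left y hy
    rcases hx with rfl | rfl | rfl | rfl <;> assumption
  · intro x hx y _ hy
    obtain ⟨-, -, -, -, h1, h2, h3, h4⟩ := sylList_left y hy
    rcases hx with rfl | rfl | rfl | rfl <;> assumption

theorem sylList_sub {q : Perm (Fin 10)} (h : q ∈ sylList) : q ∈ sylGrp := by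
  have g1 : c1 10 ∈ sylGrp := Subgroup.subset_closure (by simp)
  have g2 : c2 10 ∈ sylGrp := Subgroup.subset_closure (by simp)
  have g3 : c3 10 ∈ sylGrp := Subgroup.subset_closure (by simp)
  have g4 : pτ ∈ sylGrp := Subgroup.subset_closure (by simp)
  simp only [sylList, baseList, sixList, List.mem_flatMap, List.mem_map] at h
  obtain ⟨_, ⟨_, ⟨u, hu, v, hv, rfl⟩, w, hw, rfl⟩, x, hx, rfl⟩ := h
  have key : ∀ {g : Perm (Fin 10)}, g ∈ sylGrp → ∀ w ∈ [1, g, g * g], w ∈ sylGrp := fun {g} hg w hw => by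
    simp only [List.mem_cons, List.not_mem_nil, or_false] at hw
    rcases hw with rfl | rfl | rfl
    exacts [one_mem _, hg, mul_mem hg hg]
  exact mul_mem (mul_mem (mul_mem (key g1 u hu) (key g2 v hv)) (key g3 w hw)) (key g4 x hx)

/-- An abelian three-subgroup normalized by `py` and not containing it has at most nine elements. -/
theorem abelian_le_nine {A : Subgroup (Perm (Fin 10))} (hA : IsPGroup 3 A)
    (hc : ∀ u ∈ A, ∀ v ∈ A, u * v = v * u) (hn : py 10 ∈ Subgroup.normalizer (A : Set (Perm (Fin 10))))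
    (hy : py 10 ∉ A) : Nat.card A < 27 := by
  classical
  by_contra hlt
  rw [not_lt] at hlt
  haveI : Fact (Nat.Prime 3) := ⟨Nat.prime_three⟩
  have hy3 : py 10 ^ 3 = 1 := by decide +kernel
  have hY : IsPGroup 3 (Subgroup.zpowers (py 10)) := by
    rintro ⟨x, k, rfl⟩
    refine ⟨1, Subtype.ext ?_⟩
    show (py 10 ^ k) ^ 3 ^ 1 = 1
    rw [pow_one, ← zpow_natCast, ← zpow_mul, mul_comm, zpow_mul, zpow_natCast, hy3, one_zpow]
  have hH : IsPGroup 3 ↥(A ⊔ Subgroup.zpowers (py 10)) := by
    rw [sup_comm]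
    exact hY.to_sup_of_normal_right' hA (Subgroup.zpowers_le.2 hn)
  obtain ⟨Q, hQ⟩ := hH.exists_le_sylow
  have hR : IsPGroup 3 sylGrp := fun x => ⟨2, Subtype.ext (sylList_facts _ (mem_sylGrp x.2)).1⟩
  obtain ⟨P, hP⟩ := hR.exists_le_sylow
  have hPcard : Nat.card (P : Subgroup (Perm (Fin 10))) = 81 := by
    rw [Sylow.card_eq_multiplicity, Nat.card_eq_fintype_card, Fintype.card_perm, Fintype.card_fin]
    have h : Nat.factorization (Nat.factorial 10) 3 = 4 := by
      rw [Nat.factorization_def _ Nat.prime_three]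
      have : Nat.factorial 10 = 3 ^ 4 * 44800 := by decide
      rw [this, padicValNat.mul (by decide) (by decide), padicValNat.prime_pow,
        padicValNat.eq_zero_of_not_dvd (by decide)]
    rw [h]
    norm_num
  have hPeq : (P : Subgroup (Perm (Fin 10))) = sylGrp := by
    refine (Subgroup.eq_of_le_of_card_ge hP ?_).symm
    rw [hPcard]
    have h := Nat.card_le_card_of_injective (fun q : {x // x ∈ sylList} => (⟨q.1, sylList_sub q.2⟩ : sylGrp))
      fun a b h => Subtype.ext (congrArg (fun t : sylGrp => (t : Perm (Fin 10))) h)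
    rw [Nat.card_eq_fintype_card, Fintype.card_of_subtype sylList.toFinset (fun x => List.mem_toFinset),
      List.toFinset_card_of_nodup sylList_nodup, sylList_length.1] at h
    exact h
  obtain ⟨g, hg⟩ := MulAction.exists_smul_eq (Perm (Fin 10)) Q P
  have hin : ∀ u ∈ A ⊔ Subgroup.zpowers (py 10), g * u * g⁻¹ ∈ sylList := by
    intro u hu
    refine mem_sylGrp ?_
    rw [← hPeq, ← hg]
    exact ⟨u, hQ hu, rfl⟩
  set q := g * py 10 * g⁻¹ with hq
  have hqb : q ∈ baseList 10 := by
    refine (sylList_facts q (hin _ (Subgroup.mem_sup_right (Subgroup.mem_zpowers _)))).2.1 ?_ ?_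
    · rw [← _root_.sq, ← pow_succ, hq, conj_pow, hy3, mul_one, mul_inv_cancel]
    · rw [nMoved_eq, hq, ← sum_cycleType, cycleType_conj, sum_cycleType, ← nMoved_eq, sylList_length.2.2]
  let A0 : Finset (Perm (Fin 10)) := Finset.image (fun u : A => g * u.1 * g⁻¹) Finset.univ
  have hA0 : A0.card = Nat.card A := by
    rw [Finset.card_image_of_injective, Finset.card_univ, Nat.card_eq_fintype_card]
    intro u v h
    exact Subtype.ext (by simpa using h)
  have hsub : A0 ⊆ (baseList 10).toFinset := by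
    intro r hr
    simp only [A0, Finset.mem_image, Finset.mem_univ, true_and] at hr
    obtain ⟨u, rfl⟩ := hr
    rw [List.mem_toFinset]
    by_contra hb
    have h9 := (sylList_facts _ (hin _ (Subgroup.mem_sup_left u.2))).2.2 hb
    have hs : A0 ⊆ (sylList.filter fun r => decide (r * (g * u.1 * g⁻¹) = g * u.1 * g⁻¹ * r)).toFinset := by
      intro r hr
      simp only [A0, Finset.mem_image, Finset.mem_univ, true_and] at hr
      obtain ⟨v, rfl⟩ := hr
      rw [List.mem_toFinset, List.mem_filter, decide_eq_true_iff]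
      refine ⟨hin _ (Subgroup.mem_sup_left v.2), ?_⟩
      rw [conj_mul, conj_mul, hc _ v.2 _ u.2]
    have := (Finset.card_le_card hs).trans (List.toFinset_card_le _)
    omega
  have hle : (baseList 10).toFinset.card ≤ A0.card := by
    refine (List.toFinset_card_le _).trans ?_
    rw [sylList_length.2.1, hA0]
    exact hlt
  have hmem : q ∈ A0 := by
    rw [Finset.eq_of_subset_of_card_le hsub hle, List.mem_toFinset]
    exact hqb
  simp only [A0, Finset.mem_image, Finset.mem_univ, true_and] at hmem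
  obtain ⟨u, hu⟩ := hmem
  rw [hq] at hu
  have h : u.1 = py 10 := mul_left_cancel (mul_right_cancel hu)
  exact hy (h ▸ u.2)

end CfsgLib.DoubleAlt
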