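import Cfsg.Agent.DoubleAlt.Cycle
import Cfsg.Agent.DoubleAlt.TenPerm

/-!
# Degree ten: no inverted three-elements commute with a lift of a three-cycle
-/

set_option autoImplicit false
set_option maxRecDepth 100000
set_option maxHeartbeats 1000000
set_option linter.style.haveILetI false
set_option linter.unusedSectionVars false

namespace CfsgLib.DoubleAlt

open Equiv Equiv.Perm

variable {G : Type*} [Group G] [Finite G] {z : G}

section cyc

variable {n : ℕ} [NeZero n] {D : Data z n} {e : G} {γ : Perm (Fin n)}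

/-- All commutators in the core are powers of `e`. -/
theorem Cyc.comm_all (h : Cyc D e γ) {g g' : G} (hg : g ∈ h.O) (hg' : g' ∈ h.O) :
    ∃ k ∈ Subgroup.zpowers e, g * g' = g' * g * k := by
  obtain ⟨m, hm, f, hf, hi, hfz, rfl⟩ := exists_split D.z_sq (coreOf_odd _) h.z_norm hg
  obtain ⟨m', hm', f', hf', hi', hfz', rfl⟩ := exists_split D.z_sq (coreOf_odd _) h.z_norm hg'
  obtain ⟨k, hk, hke⟩ := h.comm_inv hm hm' hi hi'
  refine ⟨k, hk, ?_⟩
  have c1 := h.central f (h.fixed hf hfz)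
  have c2 := h.central f' (h.fixed hf' hfz')
  have c3 := h.central k hk
  calc m * f * (m' * f') = m * (f * m') * f' := by simp only [mul_assoc]
    _ = m * m' * (f * f') := by rw [(c1 m' hm').eq]; simp only [mul_assoc]
    _ = m' * m * (k * (f * f')) := by rw [hke]; simp only [mul_assoc]
    _ = m' * m * (f' * f) * k := by
        rw [(c3 (f * f') (mul_mem hf hf')).eq, (c1 f' hf').eq]; simp only [mul_assoc]
    _ = m' * (f' * m) * f * k := by rw [(c2 m hm).eq]; simp only [mul_assoc]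
    _ = m' * f' * (m * f) * k := by simp only [mul_assoc]

theorem Cyc.pow_mul' (h : Cyc D e γ) {x w : G} (hx : x ∈ h.O) (hw : w ∈ h.O) (m : ℕ) :
    ∃ k ∈ Subgroup.zpowers e, (x * w) ^ m = x ^ m * w ^ m * k := by
  induction m with
  | zero => exact ⟨1, one_mem _, by simp⟩
  | succ m ih =>
    obtain ⟨k, hk, he⟩ := ih
    obtain ⟨l, hl, hle⟩ := h.comm_all (pow_mem hw m) hx
    have hkc := h.central k hk _ (mul_mem hx hw)
    have hlc := h.central l hl w hw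
    refine ⟨l * k, mul_mem hl hk, ?_⟩
    rw [pow_succ, he, mul_assoc (x ^ m * w ^ m) k, hkc.eq]
    calc x ^ m * w ^ m * (x * w * k) = x ^ m * (w ^ m * x) * w * k := by simp only [mul_assoc]
      _ = x ^ m * x * w ^ m * (l * w) * k := by rw [hle]; simp only [mul_assoc]
      _ = x ^ (m + 1) * w ^ (m + 1) * (l * k) := by rw [hlc.eq, pow_succ, pow_succ]; simp only [mul_assoc]

/-- The three-elements of the core. -/
def Cyc.P (h : Cyc D e γ) : Subgroup G where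
  carrier := {x | x ∈ h.O ∧ ∃ k : ℕ, x ^ 3 ^ k = 1}
  one_mem' := ⟨one_mem _, 0, one_pow _⟩
  mul_mem' := by
    rintro x w ⟨hx, i, hi⟩ ⟨hw, j, hj⟩
    refine ⟨mul_mem hx hw, i + j + 1, ?_⟩
    obtain ⟨k, ⟨u, rfl⟩, hk⟩ := h.pow_mul' hx hw (3 ^ (i + j))
    have e3 : (e ^ u) ^ 3 = 1 := by
      rw [← zpow_natCast, ← zpow_mul, mul_comm, zpow_mul, zpow_natCast, h.cube, one_zpow]
    rw [pow_succ, pow_mul, hk, pow_add, pow_mul x, hi, one_pow, one_mul, mul_comm (3 ^ i), pow_mul w, hj,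
      one_pow, one_mul]
    exact e3
  inv_mem' := by
    rintro x ⟨hx, i, hi⟩
    exact ⟨inv_mem hx, i, by rw [inv_pow, hi, inv_one]⟩

theorem Cyc.mem_P (h : Cyc D e γ) {x : G} : x ∈ h.P ↔ x ∈ h.O ∧ ∃ k : ℕ, x ^ 3 ^ k = 1 := Iff.rfl

theorem Cyc.zpowers_le_P (h : Cyc D e γ) : Subgroup.zpowers e ≤ h.P :=
  Subgroup.zpowers_le.2 ⟨h.e_mem, 1, by rw [pow_one, h.cube]⟩

/-- Automorphisms fixing the subgroup of `e` preserve the three-elements of the core. -/
theorem Cyc.conj_P (h : Cyc D e γ) {u : G} (hu : u * e * u⁻¹ = e ∨ u * e * u⁻¹ = e⁻¹) {x : G} (hx : x ∈ h.P) :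
    u * x * u⁻¹ ∈ h.P := by
  obtain ⟨hxO, k, hk⟩ := hx
  refine ⟨coreOf_conj (fun w => ?_) hxO, k, by rw [conj_pow, hk, mul_one, mul_inv_cancel]⟩
  rw [Subgroup.mem_centralizer_singleton_iff, Subgroup.mem_centralizer_singleton_iff]
  constructor
  · intro hw
    have h' : Commute (u * w * u⁻¹) (u * e * u⁻¹) := commute_conj (show Commute w e from hw)
    rcases hu with e' | e' <;> rw [e'] at h'
    · exact h'
    · exact inv_inv e ▸ h'.inv_right
  · intro hw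
    have h' : Commute (u * w * u⁻¹) (u * e * u⁻¹) := by
      rcases hu with e' | e' <;> rw [e']
      · exact hw
      · exact (show Commute _ e from hw).inv_right
    have h'' := commute_conj (g := u⁻¹) h'
    rwa [inv_inv, show u⁻¹ * (u * w * u⁻¹) * u = w by group, show u⁻¹ * (u * e * u⁻¹) * u = e by group] at h''

/-- The inverted elements of an invariant three-subgroup containing `e`. -/
abbrev Cyc.Inv (_h : Cyc D e γ) (Q : Subgroup G) : Type _ := {x : G // x ∈ Q ∧ z * x * z⁻¹ = x⁻¹}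

theorem Cyc.card_inv (h : Cyc D e γ) {Q : Subgroup G} (hQ : Q ≤ h.P) (heQ : Subgroup.zpowers e ≤ Q)
    (hz : ∀ x ∈ Q, z * x * z⁻¹ ∈ Q) : ∃ k, Nat.card (h.Inv Q) = 3 ^ k := by
  haveI : Fact (Nat.Prime 3) := ⟨Nat.prime_three⟩
  have hQ3 : IsPGroup 3 Q := fun x => by
    obtain ⟨-, k, hk⟩ := hQ x.2
    exact ⟨k, Subtype.ext hk⟩
  have hQo : Odd (Nat.card Q) := by
    obtain ⟨k, hk⟩ := IsPGroup.iff_card.1 hQ3
    rw [hk]; exact Odd.pow (by decide)
  let φ : h.Inv Q × Subgroup.zpowers e → Q := fun w => ⟨w.1.1 * w.2.1, mul_mem w.1.2.1 (heQ w.2.2)⟩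
  have hφ : Function.Bijective φ := by
    constructor
    · rintro ⟨⟨p, hp, hi⟩, ⟨f, hf⟩⟩ ⟨⟨p', hp', hi'⟩, ⟨f', hf'⟩⟩ he
      obtain ⟨h1, h2⟩ := split_unique (coreOf_odd _) h.le_O h.central h.fixed_z (hQ hp).1 hi hi' hf hf'
        (congrArg Subtype.val he)
      subst h1 h2
      rfl
    · rintro ⟨x, hx⟩
      obtain ⟨p, hp, f, hf, hi, hfz, he⟩ := exists_split D.z_sq hQo hz hx
      exact ⟨⟨⟨p, hp, hi⟩, ⟨f, h.fixed (hQ hf).1 hfz⟩⟩, Subtype.ext he.symm⟩
  obtain ⟨k, hk⟩ := IsPGroup.iff_card.1 hQ3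
  rw [← Nat.card_eq_of_bijective φ hφ, Nat.card_prod] at hk
  obtain ⟨i, -, hi⟩ := (Nat.dvd_prime_pow Nat.prime_three).1 (Dvd.intro _ hk)
  exact ⟨i, hi⟩

end cyc

variable {D : Data z 10} {F : Frame D tabTen}

theorem cyc_ten (F : Frame D tabTen) : Cyc D F.e3 (c3 10) :=
  ⟨F.h3, F.h3c, by
    rw [c3, sw_eq, sw_eq, swap_comm (6 : Fin 10) 7]
    exact isThreeCycle_swap_mul_swap_same (by decide) (by decide) (by decide), le_refl 10, by decide⟩

/-- At most nine three-elements of the core commute with `a`. -/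
theorem card_CA (τ : Turn F) :
    Nat.card ↥((cyc_ten F).P ⊓ Subgroup.centralizer ({F.a} : Set G)) ≤ 9 := by
  classical
  haveI : Fact (Nat.Prime 3) := ⟨Nat.prime_three⟩
  set h := cyc_ten F with hh
  set A := h.P ⊓ Subgroup.centralizer ({F.a} : Set G) with hA
  have hmem : ∀ {x}, x ∈ A ↔ x ∈ h.P ∧ Commute x F.a := fun {x} => by
    rw [hA, Subgroup.mem_inf, Subgroup.mem_centralizer_singleton_iff]; rfl
  have hinv : ∀ x ∈ A, z * x * z⁻¹ = x⁻¹ := fun x hx =>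
    h.inverted_of_fixed F.a_z F.a_e3 (hmem.1 hx).1.1 (hmem.1 hx).2
  have hcomm : ∀ u ∈ A, ∀ v ∈ A, u * v = v * u := by
    intro u hu v hv
    have h1 := hinv _ (mul_mem hu hv)
    rw [← conj_mul, hinv u hu, hinv v hv] at h1
    have := congrArg (fun w => w⁻¹) h1
    simpa using this.symm
  let B : Subgroup G := A.map (MulAut.conj τ.t⁻¹).toMonoidHom
  have hB : ∀ {x}, x ∈ B ↔ ∃ u ∈ A, τ.t⁻¹ * u * τ.t = x := fun {x} => by simp [B, Subgroup.mem_map]
  have hBz : ∀ x ∈ B, Commute x z := by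
    intro x hx
    obtain ⟨u, hu, rfl⟩ := hB.1 hx
    have h1 := commute_conj (g := τ.t⁻¹) (hmem.1 hu).2
    rwa [inv_inv, show τ.t⁻¹ * F.a * τ.t = z by rw [← τ.tz]; group] at h1
  have hBa : ∀ x ∈ B, F.a * x * F.a⁻¹ = x⁻¹ := by
    intro x hx
    obtain ⟨u, hu, rfl⟩ := hB.1 hx
    have e : τ.t⁻¹ * (F.a * z) * τ.t = F.a := by rw [← τ.ta]; group
    have h1 : F.a * z * u * (F.a * z)⁻¹ = u⁻¹ := Turn.a_inv_of (hmem.1 hu).2 (hinv u hu)
    have h2 : τ.t⁻¹ * (F.a * z) * τ.t * (τ.t⁻¹ * u * τ.t) * (τ.t⁻¹ * (F.a * z) * τ.t)⁻¹ =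
        τ.t⁻¹ * (F.a * z * u * (F.a * z)⁻¹) * τ.t := by group
    rw [e, h1] at h2
    rw [h2]; group
  have hBodd : ∀ x ∈ B, Odd (orderOf x) := by
    intro x hx
    obtain ⟨u, hu, rfl⟩ := hB.1 hx
    have e := orderOf_conj' τ.t⁻¹ u
    rw [inv_inv] at e
    rw [e]
    exact (coreOf_odd _).of_dvd_nat (Subgroup.orderOf_dvd_natCard _ (hmem.1 hu).1.1)
  have hBy : ∀ x ∈ B, F.y * x * F.y⁻¹ ∈ B := by
    intro x hx
    obtain ⟨u, hu, rfl⟩ := hB.1 hx
    refine hB.2 ⟨F.y * u * F.y⁻¹, hmem.2 ⟨h.conj_P (Or.inl ?_) (hmem.1 hu).1, ?_⟩, ?_⟩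
    · rw [F.y_e3.eq, mul_inv_cancel_right]
    · have h1 := commute_conj (g := F.y) (hmem.1 hu).2
      rwa [F.a_y.symm.eq, mul_inv_cancel_right] at h1
    · rw [show τ.t⁻¹ * (F.y * u * F.y⁻¹) * τ.t = (τ.t⁻¹ * F.y) * u * (τ.t⁻¹ * F.y)⁻¹ by group,
        τ.ty.inv_left.eq]
      group
  let C : Subgroup (Perm (Fin 10)) :=
    { carrier := {π | ∃ x ∈ B, D.Img x π}
      one_mem' := ⟨1, one_mem _, D.img_one⟩
      mul_mem' := fun ⟨x, hx, hi⟩ ⟨w, hw, hi'⟩ => ⟨x * w, mul_mem hx hw, hi.mul hi'⟩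
      inv_mem' := fun ⟨x, hx, hi⟩ => ⟨x⁻¹, inv_mem hx, hi.inv⟩ }
  have hC3 : IsPGroup 3 C := by
    rintro ⟨π, x, hx, hi⟩
    obtain ⟨u, hu, rfl⟩ := hB.1 hx
    obtain ⟨-, k, hk⟩ := (hmem.1 hu).1
    refine ⟨k, Subtype.ext ((hi.pow _).unique ?_)⟩
    rw [show τ.t⁻¹ * u * τ.t = τ.t⁻¹ * u * τ.t⁻¹⁻¹ by rw [inv_inv], conj_pow, hk, mul_one, mul_inv_cancel]
    exact D.img_one
  have hCc : ∀ u ∈ C, ∀ v ∈ C, u * v = v * u := by
    rintro π ⟨x, hx, hi⟩ ρ ⟨w, hw, hi'⟩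
    obtain ⟨u, hu, rfl⟩ := hB.1 hx
    obtain ⟨v, hv, rfl⟩ := hB.1 hw
    refine (hi.mul hi').unique ?_
    rw [show τ.t⁻¹ * u * τ.t * (τ.t⁻¹ * v * τ.t) = τ.t⁻¹ * v * τ.t * (τ.t⁻¹ * u * τ.t) by
      rw [show τ.t⁻¹ * u * τ.t * (τ.t⁻¹ * v * τ.t) = τ.t⁻¹ * (u * v) * τ.t by group, hcomm u hu v hv]; group]
    exact hi'.mul hi
  have hCy : py 10 ∉ C := by
    rintro ⟨x, hx, hi⟩
    have hxy := hi.odd_eq F.y_img (hBodd x hx) (odd_of_cube F.y_cube)
    have h1 := hBa x hx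
    rw [hxy, F.a_y.eq, mul_inv_cancel_right, eq_inv_iff_mul_eq_one] at h1
    have h2 : orderOf F.y ∣ 2 := orderOf_dvd_of_pow_eq_one (by rw [_root_.sq]; exact h1)
    rw [orderOf_eq_prime F.y_cube F.y_ne] at h2
    omega
  have hstep : ∀ π ∈ C, py 10 * π * (py 10)⁻¹ ∈ C := by
    rintro π ⟨x, hx, hi⟩
    exact ⟨_, hBy x hx, F.y_img.conj hi⟩
  have hn : py 10 ∈ Subgroup.normalizer (C : Set (Perm (Fin 10))) := by
    refine Subgroup.mem_normalizer_iff.2 fun π => ⟨hstep π, fun hπ => ?_⟩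
    have h1 := hstep _ (hstep _ hπ)
    have e : py 10 * py 10 * py 10 = 1 := by decide +kernel
    rwa [show py 10 * (py 10 * (py 10 * π * (py 10)⁻¹) * (py 10)⁻¹) * (py 10)⁻¹ =
      py 10 * py 10 * py 10 * π * (py 10 * py 10 * py 10)⁻¹ by group, e, inv_one, one_mul, mul_one] at h1
  have hlt := abelian_le_nine hC3 hCc hn hCy
  choose f hf using fun x : B => D.img_of_comm (hBz x x.2)
  have hle : Nat.card B ≤ Nat.card C :=
    Nat.card_le_card_of_injective (fun x : B => (⟨f x, x, x.2, hf x⟩ : C)) fun x w e => by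
      have e' : f x = f w := congrArg Subtype.val e
      exact Subtype.ext (Data.Img.odd_eq (hf x) (e' ▸ hf w) (hBodd x x.2) (hBodd w w.2))
  rw [Subgroup.card_map_of_injective (MulEquiv.injective _)] at hle
  have hA3 : IsPGroup 3 A := fun x => by
    obtain ⟨-, k, hk⟩ := (hmem.1 x.2).1
    exact ⟨k, Subtype.ext hk⟩
  obtain ⟨k, hk⟩ := IsPGroup.iff_card.1 hA3
  rw [hk] at hle ⊢
  have : 3 ^ k < 3 ^ 3 := by omega
  have := (Nat.pow_lt_pow_iff_right (by decide : 1 < 3)).1 this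
  exact (Nat.pow_le_pow_right (by decide) (show k ≤ 2 by omega)).trans (by decide)

/-- Inverted three-elements commuting with `e3` are trivial. -/
theorem eq_one_ten (τ : Turn F) {m : G} {j : ℕ} (hm : m ^ 3 ^ j = 1) (hi : z * m * z⁻¹ = m⁻¹)
    (hc : Commute m F.e3) : m = 1 := by
  classical
  haveI : Fact (Nat.Prime 7) := ⟨by decide⟩
  set h := cyc_ten F with hh
  have hmP : m ∈ h.P := ⟨h.mem_O hc (Odd.of_dvd_nat (Odd.pow (by decide)) (orderOf_dvd_of_pow_eq_one hm)) hi,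
    j, hm⟩
  have hPodd : ∀ {x}, x ∈ h.P → Odd (orderOf x) := fun {x} hx =>
    (coreOf_odd _).of_dvd_nat (Subgroup.orderOf_dvd_natCard _ hx.1)
  have hPz : ∀ x ∈ h.P, z * x * z⁻¹ ∈ h.P := fun x hx =>
    h.conj_P (Or.inl (by rw [F.h3.comm.symm.eq, mul_inv_cancel_right])) hx
  have hPo : Odd (Nat.card h.P) :=
    (coreOf_odd _).of_dvd_nat (Subgroup.card_dvd_of_le (fun x hx => hx.1))
  set A := h.P ⊓ Subgroup.centralizer ({F.a} : Set G) with hA
  set A' := h.P ⊓ Subgroup.centralizer ({F.a * z} : Set G) with hA'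
  have hA'le : Nat.card A' ≤ 9 := by
    have hf : ∀ x : A', F.s * x.1 * F.s⁻¹ ∈ A := fun x => by
      refine ⟨h.conj_P (Or.inl F.s_e3) x.2.1, Subgroup.mem_centralizer_singleton_iff.2 ?_⟩
      have h1 := commute_conj (g := F.s) (show Commute x.1 (F.a * z) from
        Subgroup.mem_centralizer_singleton_iff.1 x.2.2)
      rwa [F.s_az] at h1
    refine (Nat.card_le_card_of_injective (fun x : A' => (⟨_, hf x⟩ : A)) fun x w e => ?_).trans (card_CA τ)
    have e' := congrArg Subtype.val e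
    exact Subtype.ext (by simpa using e')
  have comp : ∀ p : h.Inv h.P, ∃ u : A, ∃ v : A', ∃ f ∈ Subgroup.zpowers F.e3,
      p.1 * p.1 = (u : G) * v * f := by
    rintro ⟨p, hp, hi⟩
    set q := F.a * p * F.a⁻¹ with hq
    have hqP : q ∈ h.P := h.conj_P (Or.inr F.a_e3) hp
    have hqi : z * q * z⁻¹ = q⁻¹ := by
      rw [hq, show z * (F.a * p * F.a⁻¹) * z⁻¹ = (z * F.a) * p * (z * F.a)⁻¹ by group, ← F.a_z.eq,
        show F.a * z * p * (F.a * z)⁻¹ = F.a * (z * p * z⁻¹) * F.a⁻¹ by group, hi]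
      group
    have haq : F.a * q * F.a⁻¹ = p := by
      rw [hq, show F.a * (F.a * p * F.a⁻¹) * F.a⁻¹ = F.a * F.a * p * (F.a * F.a)⁻¹ by group, F.ha2]; group
    have haX : ∀ f ∈ Subgroup.zpowers F.e3, F.a * f * F.a⁻¹ = f⁻¹ := by
      rintro f ⟨k, rfl⟩
      show F.a * F.e3 ^ k * F.a⁻¹ = (F.e3 ^ k)⁻¹
      rw [← conj_zpow, F.a_e3, inv_zpow]
    obtain ⟨u, hu, f, hf, hui, hfz, hue⟩ := exists_split D.z_sq hPo hPz (mul_mem hp hqP)
    obtain ⟨v, hv, g, hg, hvi, hgz, hve⟩ := exists_split D.z_sq hPo hPz (mul_mem hp (inv_mem hqP))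
    have hfX := h.fixed hf.1 hfz
    have hgX := h.fixed hg.1 hgz
    obtain ⟨k, hk, hke⟩ := h.comm_inv hp.1 hqP.1 hi hqi
    have hau : F.a * u * F.a⁻¹ = u := by
      have h2 : (F.a * u * F.a⁻¹) * (f⁻¹ * k) = u * f := by
        have h1 : F.a * (p * q) * F.a⁻¹ = F.a * (u * f) * F.a⁻¹ := by rw [hue]
        rw [← conj_mul, ← hq, haq, ← conj_mul, haX f hfX] at h1
        rw [← mul_assoc, ← h1, ← hke, hue]
      refine (split_unique (coreOf_odd _) h.le_O h.central h.fixed_z (h.conj_P (Or.inr F.a_e3) hu).1 ?_ hui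
        (mul_mem (inv_mem hfX) hk) hfX h2).1
      rw [show z * (F.a * u * F.a⁻¹) * z⁻¹ = (z * F.a) * u * (z * F.a)⁻¹ by group, ← F.a_z.eq,
        show F.a * z * u * (F.a * z)⁻¹ = F.a * (z * u * z⁻¹) * F.a⁻¹ by group, hui]
      group
    have hav : F.a * v * F.a⁻¹ = v⁻¹ := by
      have h2 : (F.a * v * F.a⁻¹) * g⁻¹ = v⁻¹ * g⁻¹ := by
        have h1 : F.a * (p * q⁻¹) * F.a⁻¹ = F.a * (v * g) * F.a⁻¹ := by rw [hve]
        rw [← conj_mul, ← conj_inv, ← hq, haq, ← conj_mul, haX g hgX] at h1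
        rw [← h1, show q * p⁻¹ = (p * q⁻¹)⁻¹ by group, hve, mul_inv_rev]
        exact (h.central g hgX v hv.1).inv_left.inv_right.eq
      exact mul_right_cancel h2
    refine ⟨⟨u, hu, Subgroup.mem_centralizer_singleton_iff.2 (mul_inv_eq_iff_eq_mul.1 hau).symm⟩,
      ⟨v, hv, Subgroup.mem_centralizer_singleton_iff.2 ?_⟩, f * g * k, mul_mem (mul_mem hfX hgX) hk, ?_⟩
    · have h1 : F.a * z * v * (F.a * z)⁻¹ = v := by
        rw [show F.a * z * v * (F.a * z)⁻¹ = F.a * (z * v * z⁻¹) * F.a⁻¹ by group, hvi, ← conj_inv, hav,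
          inv_inv]
      exact (mul_inv_eq_iff_eq_mul.1 h1).symm
    · show p * p = u * v * (f * g * k)
      have hkc := h.central k hk p hp.1
      have e : p * q * (p * q⁻¹) = p * p * k⁻¹ := by
        have hqp : q * p = p * q * k⁻¹ := by rw [hke, mul_inv_cancel_right]
        rw [mul_assoc p q, ← mul_assoc q p, hqp, mul_assoc (p * q) k⁻¹,
          ((h.central k hk q hqP.1).inv_left.inv_right).eq, ← mul_assoc (p * q), mul_assoc p q,
          mul_inv_cancel, mul_one, mul_assoc]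
      rw [hue, hve] at e
      calc p * p = p * p * k⁻¹ * k := by group
        _ = u * (f * v) * g * k := by rw [← e]; group
        _ = u * v * (f * g * k) := by rw [(h.central f hfX v hv.1).eq]; group
  have hle81 : Nat.card (h.Inv h.P) ≤ 81 := by
    haveI : Finite (h.Inv h.P) := Subtype.finite
    choose u v f hf he using comp
    refine (Nat.card_le_card_of_injective (fun p => (u p, v p)) fun p p' e => ?_).trans ?_
    · obtain ⟨e1, e2⟩ := Prod.mk.injEq .. ▸ e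
      have h1 : (p.1 * p.1) * ((f p)⁻¹ * f p') = (p'.1 * p'.1) * 1 := by
        rw [mul_one, he p, he p', e1, e2]; group
      have hpi : z * (p.1 * p.1) * z⁻¹ = (p.1 * p.1)⁻¹ := by rw [← conj_mul, p.2.2, mul_inv_rev]
      have hpi' : z * (p'.1 * p'.1) * z⁻¹ = (p'.1 * p'.1)⁻¹ := by rw [← conj_mul, p'.2.2, mul_inv_rev]
      obtain ⟨h2, -⟩ := split_unique (coreOf_odd _) h.le_O h.central h.fixed_z (mul_mem p.2.1.1 p.2.1.1) hpi hpi'
        (mul_mem (inv_mem (hf p)) (hf p')) (one_mem _) h1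
      obtain ⟨i, hi⟩ := hPo
      have hroot : ∀ x ∈ h.P, x = (x * x) ^ (i + 1) := fun x hx => by
        rw [← _root_.sq, ← pow_mul, show 2 * (i + 1) = (2 * i + 1) + 1 by omega, pow_succ, ← hi]
        have : x ^ Nat.card h.P = 1 := orderOf_dvd_iff_pow_eq_one.1 (Subgroup.orderOf_dvd_natCard _ hx)
        rw [this, one_mul]
      exact Subtype.ext (by rw [hroot _ p.2.1, hroot _ p'.2.1, h2])
    · rw [Nat.card_prod]
      exact Nat.mul_le_mul (card_CA τ) hA'le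
  -- the seven-cycle
  obtain ⟨w, hw, hwo⟩ := D.exists_odd_lift sign_pw (Odd.of_dvd_nat (by decide)
    (orderOf_dvd_of_pow_eq_one seven_facts.1))
  have hw7 : w ^ 7 = 1 := by
    obtain ⟨c, hc⟩ := orderOf_dvd_of_pow_eq_one seven_facts.1
    rw [hc, pow_mul, hwo, one_pow]
  have hwe : Commute w F.e3 := hw.odd_comm F.h3 seven_facts.2.1 (Odd.of_dvd_nat (by decide)
    (orderOf_dvd_of_pow_eq_one hw7))
  have hconj : ∀ {g : G}, Commute g z → Commute g F.e3 → ∀ x : h.Inv h.P, g * x.1 * g⁻¹ ∈ h.P ∧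
      z * (g * x.1 * g⁻¹) * z⁻¹ = (g * x.1 * g⁻¹)⁻¹ := by
    rintro g hgz hge ⟨x, hx, hi⟩
    refine ⟨h.conj_P (Or.inl (by rw [hge.eq, mul_inv_cancel_right])) hx, ?_⟩
    show z * (g * x * g⁻¹) * z⁻¹ = (g * x * g⁻¹)⁻¹
    rw [show z * (g * x * g⁻¹) * z⁻¹ = (z * g) * x * (z * g)⁻¹ by group, hgz.symm.eq,
      show g * z * x * (g * z)⁻¹ = g * (z * x * z⁻¹) * g⁻¹ by group, hi]
    group
  haveI : Finite (h.Inv h.P) := Subtype.finite
  letI : Fintype (h.Inv h.P) := Fintype.ofFinite _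
  let σ : Perm (h.Inv h.P) := Equiv.ofBijective (fun x => ⟨w * x.1 * w⁻¹, hconj hw.comm hwe x⟩)
    (Finite.injective_iff_bijective.1 fun x y e => Subtype.ext (by simpa using congrArg Subtype.val e))
  have hσk : ∀ (k : ℕ) (x : h.Inv h.P), ((σ ^ k) x).1 = w ^ k * x.1 * (w ^ k)⁻¹ := by
    intro k
    induction k with
    | zero => intro x; simp
    | succ k ih =>
      intro x
      rw [pow_succ, Perm.mul_apply, ih]
      show w ^ k * (w * x.1 * w⁻¹) * (w ^ k)⁻¹ = _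
      rw [pow_succ]; group
  have hσ : σ ^ 7 ^ 1 = 1 := Equiv.ext fun x => Subtype.ext (by rw [pow_one, hσk, hw7]; simp)
  have hmod := Equiv.Perm.card_compl_support_modEq hσ
  have hQ : Nat.card (h.Inv (h.P ⊓ Subgroup.centralizer ({w} : Set G))) = σ.supportᶜ.card := by
    rw [← Nat.card_eq_finsetCard]
    refine Nat.card_congr ⟨fun x => ⟨⟨x.1, x.2.1.1, x.2.2⟩, ?_⟩, fun x => ⟨x.1.1, ⟨x.1.2.1, ?_⟩, x.1.2.2⟩,
      fun x => rfl, fun x => rfl⟩
    · rw [Finset.mem_compl, notMem_support]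
      refine Subtype.ext ?_
      show w * x.1 * w⁻¹ = x.1
      rw [(show Commute x.1 w from Subgroup.mem_centralizer_singleton_iff.1 x.2.1.2).symm.eq,
        mul_inv_cancel_right]
    · have hx := x.2
      rw [Finset.mem_compl, notMem_support] at hx
      exact Subgroup.mem_centralizer_singleton_iff.2 (mul_inv_eq_iff_eq_mul.1 (congrArg Subtype.val hx)).symm
  obtain ⟨k, hk⟩ := h.card_inv le_rfl h.zpowers_le_P hPz
  obtain ⟨i, hi'⟩ := h.card_inv (Q := h.P ⊓ Subgroup.centralizer ({w} : Set G)) inf_le_left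
    (le_inf h.zpowers_le_P (Subgroup.zpowers_le.2 (Subgroup.mem_centralizer_singleton_iff.2 hwe.symm.eq)))
    (fun x hx => ⟨hPz x hx.1, Subgroup.mem_centralizer_singleton_iff.2 (by
      have h1 := commute_conj (g := z) (show Commute x w from Subgroup.mem_centralizer_singleton_iff.1 hx.2)
      rwa [hw.comm.symm.eq, mul_inv_cancel_right] at h1)⟩)
  rw [hQ] at hi'
  rw [Nat.card_eq_fintype_card] at hk hle81
  rw [hi', hk] at hmod
  rw [hk] at hle81
  have hk4 : k ≤ 4 := (Nat.pow_le_pow_iff_right (by decide : 1 < 3)).1 (show 3 ^ k ≤ 3 ^ 4 from hle81)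
  have hi4 : i ≤ 4 := by
    refine le_trans ((Nat.pow_le_pow_iff_right (by decide : 1 < 3)).1 ?_) hk4
    rw [← hi', ← hk]
    exact Finset.card_le_univ _
  have hik : i = k := by
    unfold Nat.ModEq at hmod
    interval_cases i <;> interval_cases k <;> simp_all
  have hall : ∀ x : h.Inv h.P, Commute x.1 w := by
    intro x
    have hu : σ.supportᶜ = Finset.univ := by
      rw [← Finset.card_eq_iff_eq_univ, hi', hik, hk]
    have hx : x ∈ σ.supportᶜ := hu ▸ Finset.mem_univ x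
    rw [Finset.mem_compl, notMem_support] at hx
    exact (mul_inv_eq_iff_eq_mul.1 (congrArg Subtype.val hx)).symm
  obtain ⟨g, hg⟩ := D.exists_img sign_pj
  have hge : Commute g F.e3 := (F.h3.odd_comm hg (Eq.symm seven_facts.2.2.1) (odd_of_cube F.h3c)).symm
  have hmg : Commute m (g * w * g⁻¹) := by
    have h2 := hconj hg.comm.inv_left hge.inv_left ⟨m, hmP, hi⟩
    have h1 := commute_conj (g := g) (hall ⟨_, h2⟩)
    rwa [show g * (g⁻¹ * m * g⁻¹⁻¹) * g⁻¹ = m by group] at h1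
  have hmw := hall ⟨m, hmP, hi⟩
  have hmz : Commute m z :=
    ((hw.mul (hg.conj hw)).double_sq (cycleType_double seven_facts.2.2.2.1 seven_facts.2.2.2.2)).subst
      (motive := fun u => Commute m u) ((hmw.mul_right hmg).mul_right (hmw.mul_right hmg))
  rw [hmz.symm.eq, mul_inv_cancel_right, eq_inv_iff_mul_eq_one] at hi
  have h2 : orderOf m ∣ 2 := orderOf_dvd_of_pow_eq_one (by rw [_root_.sq]; exact hi)
  rcases (Nat.dvd_prime Nat.prime_two).1 h2 with e | e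
  · exact orderOf_eq_one_iff.1 e
  · exact absurd (e ▸ hPodd hmP) (by decide)

end CfsgLib.DoubleAlt
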