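import Cfsg.Agent.DoubleAlt.CaseB
import Cfsg.Agent.DoubleAlt.Ten
import Mathlib.GroupTheory.Transfer

/-!
# The common centralizer of `y` and an element of the subgroup generated by `d` and `e3`
-/

set_option autoImplicit false
set_option maxRecDepth 100000
set_option maxHeartbeats 1000000
set_option linter.style.haveILetI false
set_option linter.unusedSectionVars false

namespace CfsgLib.DoubleAlt

open Equiv Equiv.Perm
open scoped Pointwise

variable {G : Type*} [Group G] [Finite G] {n : ℕ} [NeZero n] {z : G}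
variable {D : Data z n} {T : Tab n}

/-- The elements `d ^ i * e3 ^ j`. -/
def Frame.el (F : Frame D T) (i j : Fin 3) : G := F.d ^ (i : ℕ) * F.e3 ^ (j : ℕ)

theorem pow_fin_neg {x : G} (hx : x ^ 3 = 1) (i : Fin 3) : x ^ ((-i : Fin 3) : ℕ) = x⁻¹ ^ (i : ℕ) := by
  rw [inv_pow, eq_inv_iff_mul_eq_one, ← pow_add, pow_eq_pow_mod _ hx, ← Fin.val_add, neg_add_cancel]
  exact pow_zero _

namespace Frame

variable (F : Frame D T)

theorem el_img (i j : Fin 3) : D.Img (F.el i j) (pd n ^ (i : ℕ) * c3 n ^ (j : ℕ)) :=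
  (F.d_img.pow _).mul (F.h3.pow _)

theorem el_cube (i j : Fin 3) : F.el i j ^ 3 = 1 := by
  rw [el, (F.d_e3.pow_pow _ _).mul_pow, ← pow_mul, ← pow_mul, mul_comm _ 3, mul_comm _ 3, pow_mul, pow_mul,
    F.d_cube, F.h3c, one_pow, one_pow, one_mul]

theorem el_y (i j : Fin 3) : Commute F.y (F.el i j) := (F.y_d.pow_right _).mul_right (F.y_e3.pow_right _)

theorem el_a (i j : Fin 3) : F.a * F.el i j * F.a⁻¹ = (F.el i j)⁻¹ := by
  rw [el, ← conj_mul, ← conj_pow, ← conj_pow, F.a_d, F.a_e3, mul_inv_rev, inv_pow, inv_pow]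
  exact ((F.d_e3.pow_pow (i : ℕ) (j : ℕ)).inv_inv).eq

theorem el_s (i j : Fin 3) : F.s * F.el i j * F.s⁻¹ = F.el (-i) j := by
  rw [el, el, ← conj_mul, ← conj_pow, ← conj_pow, F.s_d, F.s_e3, pow_fin_neg F.d_cube]

end Frame

theorem dc_mem (T : Tab n) (i j : Fin 3) : pd n ^ (i : ℕ) * c3 n ^ (j : ℕ) ∈ dcList n := by
  obtain rfl | rfl | rfl : i = 0 ∨ i = 1 ∨ i = 2 := by revert i; decide
  all_goals obtain rfl | rfl | rfl : j = 0 ∨ j = 1 ∨ j = 2 := by revert j; decide
  all_goals simp [dcList, pow_two]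

/-- No commuting involutions in the common centralizer. -/
theorem only_of_noInv (F : Frame D T) {r : G} {ρ : Perm (Fin n)} (hr : D.Img r ρ) (hρ : ρ ∈ dcList n)
    (hρ1 : ρ ≠ 1) :
    OnlyInvol (Subgroup.centralizer ({F.y} : Set G) ⊓ Subgroup.centralizer ({r} : Set G)) z := by
  classical
  intro w hw hw2 hwz
  by_contra hne
  push Not at hne
  obtain ⟨π, hπ, hπ2, -, h8⟩ := D.involution hwz hw2 hne.1 hne.2
  have hwy : Commute w F.y := Subgroup.mem_centralizer_singleton_iff.1 hw.1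
  have hwr : Commute w r := Subgroup.mem_centralizer_singleton_iff.1 hw.2
  have hL := T.mem π ((hπ.mul F.y_img).unique (hwy.eq ▸ F.y_img.mul hπ)) hπ.sgn
  exact T.noInv ρ hρ hρ1 π hL hπ2 (by rw [nMoved_eq]; exact moved_eight T h8 hπ.sgn hπ2)
    ((hπ.mul hr).unique (hwr.eq ▸ hr.mul hπ))

theorem eq_one_of_self_inv {O : Subgroup G} (hO : Odd (Nat.card O)) {m : G} (hm : m ∈ O) (hz : Commute m z)
    (hi : z * m * z⁻¹ = m⁻¹) : m = 1 := by
  rw [hz.symm.eq, mul_inv_cancel_right, eq_inv_iff_mul_eq_one] at hi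
  rcases (Nat.dvd_prime Nat.prime_two).1 (orderOf_dvd_of_pow_eq_one
    (show m ^ 2 = 1 by rw [_root_.sq]; exact hi)) with e | e
  · exact orderOf_eq_one_iff.1 e
  · have := hO.of_dvd_nat (Subgroup.orderOf_dvd_natCard O hm)
    rw [e] at this
    exact absurd this (by decide)

/-- The common centralizer lies in the centralizer of `z`. -/
theorem cent_of_pa (F : Frame D T) {i j : Fin 3} (hρ : pd n ^ (i : ℕ) * c3 n ^ (j : ℕ) ≠ 1)
    (h1 : ∀ m, PA F m → Commute m (F.el i j) → m = 1)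
    (h2 : ∀ m, PA F m → Commute m (F.el (-i) j) → m = 1) {g : G} (hgy : Commute g F.y)
    (hgr : Commute g (F.el i j)) : Commute g z := by
  classical
  set r := F.el i j with hr
  let K := Subgroup.centralizer ({F.y} : Set G) ⊓ Subgroup.centralizer ({r} : Set G)
  have hmemK : ∀ {x}, x ∈ K ↔ Commute x F.y ∧ Commute x r := fun {x} => by
    rw [Subgroup.mem_inf, Subgroup.mem_centralizer_singleton_iff, Subgroup.mem_centralizer_singleton_iff]; rfl
  have hzK : z ∈ K := hmemK.2 ⟨F.y_img.comm.symm, (F.el_img i j).comm.symm⟩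
  have honly : OnlyInvol K z := only_of_noInv F (F.el_img i j) (dc_mem T i j) hρ
  have hodd := coreOf_odd K
  have hnz : ∀ x ∈ coreOf K, z * x * z⁻¹ ∈ coreOf K := fun x hx => coreOf_normal hzK hx
  have hna : ∀ x ∈ coreOf K, F.a * x * F.a⁻¹ ∈ coreOf K := by
    intro x hx
    refine coreOf_conj (fun w => ?_) hx
    rw [hmemK, hmemK]
    constructor
    · rintro ⟨h1, h2⟩
      refine ⟨?_, ?_⟩
      · have h := commute_conj (g := F.a) h1
        rwa [F.a_y.eq, mul_inv_cancel_right] at h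
      · have h := (commute_conj (g := F.a) h2).inv_right
        rwa [F.el_a i j, inv_inv] at h
    · rintro ⟨h1, h2⟩
      have e : ∀ u : G, F.a * (F.a * u * F.a⁻¹) * F.a⁻¹ = u := fun u => by
        rw [show F.a * (F.a * u * F.a⁻¹) * F.a⁻¹ = F.a * F.a * u * (F.a * F.a)⁻¹ by group, F.ha2]; group
      refine ⟨?_, ?_⟩
      · have h := commute_conj (g := F.a) h1
        rwa [e, F.a_y.eq, mul_inv_cancel_right] at h
      · have h := (commute_conj (g := F.a) h2).inv_right
        rwa [e, F.el_a i j, inv_inv] at h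
  have hle : coreOf K ≤ Subgroup.centralizer ({z} : Set G) := by
    refine le_of_fixed (a := F.a) D.z_sq F.ha2 F.a_z D.z_ne F.a_ne F.a_ne_z hodd hnz hna
      (fun x _ hxz => Subgroup.mem_centralizer_singleton_iff.2 hxz.eq) ?_ ?_
    · intro x hx hxa
      let O' := coreOf K ⊓ Subgroup.centralizer ({F.a} : Set G)
      have hO' : Odd (Nat.card O') := hodd.of_dvd_nat (Subgroup.card_dvd_of_le inf_le_left)
      have hz' : ∀ u ∈ O', z * u * z⁻¹ ∈ O' := fun u hu => ⟨hnz u hu.1,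
        Subgroup.mem_centralizer_singleton_iff.2 (by
          have h := commute_conj (g := z) (show Commute u F.a from Subgroup.mem_centralizer_singleton_iff.1 hu.2)
          rwa [F.a_z.symm.eq, mul_inv_cancel_right] at h)⟩
      obtain ⟨m, hm, f, -, hi, hfz, he⟩ := exists_split D.z_sq hO' hz'
        (show x ∈ O' from ⟨hx, Subgroup.mem_centralizer_singleton_iff.2 hxa.eq⟩)
      have hmK := hmemK.1 (coreOf_le K hm.1)
      have hm1 := h1 m ⟨hodd.of_dvd_nat (Subgroup.orderOf_dvd_natCard _ hm.1), hmK.1,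
        Subgroup.mem_centralizer_singleton_iff.1 hm.2, hi⟩ hmK.2
      exact Subgroup.mem_centralizer_singleton_iff.2 (by rw [he, hm1, one_mul]; exact hfz)
    · intro x hx hxa
      let O' := coreOf K ⊓ Subgroup.centralizer ({F.a * z} : Set G)
      have hO' : Odd (Nat.card O') := hodd.of_dvd_nat (Subgroup.card_dvd_of_le inf_le_left)
      have hzaz : Commute z (F.a * z) := F.a_z.symm.mul_right (Commute.refl z)
      have hz' : ∀ u ∈ O', z * u * z⁻¹ ∈ O' := fun u hu => ⟨hnz u hu.1,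
        Subgroup.mem_centralizer_singleton_iff.2 (by
          have h := commute_conj (g := z)
            (show Commute u (F.a * z) from Subgroup.mem_centralizer_singleton_iff.1 hu.2)
          rwa [hzaz.eq, mul_inv_cancel_right] at h)⟩
      obtain ⟨m, hm, f, -, hi, hfz, he⟩ := exists_split D.z_sq hO' hz'
        (show x ∈ O' from ⟨hx, Subgroup.mem_centralizer_singleton_iff.2 hxa.eq⟩)
      have hmK := hmemK.1 (coreOf_le K hm.1)
      have hA := F.pa_of_paz (m := m) ⟨hodd.of_dvd_nat (Subgroup.orderOf_dvd_natCard _ hm.1), hmK.1,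
        Subgroup.mem_centralizer_singleton_iff.1 hm.2, hi⟩
      have hm1 : m = 1 := conj_eq_one_iff.1 (h2 _ hA (by
        rw [← F.el_s i j]; exact commute_conj hmK.2))
      exact Subgroup.mem_centralizer_singleton_iff.2 (by rw [he, hm1, one_mul]; exact hfz)
  refine commute_of_only D.z_sq hzK honly (fun m hm ho hi => ?_) (hmemK.2 ⟨hgy, hgr⟩)
  have hmO := mem_coreOf D.hz hzK honly hm ho hi
  exact eq_one_of_self_inv hodd hmO (Subgroup.mem_centralizer_singleton_iff.1 (hle hmO)) hi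

/-- The Burnside step for the common centralizer. -/
theorem pa_mixed (F : Frame D T) (τ : Turn F) {i j : Fin 3} (hρ : pd n ^ (i : ℕ) * c3 n ^ (j : ℕ) ≠ 1)
    (hE : ∀ g : G, Commute g F.y → Commute g F.e3 → Commute g z)
    (hbase : ∀ π ∈ T.L, π * π * π = 1 →
      π * (pd n ^ (i : ℕ) * c3 n ^ (j : ℕ)) = pd n ^ (i : ℕ) * c3 n ^ (j : ℕ) * π → π ∈ baseList n)
    (hab : ∀ u ∈ baseList n, ∀ v ∈ baseList n, u * v = v * u)
    {p : G} (hp : PA F p) (hpr : Commute p (F.el i j)) : p = 1 := by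
  classical
  haveI : Fact (Nat.Prime 3) := ⟨Nat.prime_three⟩
  set r := F.el i j with hr
  let K := Subgroup.centralizer ({F.y} : Set G) ⊓ Subgroup.centralizer ({r} : Set G)
  have hmemK : ∀ {x}, x ∈ K ↔ Commute x F.y ∧ Commute x r := fun {x} => by
    rw [Subgroup.mem_inf, Subgroup.mem_centralizer_singleton_iff, Subgroup.mem_centralizer_singleton_iff]; rfl
  have hzK : z ∈ K := hmemK.2 ⟨F.y_img.comm.symm, (F.el_img i j).comm.symm⟩
  have honly : OnlyInvol K z := only_of_noInv F (F.el_img i j) (dc_mem T i j) hρ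
  have hpO : p ∈ coreOf K := mem_coreOf D.hz hzK honly (hmemK.2 ⟨hp.2.1, hpr⟩) hp.1 hp.2.2.2
  have hcomm : ∀ {u v : G}, Commute u F.y → Commute u r → Commute u z → u ^ 3 = 1 →
      Commute v F.y → Commute v r → Commute v z → v ^ 3 = 1 → Commute u v := by
    intro u v uy ur uz u3 vy vr vz v3
    obtain ⟨π, hπL, hπ, hπ3⟩ := F.odd_img uz uy (odd_of_cube u3)
    obtain ⟨σ, hσL, hσ, hσ3⟩ := F.odd_img vz vy (odd_of_cube v3)
    exact hπ.odd_comm hσ (hab π (hbase π hπL hπ3 ((hπ.mul (F.el_img i j)).unique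
        (ur.eq ▸ (F.el_img i j).mul hπ))) σ (hbase σ hσL hσ3 ((hσ.mul (F.el_img i j)).unique
        (vr.eq ▸ (F.el_img i j).mul hσ)))) (odd_of_cube u3)
  let E : Subgroup G :=
    { carrier := {x | Commute x F.y ∧ Commute x r ∧ Commute x z ∧ x ^ 3 = 1}
      one_mem' := ⟨Commute.one_left _, Commute.one_left _, Commute.one_left _, one_pow _⟩
      mul_mem' := fun {u v} ⟨uy, ur, uz, u3⟩ ⟨vy, vr, vz, v3⟩ =>
        ⟨uy.mul_left vy, ur.mul_left vr, uz.mul_left vz, by
          rw [(hcomm uy ur uz u3 vy vr vz v3).mul_pow, u3, v3, one_mul]⟩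
      inv_mem' := fun {u} ⟨uy, ur, uz, u3⟩ => ⟨uy.inv_left, ur.inv_left, uz.inv_left, by rw [inv_pow, u3, inv_one]⟩ }
  have hEK : E ≤ K := fun x hx => hmemK.2 ⟨hx.1, hx.2.1⟩
  have he3 : F.e3 ∈ E := ⟨F.y_e3.symm, (F.d_e3.symm.pow_right _).mul_right ((Commute.refl _).pow_right _),
    F.h3.comm, F.h3c⟩
  let K' : Subgroup G := coreOf K ⊔ E
  have hnorm : E ≤ Subgroup.normalizer (coreOf K : Set G) := fun e he =>
    Subgroup.mem_normalizer_iff.2 fun x => ⟨fun hx => coreOf_normal (hEK he) hx, fun hx => by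
      have h := coreOf_normal (inv_mem (hEK he)) hx
      rwa [inv_inv, show e⁻¹ * (e * x * e⁻¹) * e = x by group] at h⟩
  have hK'K : K' ≤ K := sup_le (coreOf_le K) hEK
  have hEK' : E ≤ K' := le_sup_right
  have hCz : ∀ x ∈ K', Commute x z → x ∈ E := by
    intro x hx hxz
    have hx' : x ∈ (coreOf K : Set G) * (E : Set G) := by
      rw [← Subgroup.coe_mul_of_right_le_normalizer_left _ _ hnorm]; exact hx
    obtain ⟨o, ho, e, he, rfl⟩ := Set.mem_mul.1 hx'
    have hoz : Commute o z := by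
      have h := hxz.mul_left (show Commute e⁻¹ z from he.2.2.1.inv_left)
      rwa [mul_inv_cancel_right] at h
    have hoK := hmemK.1 (coreOf_le K ho)
    exact mul_mem (show o ∈ E from ⟨hoK.1, hoK.2, hoz, F.cube_of_odd hoz hoK.1
      ((coreOf_odd K).of_dvd_nat (Subgroup.orderOf_dvd_natCard _ ho))⟩) he
  -- the normalizer of `E`
  have hN : ∀ x ∈ K', (∀ e, e ∈ E ↔ x * e * x⁻¹ ∈ E) → x ∈ E := by
    intro x hx hxn
    refine hCz x hx ?_
    have hw2 : x * z * x⁻¹ * (x * z * x⁻¹) = 1 := by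
      rw [conj_mul, D.z_sq, mul_one, mul_inv_cancel]
    have hwe : ∀ e ∈ E, Commute (x * z * x⁻¹) e := by
      intro e he
      have h1 : x⁻¹ * e * x ∈ E := (hxn _).2 (by rwa [show x * (x⁻¹ * e * x) * x⁻¹ = e by group])
      have h2 := commute_conj (g := x) h1.2.2.1
      rw [show x * (x⁻¹ * e * x) * x⁻¹ = e by group] at h2
      exact h2.symm
    have hxK := hK'K hx
    rcases honly _ (mul_mem (mul_mem hxK hzK) (inv_mem hxK)) hw2
      (hE _ (by
        have h := commute_conj (g := x) F.y_img.comm.symm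
        rwa [(hmemK.1 hxK).1.eq, mul_inv_cancel_right] at h) (hwe _ he3)) with e | e
    · exact absurd (conj_eq_one_iff.1 e) D.z_ne
    · exact mul_inv_eq_iff_eq_mul.1 e
  have hE3 : IsPGroup 3 (E.subgroupOf K') := fun x => ⟨1, Subtype.ext (Subtype.ext (by
    show ((x : K') : G) ^ 3 ^ 1 = 1
    rw [pow_one]; exact (Subgroup.mem_subgroupOf.1 x.2).2.2.2))⟩
  obtain ⟨P, hPle⟩ := hE3.exists_le_sylow
  have hnE : ∀ x : K', x ∈ Subgroup.normalizer ((E.subgroupOf K' : Subgroup K') : Set K') → x ∈ E.subgroupOf K' := by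
    intro x hx
    refine hN x x.2 fun e => ⟨fun he => ?_, fun he => ?_⟩
    · exact (Subgroup.mem_normalizer_iff.1 hx ⟨e, hEK' he⟩).1 he
    · have heK : e ∈ K' := by
        have h := mul_mem (mul_mem (inv_mem x.2) (hEK' he)) x.2
        rwa [show (x : G)⁻¹ * (x * e * (x : G)⁻¹) * x = e by group] at h
      exact (Subgroup.mem_normalizer_iff.1 hx ⟨e, heK⟩).2 he
  have hPeq : (P : Subgroup K') = E.subgroupOf K' := by
    refine le_antisymm ?_ hPle
    by_contra hlt
    haveI : Group.IsNilpotent (P : Subgroup K') := P.2.isNilpotent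
    have hlt' : (E.subgroupOf K').subgroupOf P < ⊤ :=
      lt_top_iff_ne_top.2 fun e => hlt fun x hx => (e ▸ Subgroup.mem_top (⟨x, hx⟩ : (P : Subgroup K')) :
        (⟨x, hx⟩ : (P : Subgroup K')) ∈ (E.subgroupOf K').subgroupOf P)
    obtain ⟨x, hx, hxn⟩ := SetLike.exists_of_lt (Group.normalizerCondition_of_isNilpotent _ hlt')
    refine hxn (hnE x (Subgroup.mem_normalizer_iff.2 fun e => ?_))
    constructor
    · intro he
      exact (Subgroup.mem_normalizer_iff.1 hx ⟨e, hPle he⟩).1 he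
    · intro he
      have heP : e ∈ (P : Subgroup K') := by
        have h := mul_mem (mul_mem (inv_mem x.2) (hPle he)) x.2
        rwa [show (x : K')⁻¹ * ((x : K') * e * (x : K')⁻¹) * x = e by group] at h
      exact (Subgroup.mem_normalizer_iff.1 hx ⟨e, heP⟩).2 he
  have habE : ∀ u ∈ E, ∀ v ∈ E, Commute u v := fun u hu v hv =>
    hcomm hu.1 hu.2.1 hu.2.2.1 hu.2.2.2 hv.1 hv.2.1 hv.2.2.1 hv.2.2.2
  have hP : Subgroup.normalizer ((P : Subgroup K') : Set K') ≤ Subgroup.centralizer ((P : Subgroup K') : Set K') := by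
    rw [hPeq]
    intro x hx
    exact Subgroup.mem_centralizer_iff.2 fun e he => Subtype.ext (habE _ he _ (hnE x hx)).eq
  haveI : IsMulCommutative (P : Subgroup K') := ⟨⟨fun a b =>
    Subtype.ext (hP (Subgroup.le_normalizer b.2) a a.2)⟩⟩
  set f := MonoidHom.transferSylow P hP with hf
  have hfpow : ∀ e : K', e ∈ (P : Subgroup K') → f e ^ 1 = f e ∧ ((f e : K') = e ^ (P : Subgroup K').index) :=
    fun e he => ⟨pow_one _, by rw [hf, MonoidHom.transferSylow_eq_pow P hP e he]⟩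
  have hpK' : p ∈ K' := le_sup_left (a := coreOf K) hpO
  set p' : K' := ⟨p, hpK'⟩ with hp'
  have hp3 : p ^ 3 = 1 := τ.cube_pa hp
  have hpow : IsPGroup 3 (Subgroup.zpowers p') := by
    rintro ⟨x, k, rfl⟩
    refine ⟨1, Subtype.ext (Subtype.ext ?_)⟩
    show (p ^ k) ^ 3 ^ 1 = 1
    rw [pow_one, ← zpow_natCast, ← zpow_mul, mul_comm, zpow_mul, zpow_natCast, hp3, one_zpow]
  obtain ⟨Q, hQ⟩ := hpow.exists_le_sylow
  obtain ⟨x, hx⟩ := MulAction.exists_smul_eq K' Q P
  have hmem : x * p' * x⁻¹ ∈ (P : Subgroup K') := by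
    rw [← hx]; exact ⟨_, hQ (Subgroup.mem_zpowers _), rfl⟩
  set e := x * p' * x⁻¹ with he
  have heE : (e : G) ∈ E := Subgroup.mem_subgroupOf.1 (hPeq ▸ hmem)
  have hfe : f e = f p' := by
    rw [he, map_mul, map_mul, map_inv, mul_comm' (f x) (f p'), mul_inv_cancel_right]
  have hzx : z * (x : G) * z⁻¹ ∈ K' := by
    have hz' : ∀ w ∈ K', z * w * z⁻¹ ∈ K' := by
      intro w hw
      have hw' : w ∈ (coreOf K : Set G) * (E : Set G) := by
        rw [← Subgroup.coe_mul_of_right_le_normalizer_left _ _ hnorm]; exact hw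
      obtain ⟨o, ho, u, hu, rfl⟩ := Set.mem_mul.1 hw'
      rw [← conj_mul, (show Commute u z from hu.2.2.1).symm.eq, mul_inv_cancel_right]
      exact mul_mem (le_sup_left (a := coreOf K) (coreOf_normal hzK ho)) (hEK' hu)
    exact hz' _ x.2
  set x' : K' := ⟨z * (x : G) * z⁻¹, hzx⟩ with hx'
  have hinv : x' * p'⁻¹ * x'⁻¹ = e := by
    refine Subtype.ext ?_
    show z * (x : G) * z⁻¹ * p⁻¹ * (z * (x : G) * z⁻¹)⁻¹ = (x : G) * p * (x : G)⁻¹
    have h1 : z * ((x : G) * p * (x : G)⁻¹) * z⁻¹ = (x : G) * p * (x : G)⁻¹ := by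
      have h := heE.2.2.1
      rw [show (x : G) * p * (x : G)⁻¹ = (e : G) from rfl, h.symm.eq, mul_inv_cancel_right]
    conv_rhs => rw [← h1]
    rw [← hp.2.2.2]
    group
  have hfe' : f e = (f p')⁻¹ := by
    rw [← hinv, map_mul, map_mul, map_inv, map_inv, mul_comm' (f x'), mul_inv_cancel_right]
  have h2 : f e * f e = 1 := by rw [← mul_eq_one_iff_eq_inv.2 hfe', hfe]
  have he3' : e ^ 3 = 1 := Subtype.ext heE.2.2.2
  have hord : orderOf e ∣ 3 := orderOf_dvd_of_pow_eq_one he3'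
  have hidx : e ^ ((P : Subgroup K').index * 2) = 1 := by
    rw [pow_mul, _root_.sq, ← (hfpow e hmem).2, ← Subgroup.coe_mul, h2, Subgroup.coe_one]
  have hcop : Nat.Coprime 3 ((P : Subgroup K').index * 2) :=
    (Nat.prime_three.coprime_iff_not_dvd.2 P.not_dvd_index).mul_right (by decide)
  have he1 : e = 1 := orderOf_eq_one_iff.1 (Nat.dvd_one.1
    (hcop ▸ Nat.dvd_gcd hord (orderOf_dvd_of_pow_eq_one hidx)))
  have hp1 : p' = 1 := conj_eq_one_iff.1 (he ▸ he1)
  exact congrArg Subtype.val hp1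

section nine

variable {D : Data z 9} {F : Frame D tabNine}

theorem base_nine : ∀ π ∈ listNine, π * π * π = 1 → π ∈ baseList 9 := of_all (by decide +kernel)

theorem baseList_comm_nine : ∀ u ∈ baseList 9, ∀ v ∈ baseList 9, u * v = v * u := fun u hu =>
  of_all (P := fun v => u * v = v * u) (of_all (P := fun u => (baseList 9).all (fun v => decide (u * v = v * u)) = true)
    (by decide +kernel) u hu)

theorem el_zero_one {n : ℕ} [NeZero n] {D : Data z n} {T : Tab n} (F : Frame D T) : F.el 0 1 = F.e3 := by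
  simp [Frame.el]

theorem ne_one_nine : ∀ i j : Fin 3, ¬ (i = 0 ∧ j = 0) → pd 9 ^ (i : ℕ) * c3 9 ^ (j : ℕ) ≠ 1 := by
  decide +kernel

theorem Turn.cent_e3_nine (τ : Turn F) {g : G} (hy : Commute g F.y) (h3 : Commute g F.e3) : Commute g z := by
  refine cent_of_pa F (i := 0) (j := 1) (ne_one_nine 0 1 (by decide)) ?_ ?_ hy (el_zero_one F ▸ h3)
  · exact fun m hm hc => τ.eq_one_of_pa hm (el_zero_one F ▸ hc)
  · intro m hm hc
    rw [neg_zero, el_zero_one] at hc
    exact τ.eq_one_of_pa hm hc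

/-- The common centralizer of `y` and a nontrivial element of the subgroup generated by `d` and `e3`. -/
theorem Turn.cent_nine (τ : Turn F) {i j : Fin 3} (hij : ¬ (i = 0 ∧ j = 0)) {g : G} (hy : Commute g F.y)
    (hr : Commute g (F.el i j)) : Commute g z :=
  cent_of_pa F (ne_one_nine i j hij)
    (fun _ hm hc => pa_mixed F τ (ne_one_nine i j hij) (fun _ h1 h2 => τ.cent_e3_nine h1 h2)
      (fun π hL h3 _ => base_nine π hL h3) baseList_comm_nine hm hc)
    (fun _ hm hc => pa_mixed F τ (ne_one_nine (-i) j (fun h => hij ⟨neg_eq_zero.1 h.1, h.2⟩))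
      (fun _ h1 h2 => τ.cent_e3_nine h1 h2) (fun π hL h3 _ => base_nine π hL h3) baseList_comm_nine hm hc) hy hr

end nine

section ten

variable {D : Data z 10} {F : Frame D tabTen}

theorem base_ten : ∀ π ∈ listTen, π * π * π = 1 → ∀ i j : Fin 3, j ≠ 0 →
    π * (pd 10 ^ (i : ℕ) * c3 10 ^ (j : ℕ)) = pd 10 ^ (i : ℕ) * c3 10 ^ (j : ℕ) * π → π ∈ baseList 10 :=
  of_all (by decide +kernel)

theorem baseList_comm_ten : ∀ u ∈ baseList 10, ∀ v ∈ baseList 10, u * v = v * u := fun u hu =>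
  of_all (P := fun v => u * v = v * u) (of_all (P := fun u => (baseList 10).all (fun v => decide (u * v = v * u)) = true)
    (by decide +kernel) u hu)

theorem ne_one_ten : ∀ i j : Fin 3, ¬ (i = 0 ∧ j = 0) → pd 10 ^ (i : ℕ) * c3 10 ^ (j : ℕ) ≠ 1 := by
  decide +kernel

/-- The permutation carrying the first three-cycle to the third. -/
def ph : Perm (Fin 10) := sw 0 6 * sw 1 7 * (sw 2 8 * sw 3 5)

theorem ph_conj : ph * c1 10 * ph⁻¹ = c3 10 := by decide +kernel

theorem sign_ph : sign ph = 1 := by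
  simp only [ph, sw_eq, map_mul]
  rw [sign_swap (by decide), sign_swap (by decide), sign_swap (by decide), sign_swap (by decide)]
  decide

theorem Turn.pa_e3_ten (τ : Turn F) {m : G} (hm : PA F m) (hc : Commute m F.e3) : m = 1 :=
  eq_one_ten τ (j := 1) (by rw [pow_one]; exact τ.cube_pa hm) hm.2.2.2 hc

theorem Turn.pa_d_ten (τ : Turn F) {m : G} (hm : PA F m) (hc : Commute m F.d) : m = 1 := by
  have h1 : Commute m F.e1 := by
    have e : F.e1 = (F.y * F.d) * (F.y * F.d) := by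
      have e' : F.y * F.d = F.e1 * F.e1 := by
        rw [Frame.y, Frame.d, mul_assoc, ← mul_assoc F.e2, ← F.e12.eq, mul_assoc F.e1, mul_inv_cancel, mul_one]
      rw [e', show F.e1 * F.e1 * (F.e1 * F.e1) = F.e1 ^ 3 * F.e1 by
        simp only [pow_succ, pow_zero, one_mul, mul_assoc], F.h1c, one_mul]
    rw [e]
    exact (hm.2.1.mul_right hc).mul_right (hm.2.1.mul_right hc)
  obtain ⟨h, hh⟩ := D.exists_img sign_ph
  have he : h * F.e1 * h⁻¹ = F.e3 := Frame.conj_eq hh F.h1 F.h3 F.h1c F.h3c ph_conj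
  have h3 : h * m * h⁻¹ = 1 := by
    refine eq_one_ten τ (j := 1) (by rw [pow_one, conj_pow, τ.cube_pa hm, mul_one, mul_inv_cancel]) ?_ (he ▸ commute_conj h1)
    rw [show z * (h * m * h⁻¹) * z⁻¹ = (z * h) * m * (z * h)⁻¹ by group, hh.comm.symm.eq,
      show h * z * m * (h * z)⁻¹ = h * (z * m * z⁻¹) * h⁻¹ by group, hm.2.2.2]
    group
  exact conj_eq_one_iff.1 h3

theorem Turn.cent_e3_ten (τ : Turn F) {g : G} (hy : Commute g F.y) (h3 : Commute g F.e3) : Commute g z := by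
  refine cent_of_pa F (i := 0) (j := 1) (ne_one_ten 0 1 (by decide)) ?_ ?_ hy (el_zero_one F ▸ h3)
  · exact fun m hm hc => τ.pa_e3_ten hm (el_zero_one F ▸ hc)
  · intro m hm hc
    rw [neg_zero, el_zero_one] at hc
    exact τ.pa_e3_ten hm hc

theorem Turn.pa_ten (τ : Turn F) {i j : Fin 3} (hij : ¬ (i = 0 ∧ j = 0)) {m : G} (hm : PA F m)
    (hc : Commute m (F.el i j)) : m = 1 := by
  by_cases hj : j = 0
  · subst hj
    refine τ.pa_d_ten hm ?_
    obtain rfl | rfl := (show ∀ i : Fin 3, ¬ (i = 0 ∧ (0 : Fin 3) = 0) → i = 1 ∨ i = 2 by decide) i hij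
    · simpa [Frame.el] using hc
    · have h := hc.pow_right 2
      rwa [Frame.el, show ((2 : Fin 3) : ℕ) = 2 from rfl, show ((0 : Fin 3) : ℕ) = 0 from rfl, pow_zero, mul_one,
        ← pow_mul, show 2 * 2 = 3 + 1 from rfl, pow_succ, F.d_cube, one_mul] at h
  · exact pa_mixed F τ (ne_one_ten i j hij) (fun _ h1 h2 => τ.cent_e3_ten h1 h2)
      (fun π hL h3 hco => base_ten π hL h3 i j hj hco) baseList_comm_ten hm hc

/-- The common centralizer of `y` and a nontrivial element of the subgroup generated by `d` and `e3`. -/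
theorem Turn.cent_ten (τ : Turn F) {i j : Fin 3} (hij : ¬ (i = 0 ∧ j = 0)) {g : G} (hy : Commute g F.y)
    (hr : Commute g (F.el i j)) : Commute g z :=
  cent_of_pa F (ne_one_ten i j hij) (fun _ hm hc => τ.pa_ten hij hm hc)
    (fun _ hm hc => τ.pa_ten (fun h => hij ⟨neg_eq_zero.1 h.1, h.2⟩) hm hc) hy hr

end ten

end CfsgLib.DoubleAlt
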