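import Cfsg.Agent.DoubleAlt.QData
import Cfsg.Agent.Char.ClassProducts
import Cfsg.Agent.Char.Generalized
import Cfsg.Agent.Char.TI
import Cfsg.Agent.Char.Values
import Mathlib.GroupTheory.PGroup
import Mathlib.Tactic.Group

/-!
# The number of conjugates of an involution from the centralizer data

The conjugates outside the centralizer `C` of `z` are counted by the action of `C`; the class sums
against the induced character of a function supported on the elements acting as three-cycles give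
a quadratic relation between that number and the degree and value of one exceptional character.
-/

set_option autoImplicit false
set_option linter.unusedSectionVars false
set_option linter.style.haveILetI false

namespace CfsgLib.DoubleAlt

open CfsgLib.Char
open scoped ComplexConjugate

universe u

variable {X : Type u} [Group X] {z : X} {m J : ℕ}

/-- The even nontrivial permutations of three objects. -/
abbrev IsRot (τ : Equiv.Perm (Fin 3)) : Prop := Equiv.Perm.sign τ = 1 ∧ τ ≠ 1

/-- The function `3` on three-cycles and `0` elsewhere. -/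
noncomputable def rotFun (τ : Equiv.Perm (Fin 3)) : ℂ := if IsRot τ then 3 else 0

theorem rot_mul : ∀ σ τ : Equiv.Perm (Fin 3), Equiv.Perm.sign σ = -1 → Equiv.Perm.sign τ = -1 →
    σ ≠ τ → IsRot (σ * τ) := by decide +kernel

theorem rot_cube : ∀ τ : Equiv.Perm (Fin 3), IsRot τ → τ ^ 3 = 1 := by decide +kernel

theorem odd_sq : ∀ τ : Equiv.Perm (Fin 3), Equiv.Perm.sign τ = -1 → τ * τ = 1 := by decide +kernel

theorem rot_count : Fintype.card {τ : Equiv.Perm (Fin 3) // IsRot τ} = 2 := by decide +kernel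

theorem odd_generate : ∀ τ : Equiv.Perm (Fin 3), τ = 1 ∨ Equiv.Perm.sign τ = -1 ∨
    ∃ a b : Equiv.Perm (Fin 3), Equiv.Perm.sign a = -1 ∧ Equiv.Perm.sign b = -1 ∧ τ = a * b := by
  decide +kernel

theorem rot_fix : ∀ τ : Equiv.Perm (Fin 3),
    (if IsRot τ then (3 : ℤ) else 0) =
      2 + (Equiv.Perm.sign τ : ℤ) - (Fintype.card {i : Fin 3 // τ i = i} : ℤ) := by
  decide +kernel

theorem isGeneralized_rotFun : Cfsg.IsGeneralizedCharacter (Equiv.Perm (Fin 3)) rotFun := by
  classical
  haveI : MulAction.IsPretransitive (Equiv.Perm (Fin 3)) (Fin 3) :=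
    ⟨fun a b => ⟨Equiv.swap a b, by simp [Equiv.Perm.smul_def]⟩⟩
  have hfix : Cfsg.IsCharacter (Equiv.Perm (Fin 3))
      (fun τ => (Nat.card (MulAction.fixedBy (Fin 3) τ) : ℂ)) := by
    rw [← indFun_one_stabilizer (G := Equiv.Perm (Fin 3)) (0 : Fin 3)]
    exact IsCharacter.indFun isCharacter_one
  let lam : Equiv.Perm (Fin 3) →* ℂˣ :=
    (Units.map (Int.castRingHom ℂ).toMonoidHom).comp Equiv.Perm.sign
  have hsgn := IsCharacter.isGeneralized (isCharacter_ofHom lam)
  have key : rotFun = (2 : ℤ) • (fun _ : Equiv.Perm (Fin 3) => (1 : ℂ)) +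
      (fun τ => (lam τ : ℂ)) - fun τ => (Nat.card (MulAction.fixedBy (Fin 3) τ) : ℂ) := by
    funext τ
    have hc : Nat.card (MulAction.fixedBy (Fin 3) τ) = Fintype.card {i : Fin 3 // τ i = i} := by
      rw [← Nat.card_eq_fintype_card]
      exact Nat.card_congr (Equiv.subtypeEquivRight fun i => Iff.rfl)
    have hl : (lam τ : ℂ) = ((Equiv.Perm.sign τ : ℤ) : ℂ) := rfl
    have h3 : rotFun τ = (((if IsRot τ then (3 : ℤ) else 0) : ℤ) : ℂ) := by
      unfold rotFun; split_ifs <;> simp
    rw [h3, rot_fix τ]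
    simp only [Pi.sub_apply, Pi.add_apply, Pi.smul_apply, hl, hc]
    push_cast
    simp
  rw [key]
  exact IsGeneralized.sub (IsGeneralized.add (IsGeneralized.zsmul isGeneralized_one 2) hsgn)
    (IsCharacter.isGeneralized hfix)

/-- The value of a character at an involution is an integer. -/
theorem exists_int_at_involution [Finite X] {χ : X → ℂ} (h : Cfsg.IsCharacter X χ) {t : X}
    (ht : orderOf t = 2) : ∃ a : ℤ, χ t = (a : ℂ) := by
  obtain ⟨s, -, hs, hk⟩ := IsCharacter.exists_roots h t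
  have h1 : χ t = s.sum := by simpa using hk 1
  rw [h1, ht] at *
  clear h1 hk
  induction s using Multiset.induction with
  | empty => exact ⟨0, by simp⟩
  | cons a s ih =>
    obtain ⟨b, hb⟩ := ih fun y hy => hs y (Multiset.mem_cons_of_mem hy)
    rcases sq_eq_one_iff.1 (hs a (Multiset.mem_cons_self a s)) with ha | ha
    · exact ⟨1 + b, by rw [Multiset.sum_cons, hb, ha]; push_cast; ring⟩
    · exact ⟨-1 + b, by rw [Multiset.sum_cons, hb, ha]; push_cast; ring⟩

namespace QData

theorem mem_C {g : X} : g ∈ Subgroup.centralizer ({z} : Set X) ↔ Commute g z :=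
  Subgroup.mem_centralizer_singleton_iff

theorem order_two_of_isConj (Q : QData z m J) {v : X} (hv : IsConj z v) : orderOf v = 2 := by
  obtain ⟨c, rfl⟩ := isConj_iff.1 hv
  rw [← MulAut.conj_apply, MulEquiv.orderOf_eq, Q.hz]

theorem eq_z_or_mem (Q : QData z m J) {v : X} (hv : IsConj z v) (hc : Commute v z) :
    v = z ∨ v ∈ jSet z := by
  by_cases h : v = z
  · exact Or.inl h
  · exact Or.inr ⟨Q.order_two_of_isConj hv, hc, h⟩

theorem z_mul_self (Q : QData z m J) : z * z = 1 := by
  rw [← sq, ← Q.hz, pow_orderOf_eq_one]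

theorem z_ne_one (Q : QData z m J) : z ≠ 1 := by
  intro h
  have := Q.hz
  rw [h, orderOf_one] at this
  omega

theorem mul_z_mem (Q : QData z m J) {u : X} (hu : u ∈ jSet z) : u * z ∈ jSet z := by
  obtain ⟨ho, hc, hne⟩ := hu
  have hu1 : u * u = 1 := by rw [← sq, ← ho, pow_orderOf_eq_one]
  refine ⟨orderOf_eq_prime ?_ ?_, hc.mul_left (Commute.refl z), ?_⟩
  · rw [hc.mul_pow, sq, sq, hu1, Q.z_mul_self, one_mul]
  · intro h
    exact hne ((eq_inv_of_mul_eq_one_left h).trans (inv_eq_of_mul_eq_one_right Q.z_mul_self))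
  · intro h
    rw [mul_eq_right] at h
    rw [h, orderOf_one] at ho
    omega

theorem no_three_fix (Q : QData z m J) {v r : X} (hv : ¬ Commute v z) (hr : orderOf r = 3)
    (hrz : Commute r z) (hrv : Commute r v) : False :=
  hv (Q.three r r v hr hrz hrz (by rw [← hrv.eq, mul_inv_cancel_right]))

theorem eq_of_commute (Q : QData z m J) {u w v : X} (hu : u ∈ jSet z) (hw : w ∈ jSet z)
    (huw : Commute u w) (hv : ¬ Commute v z) (huv : Commute u v) (hwv : Commute w v) : w = u := by
  rcases Q.pair u hu w hw huw with h | h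
  · exact h
  · exfalso
    have h' : z = u⁻¹ * w := by rw [h, inv_mul_cancel_left]
    exact hv (h' ▸ ((huv.inv_left).mul_left hwv).symm)

/-- A nontrivial centralizer in `C` of a conjugate outside `C` has a unique involution. -/
theorem exists_unique_fix [Finite X] (Q : QData z m J) {v : X} (hv : ¬ Commute v z) {c : X}
    (hc : c ≠ 1) (hcz : Commute c z) (hcv : Commute c v) :
    ∃ w ∈ jSet z, Commute w v ∧ ∀ u ∈ jSet z, Commute u v → u = w := by
  classical
  set H : Subgroup X := Subgroup.centralizer ({z} : Set X) ⊓ Subgroup.centralizer ({v} : Set X)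
  have hmem : ∀ {g : X}, g ∈ H ↔ Commute g z ∧ Commute g v := fun {g} => by
    rw [Subgroup.mem_inf, Subgroup.mem_centralizer_singleton_iff,
      Subgroup.mem_centralizer_singleton_iff]
    exact Iff.rfl
  have h3 : ¬ 3 ∣ Nat.card H := by
    intro h3
    haveI : Fact (Nat.Prime 3) := ⟨Nat.prime_three⟩
    obtain ⟨r, hr⟩ := exists_prime_orderOf_dvd_card' 3 h3
    rw [← Subgroup.orderOf_coe] at hr
    exact Q.no_three_fix hv hr (hmem.1 r.2).1 (hmem.1 r.2).2
  obtain ⟨k, hk⟩ := Q.hm
  have hdvd : Nat.card H ∣ 2 ^ k * 3 ^ 2 := by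
    have := Subgroup.card_dvd_of_le (inf_le_left : H ≤ Subgroup.centralizer ({z} : Set X))
    rwa [Q.card_C, hk] at this
  have h2 : Nat.card H ∣ 2 ^ k :=
    (Nat.Coprime.pow_right 2 ((Nat.prime_three.coprime_iff_not_dvd.2 h3).symm)).dvd_of_dvd_mul_right
      hdvd
  haveI : Fact (Nat.Prime 2) := ⟨Nat.prime_two⟩
  obtain ⟨n, -, hn⟩ := (Nat.dvd_prime_pow Nat.prime_two).1 h2
  haveI : Nontrivial H :=
    ⟨⟨⟨c, hmem.2 ⟨hcz, hcv⟩⟩, 1, fun h => hc (congrArg Subtype.val h)⟩⟩
  have hP : IsPGroup 2 H := IsPGroup.of_card hn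
  have hcent : Nontrivial (Subgroup.center H) := hP.center_nontrivial
  have h2c : 2 ∣ Nat.card (Subgroup.center H) := by
    obtain ⟨i, hi⟩ := IsPGroup.iff_card.1 (hP.to_subgroup (Subgroup.center H))
    rcases Nat.eq_zero_or_pos i with h0 | hpos
    · rw [h0, pow_zero] at hi
      exact absurd hi (Finite.one_lt_card).ne'
    · rw [hi]; exact dvd_pow_self 2 hpos.ne'
  obtain ⟨w, hw⟩ := exists_prime_orderOf_dvd_card' 2 h2c
  rw [← Subgroup.orderOf_coe, ← Subgroup.orderOf_coe] at hw
  obtain ⟨hwz, hwv⟩ := hmem.1 w.1.2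
  have hwJ : ((w : H) : X) ∈ jSet z := ⟨hw, hwz, fun h => hv (h ▸ hwv).symm⟩
  refine ⟨_, hwJ, hwv, fun u hu huv => ?_⟩
  have hcomm : Commute ((w : H) : X) u :=
    (congrArg Subtype.val (Subgroup.mem_center_iff.1 w.2 ⟨u, hmem.2 ⟨hu.2.1, huv⟩⟩)).symm
  exact Q.eq_of_commute hwJ hu hcomm hv hwv huv

theorem dvd_card_free [Finite X] (Q : QData z m J) :
    m ∣ Nat.card {v : X // IsConj z v ∧ ¬ Commute v z ∧
      ∀ c : X, Commute c z → Commute c v → c = 1} := by
  classical
  haveI := Fintype.ofFinite X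
  let C := Subgroup.centralizer ({z} : Set X)
  let F := {v : X // IsConj z v ∧ ¬ Commute v z ∧ ∀ c : X, Commute c z → Commute c v → c = 1}
  have hinv : ∀ (g : C) (v : F), IsConj z ((g : X) * v.1 * (g : X)⁻¹) ∧
      ¬ Commute ((g : X) * v.1 * (g : X)⁻¹) z ∧
      ∀ c : X, Commute c z → Commute c ((g : X) * v.1 * (g : X)⁻¹) → c = 1 := by
    intro g v
    have hg : Commute (g : X) z := mem_C.1 g.2
    have hcc : ∀ {a b : X}, Commute a b →
        Commute ((g : X)⁻¹ * a * (g : X)) ((g : X)⁻¹ * b * (g : X)) := fun {a b} h => by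
      show _ = _
      calc (g : X)⁻¹ * a * g * ((g : X)⁻¹ * b * g) = (g : X)⁻¹ * (a * b) * g := by group
        _ = _ := by rw [h.eq]; group
    have hzg : (g : X)⁻¹ * z * (g : X) = z := by rw [mul_assoc, ← hg.eq, inv_mul_cancel_left]
    refine ⟨v.2.1.trans (isConj_iff.2 ⟨g, rfl⟩), fun h => v.2.2.1 ?_, fun c hcz hcv => ?_⟩
    · have := hcc h
      rwa [hzg, show (g : X)⁻¹ * ((g : X) * v.1 * (g : X)⁻¹) * g = v.1 by group] at this
    · have h1 := hcc hcz
      have h2 := hcc hcv
      rw [hzg] at h1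
      rw [show (g : X)⁻¹ * ((g : X) * v.1 * (g : X)⁻¹) * g = v.1 by group] at h2
      have := v.2.2.2 _ h1 h2
      calc c = (g : X) * ((g : X)⁻¹ * c * g) * (g : X)⁻¹ := by group
        _ = 1 := by rw [this]; group
  let _ : MulAction C F :=
    { smul := fun g v => ⟨(g : X) * v.1 * (g : X)⁻¹, hinv g v⟩
      one_smul := fun v => Subtype.ext (by change (1 : X) * v.1 * (1 : X)⁻¹ = v.1; group)
      mul_smul := fun a b v => Subtype.ext (by
        change ((a : X) * b) * v.1 * ((a : X) * b)⁻¹ = (a : X) * ((b : X) * v.1 * (b : X)⁻¹) * (a : X)⁻¹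
        group) }
  change m ∣ Nat.card F
  rw [Nat.card_congr (MulAction.selfEquivSigmaOrbits C F), Nat.card_sigma]
  refine Finset.dvd_sum fun o _ => ?_
  rw [Nat.card_coe_set_eq, ← MulAction.index_stabilizer]
  have hbot : MulAction.stabilizer C o.out = ⊥ := by
    rw [eq_bot_iff]
    intro g hg
    have h' : (g : X) * o.out.1 * (g : X)⁻¹ = o.out.1 :=
      congrArg Subtype.val (MulAction.mem_stabilizer_iff.1 hg)
    exact Subgroup.mem_bot.2
      (Subtype.ext (o.out.2.2.2 _ (mem_C.1 g.2) (mul_inv_eq_iff_eq_mul.1 h')))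
  rw [hbot, Subgroup.index_bot, Q.card_C]

/-- Orbit count of the conjugates of `z`. -/
theorem count_orbits [Finite X] (Q : QData z m J) :
    ∃ F : ℕ, m ∣ F ∧
      (Subgroup.centralizer ({z} : Set X)).index = 1 + J + J * (J - 2) + F := by
  classical
  haveI := Fintype.ofFinite X
  refine ⟨_, Q.dvd_card_free, ?_⟩
  rw [← card_conj_class, Nat.card_eq_fintype_card, Fintype.card_subtype, Nat.card_eq_fintype_card,
    Fintype.card_subtype]
  set K : Finset X := Finset.univ.filter fun v => IsConj z v with hK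
  set Jf : Finset X := Finset.univ.filter fun u => u ∈ jSet z with hJf
  have hJc : Jf.card = J := by
    rw [← Q.card_J, Nat.card_eq_fintype_card, Fintype.card_subtype]
  have hA : K.filter (fun v => Commute v z) = insert z Jf := by
    ext v
    simp only [hK, hJf, Finset.mem_filter, Finset.mem_univ, true_and, Finset.mem_insert]
    constructor
    · rintro ⟨h1, h2⟩
      exact Q.eq_z_or_mem h1 h2
    · rintro (rfl | h)
      · exact ⟨IsConj.refl _, Commute.refl _⟩
      · exact ⟨Q.conjJ v h, h.2.1⟩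
  have hzJ : z ∉ Jf := fun h => (Finset.mem_filter.1 h).2.2.2 rfl
  have hAc : (K.filter fun v => Commute v z).card = 1 + J := by
    rw [hA, Finset.card_insert_of_notMem hzJ, hJc, add_comm]
  set B : Finset X := (K.filter fun v => ¬ Commute v z)
  set E : X → Finset X := fun w => B.filter fun v => Commute w v
  have hE : ∀ w ∈ Jf, (E w).card = J - 2 := by
    intro w hw
    have hwJ : w ∈ jSet z := (Finset.mem_filter.1 hw).2
    obtain ⟨g, hg⟩ := isConj_iff.1 (Q.conjJ w hwJ)
    have hall : (K.filter fun v => Commute w v).card = 1 + J := by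
      rw [← hAc]
      refine (Finset.card_equiv (MulAut.conj g).toEquiv fun v => ?_).symm
      simp only [hK, Finset.mem_filter, Finset.mem_univ, true_and, MulEquiv.toEquiv_eq_coe,
        EquivLike.coe_coe, MulAut.conj_apply]
      have e1 : IsConj v (g * v * g⁻¹) := isConj_iff.2 ⟨g, rfl⟩
      refine and_congr ⟨fun h => h.trans e1, fun h => h.trans e1.symm⟩ ?_
      rw [← hg]
      exact ⟨fun h => (h.symm.map (MulAut.conj g).toMonoidHom),
        fun h => by
          have := (h.map (MulAut.conj g⁻¹).toMonoidHom).symm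
          simpa [MulAut.conj_apply, mul_assoc] using this⟩
    have hin : (K.filter fun v => Commute w v).filter (fun v => Commute v z) = {z, w, w * z} := by
      ext v
      simp only [hK, Finset.mem_filter, Finset.mem_univ, true_and, Finset.mem_insert,
        Finset.mem_singleton]
      constructor
      · rintro ⟨⟨h1, h2⟩, h3⟩
        rcases Q.eq_z_or_mem h1 h3 with h | h
        · exact Or.inl h
        · exact Or.inr (Q.pair w hwJ v h h2)
      · rintro (rfl | rfl | rfl)
        · exact ⟨⟨IsConj.refl _, hwJ.2.1⟩, Commute.refl _⟩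
        · exact ⟨⟨Q.conjJ _ hwJ, Commute.refl _⟩, hwJ.2.1⟩
        · exact ⟨⟨Q.conjJ _ (Q.mul_z_mem hwJ), (Commute.refl w).mul_right hwJ.2.1⟩,
            (Q.mul_z_mem hwJ).2.1⟩
    have h3 : ({z, w, w * z} : Finset X).card = 3 := by
      have hwne : w ≠ 1 := fun h => by
        have := hwJ.1
        rw [h, orderOf_one] at this
        omega
      rw [Finset.card_eq_three]
      refine ⟨z, w, w * z, Ne.symm hwJ.2.2, fun h => hwne (right_eq_mul.1 h),
        fun h => Q.z_ne_one (left_eq_mul.1 h), rfl⟩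
    have hsplit := Finset.card_filter_add_card_filter_not (s := K.filter fun v => Commute w v)
      (fun v => Commute v z)
    rw [hin, h3, hall] at hsplit
    have hEe : E w = (K.filter fun v => Commute w v).filter (fun v => ¬ Commute v z) := by
      ext v
      simp only [E, B, Finset.mem_filter]
      tauto
    rw [hEe]
    omega
  have hfixed : B.filter (fun v => ¬ ∀ c : X, Commute c z → Commute c v → c = 1) = Jf.biUnion E := by
    ext v
    simp only [E, Finset.mem_filter, Finset.mem_biUnion]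
    constructor
    · rintro ⟨hv, hne⟩
      push Not at hne
      obtain ⟨c, hcz, hcv, hc⟩ := hne
      have hvz : ¬ Commute v z := (Finset.mem_filter.1 hv).2
      obtain ⟨w, hw, hwv, -⟩ := Q.exists_unique_fix hvz hc hcz hcv
      exact ⟨w, Finset.mem_filter.2 ⟨Finset.mem_univ _, hw⟩, hv, hwv⟩
    · rintro ⟨w, hw, hv, hwv⟩
      have hwJ : w ∈ jSet z := (Finset.mem_filter.1 hw).2
      refine ⟨hv, fun h => ?_⟩
      have := hwJ.1
      rw [h w hwJ.2.1 hwv, orderOf_one] at this
      omega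
  have hdisj : (Jf : Set X).PairwiseDisjoint E := by
    intro w hw w' hw' hne
    refine Finset.disjoint_left.2 fun v hv hv' => hne ?_
    simp only [E, Finset.mem_filter] at hv hv'
    have hwJ : w ∈ jSet z := (Finset.mem_filter.1 hw).2
    have hw'J : w' ∈ jSet z := (Finset.mem_filter.1 hw').2
    have hvz : ¬ Commute v z := (Finset.mem_filter.1 hv.1).2
    have hw1 : w ≠ 1 := fun h => by
      have := hwJ.1
      rw [h, orderOf_one] at this
      omega
    obtain ⟨w₀, -, -, huniq⟩ := Q.exists_unique_fix hvz hw1 hwJ.2.1 hv.2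
    rw [huniq w hwJ hv.2, huniq w' hw'J hv'.2]
  have hBfix : (B.filter fun v => ¬ ∀ c : X, Commute c z → Commute c v → c = 1).card = J * (J - 2) := by
    rw [hfixed, Finset.card_biUnion hdisj, Finset.sum_congr rfl hE, Finset.sum_const, hJc, smul_eq_mul]
  have h1 := Finset.card_filter_add_card_filter_not (s := K) (fun v => Commute v z)
  have h2 := Finset.card_filter_add_card_filter_not (s := B)
    (fun v => ∀ c : X, Commute c z → Commute c v → c = 1)
  have hfree : B.filter (fun v => ∀ c : X, Commute c z → Commute c v → c = 1) =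
      Finset.univ.filter (fun v => IsConj z v ∧ ¬ Commute v z ∧
        ∀ c : X, Commute c z → Commute c v → c = 1) := by
    ext v
    simp only [B, hK, Finset.mem_filter, Finset.mem_univ, true_and, and_assoc]
  rw [hfree] at h2
  rw [hBfix] at h2
  change _ + B.card = _ at h1
  rw [hAc] at h1
  omega

theorem pi_surjective (Q : QData z m J) : Function.Surjective Q.π := by
  have hmem : ∀ a : Equiv.Perm (Fin 3), Equiv.Perm.sign a = -1 → a ∈ Q.π.range := by
    intro a ha
    have h := Q.fib a ha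
    rcases isEmpty_or_nonempty
      {c : Subgroup.centralizer ({z} : Set X) // (c : X) ∈ jSet z ∧ Q.π c = a} with he | ⟨⟨c, -, hc⟩⟩
    · rw [Nat.card_of_isEmpty] at h
      have := Q.hJ
      omega
    · exact ⟨c, hc⟩
  intro τ
  rcases odd_generate τ with rfl | h | ⟨a, b, ha, hb, rfl⟩
  · exact one_mem Q.π.range
  · exact hmem τ h
  · exact mul_mem (hmem a ha) (hmem b hb)

/-- The part of order three of an element acting as a three-cycle. -/
theorem exists_three_part [Finite X] (Q : QData z m J) {c : Subgroup.centralizer ({z} : Set X)}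
    (hc : IsRot (Q.π c)) : ∃ n : ℕ, orderOf ((c : X) ^ n) = 3 := by
  haveI : Fact (Nat.Prime 3) := ⟨Nat.prime_three⟩
  have h3 : 3 ∣ orderOf (c : X) := by
    have h1 := orderOf_map_dvd Q.π c
    rwa [orderOf_eq_prime (rot_cube _ hc) hc.2, ← Subgroup.orderOf_coe] at h1
  exact ⟨orderOf (c : X) / 3, orderOf_pow_orderOf_div (orderOf_pos _).ne' h3⟩

theorem ti [Finite X] (Q : QData z m J) (g : X) (c d : Subgroup.centralizer ({z} : Set X))
    (hc : IsRot (Q.π c)) (h : g * (c : X) * g⁻¹ = d) : Commute g z := by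
  obtain ⟨n, hn⟩ := Q.exists_three_part hc
  refine Q.three _ ((d : X) ^ n) g hn ((mem_C.1 c.2).pow_left n) ((mem_C.1 d.2).pow_left n) ?_
  rw [← h, conj_pow]

theorem card_rot [Finite X] (Q : QData z m J) :
    3 * Nat.card {c : Subgroup.centralizer ({z} : Set X) // IsRot (Q.π c)} = m := by
  classical
  have hfib : ∀ τ : Equiv.Perm (Fin 3),
      Nat.card {c : Subgroup.centralizer ({z} : Set X) // Q.π c = τ} = Nat.card Q.π.ker := fun τ =>
    Nat.card_congr (MonoidHom.fiberEquivKerOfSurjective Q.pi_surjective τ)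
  have hsig : ∀ P : Equiv.Perm (Fin 3) → Prop,
      Nat.card {c : Subgroup.centralizer ({z} : Set X) // P (Q.π c)} =
        Nat.card Q.π.ker * Nat.card {τ : Equiv.Perm (Fin 3) // P τ} := by
    intro P
    rw [Nat.card_congr (Equiv.sigmaSubtypeFiberEquivSubtype Q.π (p := fun c => P (Q.π c))
      (q := P) fun c => Iff.rfl).symm, Nat.card_sigma, Finset.sum_congr rfl fun τ _ => hfib τ.1,
      Finset.sum_const, Finset.card_univ, smul_eq_mul, ← Nat.card_eq_fintype_card, mul_comm]
  have hall := hsig fun _ => True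
  rw [Nat.card_congr (Equiv.subtypeUnivEquiv fun _ => trivial), Q.card_C,
    Nat.card_congr (Equiv.subtypeUnivEquiv fun _ => trivial),
    Nat.card_eq_fintype_card (α := Equiv.Perm (Fin 3)), Fintype.card_perm, Fintype.card_fin] at hall
  rw [hsig IsRot, Nat.card_eq_fintype_card (α := {τ // IsRot τ}), rot_count]
  simp only [Nat.factorial] at hall
  omega

/-- The products of two conjugates of `z` acting as three-cycles. -/
theorem sum_products [Finite X] (Q : QData z m J) [Fintype (Subgroup.centralizer ({z} : Set X))] :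
    3 * ∑ c ∈ Finset.univ.filter (fun c : Subgroup.centralizer ({z} : Set X) => IsRot (Q.π c)),
      Nat.card {p : X × X // IsConj z p.1 ∧ IsConj z p.2 ∧ p.1 * p.2 = c} = 2 * J * J := by
  classical
  set C := Subgroup.centralizer ({z} : Set X)
  set Jc : Finset C := Finset.univ.filter fun c => (c : X) ∈ jSet z with hJc
  have hJcard : Jc.card = J := by
    rw [← Fintype.card_subtype, ← Nat.card_eq_fintype_card, ← Q.card_J]
    exact Nat.card_congr
      { toFun := fun u => ⟨u.1, u.2⟩
        invFun := fun u => ⟨⟨u.1, mem_C.2 u.2.2.1⟩, u.2⟩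
        left_inv := fun u => rfl
        right_inv := fun u => rfl }
  set P : Finset (C × C) := (Jc ×ˢ Jc).filter fun p => Q.π p.1 ≠ Q.π p.2
  have hP : 3 * P.card = 2 * J * J := by
    have hsame : ∀ u ∈ Jc, 3 * (Jc.filter fun v => Q.π u = Q.π v).card = J := by
      intro u hu
      have h := Q.fib (Q.π u) (Q.sgn u (Finset.mem_filter.1 hu).2)
      rw [Nat.card_eq_fintype_card, Fintype.card_subtype] at h
      have he : Jc.filter (fun v => Q.π u = Q.π v) =
          Finset.univ.filter (fun v : C => (v : X) ∈ jSet z ∧ Q.π v = Q.π u) := by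
        ext v
        simp only [hJc, Finset.mem_filter, Finset.mem_univ, true_and, eq_comm (a := Q.π u)]
      rw [he]
      exact h
    have hdiff : ∀ u ∈ Jc, 3 * (Jc.filter fun v => Q.π u ≠ Q.π v).card = 2 * J := by
      intro u hu
      have h := Finset.card_filter_add_card_filter_not (s := Jc) (fun v => Q.π u = Q.π v)
      rw [hJcard] at h
      have := hsame u hu
      have e : Jc.filter (fun v => Q.π u ≠ Q.π v) = Jc.filter (fun v => ¬ Q.π u = Q.π v) := by
        ext v; simp only [Finset.mem_filter, ne_eq]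
      rw [e]
      have hle : (Jc.filter fun v => ¬ Q.π u = Q.π v).card + (Jc.filter fun v => Q.π u = Q.π v).card = J := by
        rw [add_comm]; convert h using 4
      omega
    have hPe : P.card = ∑ u ∈ Jc, (Jc.filter fun v => Q.π u ≠ Q.π v).card := by
      simp only [P]
      rw [Finset.card_filter, Finset.sum_product]
      refine Finset.sum_congr rfl fun x _ => ?_
      rw [Finset.card_filter]
    rw [hPe, Finset.mul_sum, Finset.sum_congr rfl hdiff, Finset.sum_const, hJcard, smul_eq_mul]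
    ring
  rw [← hP]
  congr 1
  have hrot : ∀ p ∈ P, p.1 * p.2 ∈ Finset.univ.filter (fun c : C => IsRot (Q.π c)) := by
    intro p hp
    simp only [P, Finset.mem_filter, Finset.mem_product, hJc, Finset.mem_univ, true_and] at hp ⊢
    rw [map_mul]
    exact rot_mul _ _ (Q.sgn _ hp.1.1) (Q.sgn _ hp.1.2) hp.2
  rw [Finset.card_eq_sum_card_fiberwise hrot]
  refine Finset.sum_congr (by ext; simp) fun c hc => ?_
  have hcr : IsRot (Q.π c) := (Finset.mem_filter.1 hc).2
  rw [← Fintype.card_coe, ← Nat.card_eq_fintype_card]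
  have hto : ∀ p : {p // p ∈ P.filter fun p => p.1 * p.2 = c},
      IsConj z ((p.1.1 : C) : X) ∧ IsConj z ((p.1.2 : C) : X) ∧
        ((p.1.1 : C) : X) * (p.1.2 : C) = c := by
    rintro ⟨p, hp⟩
    simp only [P, Finset.mem_filter, Finset.mem_product, hJc, Finset.mem_univ, true_and] at hp
    exact ⟨Q.conjJ _ hp.1.1.1, Q.conjJ _ hp.1.1.2, congrArg Subtype.val hp.2⟩
  refine (Nat.card_congr (Equiv.ofBijective
    (fun p => (⟨((p.1.1 : X), (p.1.2 : X)), hto p⟩ :
      {p : X × X // IsConj z p.1 ∧ IsConj z p.2 ∧ p.1 * p.2 = c})) ⟨?_, ?_⟩)).symm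
  · intro p q h
    have h' := congrArg Subtype.val h
    simp only [Prod.mk.injEq] at h'
    exact Subtype.ext (Prod.ext (Subtype.ext h'.1) (Subtype.ext h'.2))
  · rintro ⟨⟨a, b⟩, ha, hb, hab⟩
    simp only at ha hb hab
    have ha2 : a * a = 1 := by rw [← sq, ← Q.order_two_of_isConj ha, pow_orderOf_eq_one]
    have hb2 : b * b = 1 := by rw [← sq, ← Q.order_two_of_isConj hb, pow_orderOf_eq_one]
    have hinv : a * (c : X) * a⁻¹ = ((c⁻¹ : C) : X) := by
      rw [Subgroup.coe_inv, ← hab, inv_eq_of_mul_eq_one_right ha2, mul_inv_rev,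
        inv_eq_of_mul_eq_one_right ha2, inv_eq_of_mul_eq_one_right hb2, ← mul_assoc, ha2, one_mul]
    have haC : a ∈ C := mem_C.2 (Q.ti a c c⁻¹ hcr hinv)
    have hbC : b ∈ C := by
      rw [show b = a⁻¹ * c by rw [← hab, inv_mul_cancel_left]]
      exact mul_mem (inv_mem haC) c.2
    let a' : C := ⟨a, haC⟩
    let b' : C := ⟨b, hbC⟩
    have habc : a' * b' = c := Subtype.ext hab
    have hπ : Q.π a' * Q.π b' = Q.π c := by rw [← map_mul, habc]
    have haJ : a ∈ jSet z := by
      rcases Q.eq_z_or_mem ha (mem_C.1 haC) with h | h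
      · exfalso
        rw [Q.πz a' h, one_mul] at hπ
        rcases Q.eq_z_or_mem hb (mem_C.1 hbC) with h' | h'
        · rw [Q.πz b' h'] at hπ
          exact hcr.2 hπ.symm
        · have := Q.sgn b' h'
          rw [hπ, hcr.1] at this
          exact absurd this (by decide)
      · exact h
    have hbJ : b ∈ jSet z := by
      rcases Q.eq_z_or_mem hb (mem_C.1 hbC) with h | h
      · exfalso
        rw [Q.πz b' h, mul_one] at hπ
        have := Q.sgn a' haJ
        rw [hπ, hcr.1] at this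
        exact absurd this (by decide)
      · exact h
    refine ⟨⟨(a', b'), ?_⟩, rfl⟩
    simp only [P, Finset.mem_filter, Finset.mem_product, hJc, Finset.mem_univ, true_and]
    refine ⟨⟨⟨haJ, hbJ⟩, fun h => hcr.2 ?_⟩, habc⟩
    rw [← hπ, ← h, odd_sq _ (Q.sgn a' haJ)]

/-- The character relation. -/
theorem count_char [Finite X] (Q : QData z m J) :
    ∃ p q : ℤ, p ≠ 0 ∧ p + 1 ≠ 0 ∧
      ((Subgroup.centralizer ({z} : Set X)).index : ℤ) * (p - q) ^ 2 =
        2 * (J : ℤ) ^ 2 * p * (p + 1) ∧ 1 + q ^ 2 + (q + 1) ^ 2 ≤ (m : ℤ) := by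
  classical
  haveI := Fintype.ofFinite X
  set C := Subgroup.centralizer ({z} : Set X) with hC
  haveI := Fintype.ofFinite C
  set θ : C → ℂ := fun c => rotFun (Q.π c) with hθ
  have hθg : Cfsg.IsGeneralizedCharacter C θ := IsGeneralized.comp isGeneralized_rotFun Q.π
  have hθcl := IsGeneralized.isClassFunction hθg
  let T : Set X := {x | ∃ c : C, (c : X) = x ∧ IsRot (Q.π c)}
  have hTI : ∀ g : X, g ∉ C → ∀ t ∈ T, g * t * g⁻¹ ∈ T → t = 1 := by
    rintro g hg t ⟨c, rfl, hc⟩ ⟨d, hd, -⟩
    exact absurd (mem_C.2 (Q.ti g c d hc hd.symm)) hg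
  have hθT : ∀ x : C, (x : X) ∉ T → θ x = 0 := fun x hx => by
    simp only [hθ, rotFun]
    rw [if_neg fun h => hx ⟨x, rfl, h⟩]
  have hθ1 : θ 1 = 0 := by simp [hθ, rotFun, IsRot]
  have hm0 : (m : ℂ) ≠ 0 := by
    rw [← Q.card_C]; exact_mod_cast Nat.card_pos.ne'
  have hsumθ : ∀ k : ℕ, k ≠ 0 → ∑ c : C, θ c ^ k = 3 ^ k * ((m : ℂ) / 3) := by
    intro k hk
    have h : ∀ c : C, θ c ^ k = if IsRot (Q.π c) then (3 : ℂ) ^ k else 0 := fun c => by
      simp only [hθ, rotFun]; split_ifs <;> simp [hk]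
    rw [Finset.sum_congr rfl fun c _ => h c, ← Finset.sum_filter, Finset.sum_const, nsmul_eq_mul,
      ← Fintype.card_subtype, ← Nat.card_eq_fintype_card]
    have h3 := congrArg (fun n : ℕ => (n : ℂ)) Q.card_rot
    push_cast at h3
    rw [← h3]
    ring
  have hin1 : Cfsg.classInner θ (fun _ => 1) = 1 := by
    have h := hsumθ 1 one_ne_zero
    simp only [pow_one] at h
    rw [classInner_def]
    simp only [map_one, mul_one]
    rw [h, Q.card_C]
    field_simp
  have hin3 : Cfsg.classInner θ θ = 3 := by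
    have h := hsumθ 2 two_ne_zero
    rw [classInner_def]
    have h' : ∀ c : C, θ c * conj (θ c) = θ c ^ 2 := fun c => by
      simp only [hθ, rotFun]; split_ifs <;> simp [sq, map_ofNat]
    rw [Finset.sum_congr rfl fun c _ => h' c, h, Q.card_C]
    field_simp
  set Φ : X → ℂ := Cfsg.indFun C θ with hΦ
  have hΦg : Cfsg.IsGeneralizedCharacter X Φ := IsGeneralized.indFun hθg
  have hΦcl : Cfsg.IsClassFunction X Φ := isClassFunction_indFun C θ
  have hΦ3 : Cfsg.classInner Φ Φ = 3 := by
    rw [hΦ, classInner_indFun_TI hTI hθcl hθT hθT hθ1, hin3]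
  have hn : ∀ χ : X → ℂ, ∃ n : ℤ, χ ∈ irrFinset X → Cfsg.classInner Φ χ = (n : ℂ) := by
    intro χ
    by_cases hχ : χ ∈ irrFinset X
    · obtain ⟨n, hn⟩ := IsGeneralized.exists_classInner_eq_int hΦg
        (IsIrrCharacter.isGeneralized (mem_irrFinset.1 hχ))
      exact ⟨n, fun _ => hn⟩
    · exact ⟨0, fun h => absurd h hχ⟩
  choose n hn using hn
  set triv : X → ℂ := fun _ => 1 with htriv
  have htm : triv ∈ irrFinset X := mem_irrFinset.2 isIrrCharacter_one
  have hn1 : n triv = 1 := by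
    have h := hn triv htm
    rw [hΦ, classInner_indFun θ (IsIrrCharacter.isClassFunction (mem_irrFinset.1 htm))] at h
    change Cfsg.classInner θ (fun _ => 1) = _ at h
    rw [hin1] at h
    exact_mod_cast h.symm
  have hsq : ∑ χ ∈ irrFinset X, n χ ^ 2 = 3 := by
    have h := hΦ3
    rw [classInner_eq_sum_irr hΦcl, Finset.sum_congr rfl fun χ hχ => by
      rw [hn χ hχ, map_intCast, ← sq]] at h
    exact_mod_cast h
  rw [← Finset.add_sum_erase _ _ htm, hn1] at hsq
  set S := ((irrFinset X).erase triv).filter fun χ => n χ ≠ 0 with hS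
  have hS2 : ∑ χ ∈ S, n χ ^ 2 = 2 := by
    rw [hS, Finset.sum_filter_of_ne (p := fun χ => n χ ≠ 0)
      fun χ _ hne h0 => hne (by rw [h0]; norm_num)]
    linarith
  have hpm : ∀ χ ∈ S, n χ ^ 2 = 1 := by
    intro χ hχ
    have h1 := Finset.single_le_sum (fun ψ _ => sq_nonneg (n ψ)) hχ
    rw [hS2] at h1
    have h0 := (Finset.mem_filter.1 hχ).2
    have : -1 ≤ n χ ∧ n χ ≤ 1 := ⟨by nlinarith, by nlinarith⟩
    rcases (by omega : n χ = 1 ∨ n χ = -1) with h | h <;> rw [h] <;> norm_num
  have hcard : S.card = 2 := by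
    rw [Finset.sum_congr rfl hpm, Finset.sum_const, nsmul_one] at hS2
    exact_mod_cast hS2
  obtain ⟨χa, χb, hab, hSe⟩ := Finset.card_eq_two.1 hcard
  have hmemS : ∀ χ ∈ S, χ ∈ irrFinset X ∧ χ ≠ triv := fun χ hχ => by
    rw [hS] at hχ
    exact ⟨Finset.mem_of_mem_erase (Finset.mem_filter.1 hχ).1,
      Finset.ne_of_mem_erase (Finset.mem_filter.1 hχ).1⟩
  have haS : χa ∈ S := by rw [hSe]; simp
  have hbS : χb ∈ S := by rw [hSe]; simp
  have hsum : ∀ f : (X → ℂ) → ℂ, (∀ χ, n χ = 0 → f χ = 0) →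
      ∑ χ ∈ irrFinset X, f χ = f triv + f χa + f χb := by
    intro f hf
    rw [← Finset.add_sum_erase _ _ htm,
      ← Finset.sum_filter_of_ne (p := fun χ => n χ ≠ 0) fun χ _ hne h0 => hne (hf χ h0), ← hS,
      hSe, Finset.sum_pair hab, add_assoc]
  have hval : ∀ g : X, Φ g = triv g + (n χa : ℂ) * χa g + (n χb : ℂ) * χb g := by
    intro g
    rw [congrFun (eq_sum_irr hΦcl) g, Finset.sum_apply]
    rw [Finset.sum_congr rfl fun χ hχ => show (Cfsg.classInner Φ χ • χ) g = (n χ : ℂ) * χ g by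
      rw [Pi.smul_apply, smul_eq_mul, hn χ hχ]]
    rw [hsum _ fun χ h => by simp [h], hn1]
    simp
  have hΦ1 : Φ 1 = 0 := by rw [hΦ, indFun_one, hθ1, mul_zero]
  have hΦz : Φ z = 0 := by
    rw [hΦ, indFun_def, Finset.sum_eq_zero fun x _ => ?_, mul_zero]
    by_cases hx : x⁻¹ * z * x ∈ C
    · rw [extendByZero_of_mem θ hx]
      simp only [hθ, rotFun]
      rw [if_neg]
      intro hrot
      obtain ⟨k, hk⟩ := Q.exists_three_part hrot
      have ho : orderOf (x⁻¹ * z * x) = 2 := Q.order_two_of_isConj (isConj_iff.2 ⟨x⁻¹, by group⟩)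
      have h := orderOf_pow_dvd (x := x⁻¹ * z * x) k
      rw [hk, ho] at h
      norm_num at h
    · exact extendByZero_of_not_mem θ hx
  have hira := mem_irrFinset.1 (hmemS χa haS).1
  have hirb := mem_irrFinset.1 (hmemS χb hbS).1
  obtain ⟨da, -, hda⟩ := IsIrrCharacter.exists_degree hira
  obtain ⟨db, -, hdb⟩ := IsIrrCharacter.exists_degree hirb
  obtain ⟨za, hza⟩ := exists_int_at_involution (IsIrrCharacter.isCharacter hira) Q.hz
  obtain ⟨zb, hzb⟩ := exists_int_at_involution (IsIrrCharacter.isCharacter hirb) Q.hz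
  have hda0 : (da : ℂ) ≠ 0 := by rw [← hda]; exact IsIrrCharacter.apply_one_ne_zero hira
  have hdb0 : (db : ℂ) ≠ 0 := by rw [← hdb]; exact IsIrrCharacter.apply_one_ne_zero hirb
  have e1 : (1 : ℤ) + n χa * da + n χb * db = 0 := by
    have h := hval 1
    rw [hΦ1, hda, hdb] at h
    apply (Int.cast_injective (α := ℂ))
    push_cast
    linear_combination (norm := (simp only [htriv]; ring)) -h
  have ez : (1 : ℤ) + n χa * za + n χb * zb = 0 := by
    have h := hval z
    rw [hΦz, hza, hzb] at h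
    apply (Int.cast_injective (α := ℂ))
    push_cast
    linear_combination (norm := (simp only [htriv]; ring)) -h
  -- class products
  set N := C.index with hNdef
  have hK : Nat.card {x : X // IsConj z x} = N := card_conj_class z
  have hX : (Nat.card X : ℂ) = (N : ℂ) * m := by
    rw [← Q.card_C, hNdef, ← Nat.cast_mul, Subgroup.index_mul_card]
  have hN0 : (N : ℂ) ≠ 0 := by exact_mod_cast Subgroup.index_ne_zero_of_finite
  have hcnt : ∑ c : C,
      θ c * (Nat.card {p : X × X // IsConj z p.1 ∧ IsConj z p.2 ∧ p.1 * p.2 = c} : ℂ) =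
      2 * (J : ℂ) ^ 2 := by
    have h := congrArg (fun n : ℕ => (n : ℂ)) Q.sum_products
    push_cast at h
    rw [Finset.sum_filter, Finset.mul_sum] at h
    rw [show (2 : ℂ) * (J : ℂ) ^ 2 = 2 * J * J by ring, ← h]
    refine Finset.sum_congr rfl fun c _ => ?_
    simp only [hθ, rotFun]
    split_ifs <;> simp
  have hinner : ∀ χ ∈ irrFinset X, ∑ c : C, θ c * conj (χ (c : X)) = (m : ℂ) * (n χ : ℂ) := by
    intro χ hχ
    rw [← hn χ hχ, hΦ, classInner_indFun θ (IsIrrCharacter.isClassFunction (mem_irrFinset.1 hχ)),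
      classInner_def, Q.card_C, ← mul_assoc, mul_inv_cancel₀ hm0, one_mul]
  have hmain : (N : ℂ) * (1 + (n χa : ℂ) * (za : ℂ) ^ 2 / da + (n χb : ℂ) * (zb : ℂ) ^ 2 / db) =
      2 * (J : ℂ) ^ 2 := by
    rw [← hcnt, Finset.sum_congr rfl fun (c : C) _ => by rw [card_class_products z z (c : X)]]
    have hre : ∀ c : C, θ c * ((Nat.card {x : X // IsConj z x} : ℂ) *
        (Nat.card {x : X // IsConj z x} : ℂ) / (Nat.card X : ℂ) *
          ∑ χ ∈ irrFinset X, χ z * χ z * conj (χ (c : X)) / χ 1) =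
        (N : ℂ) / m * ∑ χ ∈ irrFinset X, χ z * χ z / χ 1 * (θ c * conj (χ (c : X))) := by
      intro c
      rw [hK, hX, Finset.mul_sum, Finset.mul_sum, Finset.mul_sum]
      refine Finset.sum_congr rfl fun χ _ => ?_
      field_simp
    rw [Finset.sum_congr rfl fun c _ => hre c, ← Finset.mul_sum, Finset.sum_comm]
    simp only [← Finset.mul_sum]
    rw [Finset.sum_congr rfl fun χ hχ => by rw [hinner χ hχ],
      hsum _ fun χ h => by simp [h], hn1, hza, hzb, hda, hdb]
    simp only [htriv]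
    push_cast
    field_simp
  have hna := hpm χa haS
  have hnb := hpm χb hbS
  refine ⟨n χa * da, n χa * za, ?_, ?_, ?_, ?_⟩
  · intro h
    rcases mul_eq_zero.1 h with h' | h'
    · exact (Finset.mem_filter.1 haS).2 h'
    · exact hda0 (by exact_mod_cast congrArg (fun k : ℤ => (k : ℂ)) h')
  · intro h
    have : n χb * db = 0 := by linarith
    rcases mul_eq_zero.1 this with h' | h'
    · exact (Finset.mem_filter.1 hbS).2 h'
    · exact hdb0 (by exact_mod_cast congrArg (fun k : ℤ => (k : ℂ)) h')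
  · apply (Int.cast_injective (α := ℂ))
    have hp0 : (n χa : ℂ) * da ≠ 0 := mul_ne_zero
      (by exact_mod_cast (Finset.mem_filter.1 haS).2) hda0
    have hb' : (n χb : ℂ) * db = -1 - (n χa : ℂ) * da := by
      have := congrArg (fun k : ℤ => (k : ℂ)) e1
      push_cast at this
      linear_combination this
    have hz' : (n χb : ℂ) * zb = -1 - (n χa : ℂ) * za := by
      have := congrArg (fun k : ℤ => (k : ℂ)) ez
      push_cast at this
      linear_combination this
    have hna' : (n χa : ℂ) ^ 2 = 1 := by exact_mod_cast congrArg (fun k : ℤ => (k : ℂ)) hna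
    have hnb' : (n χb : ℂ) ^ 2 = 1 := by exact_mod_cast congrArg (fun k : ℤ => (k : ℂ)) hnb
    push_cast
    have hA : (n χa : ℂ) * (za : ℂ) ^ 2 / da = ((n χa : ℂ) * za) ^ 2 / ((n χa : ℂ) * da) := by
      field_simp
    have hB : (n χb : ℂ) * (zb : ℂ) ^ 2 / db = ((n χb : ℂ) * zb) ^ 2 / ((n χb : ℂ) * db) := by
      have : (n χb : ℂ) ≠ 0 := by exact_mod_cast (Finset.mem_filter.1 hbS).2
      field_simp
    have hb0 : -1 - (n χa : ℂ) * da ≠ 0 := hb' ▸
      mul_ne_zero (by exact_mod_cast (Finset.mem_filter.1 hbS).2) hdb0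
    rw [hA, hB, hb', hz'] at hmain
    set P := (n χa : ℂ) * da
    set R := (n χa : ℂ) * za
    field_simp at hmain
    linear_combination -hmain
  · have hcol := sum_irr_mul_conj z z
    rw [if_pos (IsConj.refl z), Q.card_C] at hcol
    have hre := congrArg Complex.re hcol
    rw [Complex.re_sum, Complex.natCast_re] at hre
    have hnn : ∀ χ ∈ irrFinset X, 0 ≤ (χ z * conj (χ z)).re := fun χ _ => by
      rw [Complex.mul_conj]; exact Complex.normSq_nonneg _
    have hsub : ({triv, χa, χb} : Finset (X → ℂ)) ⊆ irrFinset X := by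
      intro χ hχ
      simp only [Finset.mem_insert, Finset.mem_singleton] at hχ
      rcases hχ with rfl | rfl | rfl
      exacts [htm, (hmemS _ haS).1, (hmemS _ hbS).1]
    have hle := Finset.sum_le_sum_of_subset_of_nonneg hsub fun χ hχ _ => hnn χ hχ
    rw [Finset.sum_insert (by simp [((hmemS _ haS).2).symm, ((hmemS _ hbS).2).symm]),
      Finset.sum_pair hab, hre, hza, hzb] at hle
    simp only [htriv, map_one, mul_one, Complex.one_re, map_intCast,
      Complex.mul_re, Complex.intCast_re, Complex.intCast_im, mul_zero, sub_zero] at hle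
    have hle' : (1 : ℤ) + za ^ 2 + zb ^ 2 ≤ (m : ℤ) := by
      have : ((1 + za ^ 2 + zb ^ 2 : ℤ) : ℝ) ≤ ((m : ℤ) : ℝ) := by
        push_cast
        linarith
      exact_mod_cast this
    have h1 : (n χa * za) ^ 2 = za ^ 2 := by rw [mul_pow, hna, one_mul]
    have h2 : (n χb * zb) ^ 2 = zb ^ 2 := by rw [mul_pow, hnb, one_mul]
    have h3 : (n χa * za + 1) ^ 2 = (n χb * zb) ^ 2 := by
      rw [show n χa * za + 1 = -(n χb * zb) by linarith, neg_sq]
    linarith

/-- The orbit and character facts together. -/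
theorem count [Finite X] (Q : QData z m J) :
    (Subgroup.centralizer ({z} : Set X)).index % m = (1 + J + J * (J - 2)) % m ∧
    1 + J + J * (J - 2) ≤ (Subgroup.centralizer ({z} : Set X)).index ∧
    ∃ p q : ℤ, p ≠ 0 ∧ p + 1 ≠ 0 ∧
      ((Subgroup.centralizer ({z} : Set X)).index : ℤ) * (p - q) ^ 2 =
        2 * (J : ℤ) ^ 2 * p * (p + 1) ∧ 1 + q ^ 2 + (q + 1) ^ 2 ≤ (m : ℤ) := by
  obtain ⟨F, ⟨e, rfl⟩, hF⟩ := Q.count_orbits
  refine ⟨?_, by omega, Q.count_char⟩
  rw [hF, Nat.add_mul_mod_self_left]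

end QData

/-- The solutions of the relation with bounded value and difference. -/
def solBound (m r lo c B a : ℕ) (good : List ℤ) : Bool :=
  (List.range (2 * a)).all fun i => (List.range (2 * B + 1)).all fun j =>
    let q : ℤ := (i : ℤ) - a
    let d : ℤ := (j : ℤ) - B
    let x : ℤ := (c : ℤ) * (q + d) * (q + d + 1)
    d == 0 || x % (d * d) != 0 || decide (x / (d * d) < lo) || x / (d * d) % m != r ||
      good.contains (x / (d * d))

theorem solBound_sound {m r lo c B a : ℕ} {good : List ℤ} (hb : solBound m r lo c B a good = true)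
    {N : ℕ} {p q : ℤ} (hq : -(a : ℤ) ≤ q ∧ q < a) (hd : -(B : ℤ) ≤ p - q ∧ p - q ≤ B) (hne : p ≠ q)
    (he : (N : ℤ) * (p - q) ^ 2 = (c : ℤ) * p * (p + 1)) (hN : N % m = r) (hlo : lo ≤ N) :
    (N : ℤ) ∈ good := by
  have h := List.all_eq_true.1 hb (q + a).toNat (List.mem_range.2 (by omega))
  have h' := List.all_eq_true.1 h (p - q + B).toNat (List.mem_range.2 (by omega))
  simp only at h'
  rw [Int.toNat_of_nonneg (by omega), Int.toNat_of_nonneg (by omega),
    show q + (a : ℤ) - a = q by ring, show p - q + (B : ℤ) - B = p - q by ring,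
    show q + (p - q) = p by ring] at h'
  have hne' : (p - q) * (p - q) ≠ 0 := mul_ne_zero (sub_ne_zero.2 hne) (sub_ne_zero.2 hne)
  have hdiv : (c : ℤ) * p * (p + 1) / ((p - q) * (p - q)) = N := by
    rw [← he, ← sq, Int.mul_ediv_cancel _ (by rw [sq]; exact hne')]
  have hmod : (c : ℤ) * p * (p + 1) % ((p - q) * (p - q)) = 0 := by
    rw [← he, ← sq, Int.mul_emod_left]
  rw [hdiv, hmod] at h'
  have hN' : (N : ℤ) % m = r := by exact_mod_cast congrArg (fun k : ℕ => (k : ℤ)) hN
  simpa [sub_ne_zero.2 hne, hN', hlo, Nat.not_lt.2 hlo] using h'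

set_option maxRecDepth 100000 in
theorem solBound_nine : solBound 36 19 307 648 268 4 [703, 595] = true := by decide +kernel

set_option maxRecDepth 100000 in
theorem solBound_ten : solBound 144 109 1261 2592 1264 8 [2701] = true := by decide +kernel

theorem diff_bound {c N K B : ℕ} {p q : ℤ} (hp : p ≠ 0) (hp1 : p + 1 ≠ 0)
    (he : (N : ℤ) * (p - q) ^ 2 = (c : ℤ) * p * (p + 1)) (hc : c ≠ 0)
    (hgap : (K : ℤ) ≤ |(N : ℤ) - c|)
    (hB : (c : ℤ) * |2 * q + 1| * (B + 1) + c * |q * (q + 1)| < K * ((B : ℤ) + 1) ^ 2) :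
    p ≠ q ∧ -(B : ℤ) ≤ p - q ∧ p - q ≤ B := by
  have hne : p ≠ q := by
    intro h
    rw [h, sub_self] at he
    rw [h] at hp hp1
    have : (c : ℤ) * q * (q + 1) ≠ 0 := mul_ne_zero (mul_ne_zero (by exact_mod_cast hc) hp) hp1
    exact this (by rw [← he]; ring)
  refine ⟨hne, abs_le.1 ?_⟩
  set d := p - q with hd
  by_contra hlt
  push Not at hlt
  have hid : ((N : ℤ) - c) * d ^ 2 = c * (2 * q + 1) * d + c * (q * (q + 1)) := by
    rw [hd]; linear_combination he
  have h1 : |(N : ℤ) - c| * |d| ^ 2 ≤ c * |2 * q + 1| * |d| + c * |q * (q + 1)| := by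
    have := congrArg abs hid
    rw [abs_mul, abs_pow] at this
    rw [this]
    refine (abs_add_le _ _).trans_eq ?_
    rw [abs_mul, abs_mul, abs_mul, abs_of_nonneg (by positivity : (0 : ℤ) ≤ c)]
  have h2 : (K : ℤ) * |d| ^ 2 ≤ |(N : ℤ) - c| * |d| ^ 2 :=
    mul_le_mul_of_nonneg_right hgap (by positivity)
  have hD : (B : ℤ) + 1 ≤ |d| := by omega
  have ha : 0 ≤ (c : ℤ) * |2 * q + 1| := by positivity
  have hb : 0 ≤ (c : ℤ) * |q * (q + 1)| := by positivity
  have hB0 : (0 : ℤ) ≤ B := by positivity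
  have hK : (0 : ℤ) ≤ K := by positivity
  nlinarith [mul_le_mul_of_nonneg_left hD hb, mul_le_mul_of_nonneg_left hD ha,
    mul_nonneg hK (mul_nonneg (sub_nonneg.2 hD) (abs_nonneg d))]

theorem numeric_nine {N : ℕ} {p q : ℤ} (hN : N % 36 = 19) (hlo : 307 ≤ N) (hp : p ≠ 0)
    (hp1 : p + 1 ≠ 0) (he : (N : ℤ) * (p - q) ^ 2 = 2 * (18 : ℤ) ^ 2 * p * (p + 1))
    (hq : 1 + q ^ 2 + (q + 1) ^ 2 ≤ 36) : N = 703 ∨ N = 595 := by
  have hq' : -4 ≤ q ∧ q ≤ 3 := ⟨by nlinarith, by nlinarith⟩
  have he' : (N : ℤ) * (p - q) ^ 2 = ((648 : ℕ) : ℤ) * p * (p + 1) := by rw [he]; norm_num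
  have h := diff_bound (K := 17) (B := 268) hp hp1 he' (by norm_num)
    (by rcases abs_cases ((N : ℤ) - ((648 : ℕ) : ℤ)) with ⟨h, h'⟩ | ⟨h, h'⟩ <;> rw [h] <;> omega)
    (by obtain ⟨h1, h2⟩ := hq'; interval_cases q <;> norm_num)
  have := solBound_sound solBound_nine (q := q) ⟨by omega, by omega⟩ h.2 h.1 he' hN hlo
  simp only [List.mem_cons, List.not_mem_nil, or_false] at this
  omega

theorem numeric_ten {N : ℕ} {p q : ℤ} (hN : N % 144 = 109) (hlo : 1261 ≤ N) (hp : p ≠ 0)
    (hp1 : p + 1 ≠ 0) (he : (N : ℤ) * (p - q) ^ 2 = 2 * (36 : ℤ) ^ 2 * p * (p + 1))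
    (hq : 1 + q ^ 2 + (q + 1) ^ 2 ≤ 144) : N = 2701 := by
  have hq' : -8 ≤ q ∧ q ≤ 7 := ⟨by nlinarith, by nlinarith⟩
  have he' : (N : ℤ) * (p - q) ^ 2 = ((2592 : ℕ) : ℤ) * p * (p + 1) := by rw [he]; norm_num
  have h := diff_bound (K := 35) (B := 1264) hp hp1 he' (by norm_num)
    (by rcases abs_cases ((N : ℤ) - ((2592 : ℕ) : ℤ)) with ⟨h, h'⟩ | ⟨h, h'⟩ <;> rw [h] <;> omega)
    (by obtain ⟨h1, h2⟩ := hq'; interval_cases q <;> norm_num)
  have := solBound_sound solBound_ten (q := q) ⟨by omega, by omega⟩ h.2 h.1 he' hN hlo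
  simp only [List.mem_cons, List.not_mem_nil, or_false] at this
  omega

end CfsgLib.DoubleAlt
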