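import Cfsg.Agent.DoubleAlt.Turn

/-!
# The centralizer of a lift of a three-cycle in degree nine or ten
-/

set_option autoImplicit false
set_option linter.style.haveILetI false
set_option linter.unusedSectionVars false

namespace CfsgLib.DoubleAlt

open Equiv Equiv.Perm

/-- A subgroup of odd order normalised by all three-cycles of at least five points is trivial. -/
theorem eq_one_of_odd_normalised {β : Type*} [Fintype β] [DecidableEq β] (hβ : 5 ≤ Nat.card β)
    (T : Subgroup (Perm β)) (hT : Odd (Nat.card T))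
    (hn : ∀ τ : Perm β, τ.IsThreeCycle → ∀ t ∈ T, τ * t * τ⁻¹ ∈ T) {t : Perm β} (ht : t ∈ T) : t = 1 := by
  have hnA : ∀ g ∈ alternatingGroup β, ∀ t ∈ T, g * t * g⁻¹ ∈ T := by
    intro g hg
    rw [← closure_three_cycles_eq_alternating] at hg
    refine Subgroup.closure_induction (p := fun g _ => ∀ t ∈ T, g * t * g⁻¹ ∈ T) (fun τ hτ => hn τ hτ)
      (fun t ht => by simpa using ht) ?_ ?_ hg
    · intro x y _ _ hx hy t ht
      have := hx _ (hy t ht)
      simpa [mul_assoc] using this
    · intro x _ hx t ht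
      obtain ⟨s, hs⟩ : ∃ s : T, (⟨x * s * x⁻¹, hx s s.2⟩ : T) = ⟨t, ht⟩ :=
        (Finite.injective_iff_surjective.1 fun a b hab => Subtype.ext (by
          simpa using congrArg Subtype.val hab)) ⟨t, ht⟩
      have e : x * (s : Perm β) * x⁻¹ = t := congrArg Subtype.val hs
      rw [← e]
      simp [mul_assoc]
  haveI : IsSimpleGroup (alternatingGroup β) := alternatingGroup.isSimpleGroup hβ
  have hnormal : (T.comap (alternatingGroup β).subtype).Normal := ⟨fun s hs g => hnA g g.2 s hs⟩
  have hA : t ∈ alternatingGroup β := by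
    obtain ⟨j, hj⟩ := hT.of_dvd_nat (Subgroup.orderOf_dvd_natCard T ht)
    rw [Perm.mem_alternatingGroup]
    have h := congrArg sign (pow_orderOf_eq_one t)
    rw [map_pow, map_one, hj, pow_succ, pow_mul, _root_.sq, Int.units_mul_self, one_pow, one_mul] at h
    exact h
  rcases hnormal.eq_bot_or_eq_top with hbot | htop
  · have h1 : (⟨t, hA⟩ : alternatingGroup β) ∈ T.comap (alternatingGroup β).subtype := ht
    rw [hbot, Subgroup.mem_bot] at h1
    exact congrArg Subtype.val h1
  · exfalso
    obtain ⟨s, -, hs⟩ := Finset.exists_subset_card_eq (s := (Finset.univ : Finset β)) (n := 4)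
      (by rw [Finset.card_univ, ← Nat.card_eq_fintype_card]; omega)
    obtain ⟨p, q, r, u, h1, h2, h3, h4, h5, h6, -⟩ := Finset.card_eq_four.1 hs
    have hmem : swap p q * swap r u ∈ T := by
      have hsg : swap p q * swap r u ∈ alternatingGroup β := by
        rw [Perm.mem_alternatingGroup, map_mul, sign_swap h1, sign_swap h6]; decide
      have : (⟨_, hsg⟩ : alternatingGroup β) ∈ T.comap (alternatingGroup β).subtype :=
        htop ▸ Subgroup.mem_top _
      exact this
    have hodd := hT.of_dvd_nat (Subgroup.orderOf_dvd_natCard T hmem)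
    have hsq : (swap p q * swap r u) ^ 2 = 1 := by
      have hc : Commute (swap p q) (swap r u) := by
        refine Perm.Disjoint.commute fun x => ?_
        by_cases hx : x = p ∨ x = q
        · rcases hx with rfl | rfl
          · exact Or.inr (swap_apply_of_ne_of_ne h2 h3)
          · exact Or.inr (swap_apply_of_ne_of_ne h4 h5)
        · push Not at hx
          exact Or.inl (swap_apply_of_ne_of_ne hx.1 hx.2)
      rw [hc.mul_pow, _root_.sq, _root_.sq, swap_mul_self, swap_mul_self, one_mul]
    rcases (Nat.dvd_prime Nat.prime_two).1 (orderOf_dvd_of_pow_eq_one hsq) with e | e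
    · have h0 := DFunLike.congr_fun (orderOf_eq_one_iff.1 e) p
      rw [Perm.mul_apply, swap_apply_of_ne_of_ne h2 h3, swap_apply_left, Perm.one_apply] at h0
      exact h1 h0.symm
    · rw [e] at hodd; exact absurd hodd (by decide)

variable {G : Type*} [Group G] [Finite G] {n : ℕ} [NeZero n] {z : G}
variable {D : Data z n} {e : G} {γ : Perm (Fin n)}

/-- The facts used about the centralizer of the lift `e` of the three-cycle `γ`. -/
structure Cyc (D : Data z n) (e : G) (γ : Perm (Fin n)) : Prop where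
  img : D.Img e γ
  cube : e ^ 3 = 1
  three : γ.IsThreeCycle
  le_ten : n ≤ 10
  nine_le : 9 ≤ n

namespace Cyc

/-- The odd core of the centralizer. -/
abbrev O (_h : Cyc D e γ) : Subgroup G := coreOf (Subgroup.centralizer ({e} : Set G))

theorem z_mem (h : Cyc D e γ) : z ∈ Subgroup.centralizer ({e} : Set G) :=
  Subgroup.mem_centralizer_singleton_iff.2 h.img.comm.symm.eq

theorem only (h : Cyc D e γ) : OnlyInvol (Subgroup.centralizer ({e} : Set G)) z := by
  classical
  intro w hw hw2 hwz
  by_contra hne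
  push Not at hne
  obtain ⟨π, hπ, hπ2, -, h8⟩ := D.involution hwz hw2 hne.1 hne.2
  have hwe : Commute w e := Subgroup.mem_centralizer_singleton_iff.1 hw
  have hc : Commute π γ := (hπ.mul h.img).unique (hwe.eq ▸ h.img.mul hπ)
  have hγ3 : γ.support.card = 3 := h.three.card_support
  -- the three points are fixed
  have hmap : ∀ x, x ∈ γ.support → π x ∈ γ.support := fun x hx => by
    rw [mem_support] at hx ⊢
    rw [← Perm.mul_apply, ← hc.eq, Perm.mul_apply]
    exact fun h0 => hx (π.injective h0)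
  have hfix : ∀ x ∈ γ.support, π x = x := by
    obtain ⟨p, q, r, hpq, hpr, hqr, hS⟩ := Finset.card_eq_three.1 hγ3
    have hsq : ∀ x, π (π x) = x := fun x => sq_apply hπ2 x
    have hex : ∃ x ∈ γ.support, π x = x := by
      by_contra hno
      push Not at hno
      have hp := hmap p (by rw [hS]; simp)
      have hq := hmap q (by rw [hS]; simp)
      have hr := hmap r (by rw [hS]; simp)
      have n1 := hno p (by rw [hS]; simp)
      have n2 := hno q (by rw [hS]; simp)
      have n3 := hno r (by rw [hS]; simp)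
      rw [hS] at hp hq hr
      simp only [Finset.mem_insert, Finset.mem_singleton] at hp hq hr
      rcases hp.resolve_left n1 with e1 | e1
      · have : π q = p := by rw [← e1, hsq]
        rcases hr.imp_right fun h => h.resolve_right n3 with e2 | e2
        · exact hqr (π.injective (this.trans e2.symm))
        · exact hpr (π.injective (e1.trans e2.symm))
      · have : π r = p := by rw [← e1, hsq]
        rcases hq.imp_right fun h => h.resolve_left n2 with e2 | e2
        · exact hqr (π.injective (e2.trans this.symm))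
        · exact hpq (π.injective (e1.trans e2.symm))
    obtain ⟨x, hx, hxf⟩ := hex
    intro y hy
    obtain ⟨k, hk⟩ := h.three.isCycle.exists_pow_eq (mem_support.1 hx) (mem_support.1 hy)
    rw [← hk, ← Perm.mul_apply, (hc.pow_right k).eq, Perm.mul_apply, hxf]
  have hsub : π.support ⊆ (Finset.univ : Finset (Fin n)) \ γ.support := fun x hx => by
    rw [Finset.mem_sdiff]
    exact ⟨Finset.mem_univ _, fun h' => mem_support.1 hx (hfix x h')⟩
  have := Finset.card_le_card hsub
  rw [Finset.card_sdiff_of_subset (Finset.subset_univ _), Finset.card_univ, Fintype.card_fin, hγ3] at this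
  have := h.le_ten
  omega

/-- Inverted elements of odd order lie in the core. -/
theorem mem_O (h : Cyc D e γ) {m : G} (hm : Commute m e) (ho : Odd (orderOf m))
    (hi : z * m * z⁻¹ = m⁻¹) : m ∈ h.O :=
  mem_coreOf D.hz h.z_mem h.only (Subgroup.mem_centralizer_singleton_iff.2 hm.eq) ho hi

theorem comm_O (h : Cyc D e γ) {m : G} (hm : m ∈ h.O) : Commute m e :=
  Subgroup.mem_centralizer_singleton_iff.1 (coreOf_le _ hm)

theorem z_norm (h : Cyc D e γ) : ∀ x ∈ h.O, z * x * z⁻¹ ∈ h.O := fun _ hx => coreOf_normal h.z_mem hx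

/-- The fixed points of `z` in the core are the powers of `e`. -/
theorem fixed (h : Cyc D e γ) {f : G} (hf : f ∈ h.O) (hfz : Commute f z) : f ∈ Subgroup.zpowers e := by
  classical
  have hodd := coreOf_odd (Subgroup.centralizer ({e} : Set G))
  let B := {x : Fin n // γ x = x}
  have hcard : 5 ≤ Nat.card B := by
    rw [Nat.card_eq_fintype_card, Fintype.card_subtype]
    have h3 : γ.support.card = 3 := h.three.card_support
    have := Finset.card_filter_add_card_filter_not (s := (Finset.univ : Finset (Fin n))) (fun x => γ x = x)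
    rw [show (Finset.univ.filter fun x => ¬ γ x = x) = γ.support from rfl, h3, Finset.card_univ,
      Fintype.card_fin] at this
    have := h.nine_le
    omega
  have hres : ∀ {π : Perm (Fin n)}, Commute π γ → ∀ x, γ (π x) = π x ↔ γ x = x := fun {π} hc x => by
    rw [← Perm.mul_apply, ← hc.eq, Perm.mul_apply]
    exact π.injective.eq_iff
  let T : Subgroup (Perm B) :=
    { carrier := {τ | ∃ g π, g ∈ h.O ∧ Commute g z ∧ D.Img g π ∧ ∀ x : B, π (x : Fin n) = ((τ x : B) : Fin n)}
      one_mem' := ⟨1, 1, one_mem _, Commute.one_left z, D.img_one, fun _ => rfl⟩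
      mul_mem' := fun {τ τ'} ⟨g, π, hg, hgz, hπ, hx⟩ ⟨g', π', hg', hgz', hπ', hx'⟩ =>
        ⟨g * g', π * π', mul_mem hg hg', hgz.mul_left hgz', hπ.mul hπ', fun x => by
          rw [Perm.mul_apply, hx' x, hx (τ' x)]; rfl⟩
      inv_mem' := fun {τ} ⟨g, π, hg, hgz, hπ, hx⟩ => ⟨g⁻¹, π⁻¹, inv_mem hg, hgz.inv_left, hπ.inv, fun x => by
        have := hx (τ⁻¹ x)
        rw [← Perm.mul_apply τ, mul_inv_cancel, Perm.one_apply] at this
        rw [Perm.inv_def, Equiv.symm_apply_eq, this]⟩ }
  have hT : Odd (Nat.card T) := by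
    by_contra hno
    rw [Nat.not_odd_iff_even, even_iff_two_dvd] at hno
    haveI : Fact (Nat.Prime 2) := ⟨Nat.prime_two⟩
    obtain ⟨⟨τ, g, π, hg, hgz, hπ, hx⟩, hord⟩ := exists_prime_orderOf_dvd_card' 2 hno
    have hog := hodd.of_dvd_nat (Subgroup.orderOf_dvd_natCard _ hg)
    have hpow : τ ^ orderOf g = 1 := by
      have key : ∀ k : ℕ, ∀ x : B, (π ^ k) (x : Fin n) = (((τ ^ k) x : B) : Fin n) := by
        intro k
        induction k with
        | zero => intro x; rfl
        | succ k ih => intro x; rw [pow_succ, pow_succ, Perm.mul_apply, Perm.mul_apply, hx x, ih]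
      refine Equiv.ext fun x => Subtype.ext ?_
      rw [← key]
      have := (hπ.pow (orderOf g)).unique (pow_orderOf_eq_one g ▸ D.img_one)
      rw [this]; rfl
    have h2 : orderOf τ = 2 := by rw [← hord, ← Subgroup.orderOf_coe]
    exact Nat.not_even_iff_odd.2 hog (even_iff_two_dvd.2 (h2 ▸ orderOf_dvd_of_pow_eq_one hpow))
  obtain ⟨π, hπ⟩ := D.img_of_comm hfz
  have hc : Commute π γ := (hπ.mul h.img).unique ((h.comm_O hf).eq ▸ h.img.mul hπ)
  have hτ : (π.subtypePerm (p := fun x => γ x = x) (hres hc) : Perm B) = 1 := by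
    refine eq_one_of_odd_normalised hcard T hT ?_ ⟨f, π, hf, hfz, hπ, fun x => rfl⟩
    rintro τ hτ t ⟨g, π', hg, hgz, hπ', hx⟩
    have h3 : (ofSubtype τ : Perm (Fin n)) ^ 3 = 1 := by
      rw [← map_pow, ← hτ.orderOf, pow_orderOf_eq_one, map_one]
    obtain ⟨k, hk, hkp⟩ := D.exists_odd_lift (π := (ofSubtype τ : Perm (Fin n)))
      (by rw [sign_ofSubtype]; exact hτ.sign)
      (Odd.of_dvd_nat (by decide) (orderOf_dvd_of_pow_eq_one h3))
    have hγc : Commute γ (ofSubtype τ : Perm (Fin n)) := by
      refine Perm.Disjoint.commute fun x => ?_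
      by_cases hx : γ x = x
      · exact Or.inl hx
      · exact Or.inr (ofSubtype_apply_of_not_mem τ hx)
    have hke : Commute k e := (h.img.odd_comm hk hγc (odd_of_cube h.cube)).symm
    refine ⟨k * g * k⁻¹, _, coreOf_normal (Subgroup.mem_centralizer_singleton_iff.2 hke.eq) hg,
      (hk.comm.mul_left hgz).mul_left hk.comm.inv_left, hk.conj hπ', fun x => ?_⟩
    rw [Perm.mul_apply, Perm.mul_apply, ← map_inv, ofSubtype_apply_coe, hx, ofSubtype_apply_coe]
    rfl
  -- the image is a power of the cycle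
  obtain ⟨p, hp⟩ : ∃ p, γ p ≠ p := by
    by_contra hno
    push Not at hno
    exact h.three.ne_one (Equiv.ext hno)
  have hπp : γ (π p) ≠ π p := fun h0 => hp ((hres hc p).1 h0)
  obtain ⟨i, hi⟩ := h.three.isCycle.exists_pow_eq hp hπp
  have hpi : π = γ ^ i := by
    refine Equiv.ext fun x => ?_
    by_cases hx : γ x = x
    · have := congrArg (fun τ : Perm B => ((τ ⟨x, hx⟩ : B) : Fin n)) hτ
      simp only [Perm.subtypePerm_apply, Perm.one_apply] at this
      rw [Perm.pow_apply_eq_self_of_apply_eq_self hx i]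
      exact this
    · obtain ⟨j, rfl⟩ := h.three.isCycle.exists_pow_eq hp hx
      rw [← Perm.mul_apply, (hc.pow_right j).eq, Perm.mul_apply, ← hi, ← Perm.mul_apply, ← Perm.mul_apply,
        ← pow_add, ← pow_add, add_comm]
  refine ⟨i, ?_⟩
  show e ^ (i : ℤ) = f
  rw [zpow_natCast]
  refine Data.Img.odd_eq (h.img.pow i) (hpi ▸ hπ) ?_ (hodd.of_dvd_nat (Subgroup.orderOf_dvd_natCard _ hf))
  exact odd_of_cube (by rw [← pow_mul, mul_comm, pow_mul, h.cube, one_pow])

theorem e_mem (h : Cyc D e γ) : e ∈ h.O := by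
  refine le_coreOf (N := Subgroup.zpowers e) ?_ ?_ ?_ (Subgroup.mem_zpowers e)
  · exact Subgroup.zpowers_le.2 (Subgroup.mem_centralizer_singleton_iff.2 rfl)
  · rw [Nat.card_zpowers]; exact odd_of_cube h.cube
  · rintro k hk _ ⟨j, rfl⟩
    refine ⟨j, ?_⟩
    show e ^ j = k * e ^ j * k⁻¹
    rw [((show Commute k e from Subgroup.mem_centralizer_singleton_iff.1 hk).zpow_right j).eq,
      mul_inv_cancel_right]

theorem central (h : Cyc D e γ) : ∀ f ∈ Subgroup.zpowers e, ∀ o ∈ h.O, Commute f o := by
  rintro f ⟨j, rfl⟩ o ho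
  exact ((h.comm_O ho).symm).zpow_left j

theorem fixed_z (h : Cyc D e γ) : ∀ f ∈ Subgroup.zpowers e, Commute f z := by
  rintro f ⟨j, rfl⟩
  exact h.img.comm.zpow_left j

theorem le_O (h : Cyc D e γ) : Subgroup.zpowers e ≤ h.O := Subgroup.zpowers_le.2 h.e_mem

/-- Inverted elements commute modulo the powers of `e`. -/
theorem comm_inv (h : Cyc D e γ) {p q : G} (hp : p ∈ h.O) (hq : q ∈ h.O) (hip : z * p * z⁻¹ = p⁻¹)
    (hiq : z * q * z⁻¹ = q⁻¹) : ∃ f ∈ Subgroup.zpowers e, p * q = q * p * f :=
  comm_inverted D.z_sq (coreOf_odd _) h.z_norm (fun _ hf hfz => h.fixed hf hfz) h.central h.fixed_z hp hq hip hiq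

/-- An element centralized by an involution inverting `e` is inverted by `z`. -/
theorem inverted_of_fixed (h : Cyc D e γ) {b : G} (hbz : Commute b z) (hbe : b * e * b⁻¹ = e⁻¹) {o : G}
    (ho : o ∈ h.O) (hbo : Commute o b) : z * o * z⁻¹ = o⁻¹ := by
  have hb2 : ∀ x, x ∈ Subgroup.centralizer ({e} : Set G) ↔ b * x * b⁻¹ ∈ Subgroup.centralizer ({e} : Set G) := by
    intro x
    rw [Subgroup.mem_centralizer_singleton_iff, Subgroup.mem_centralizer_singleton_iff]
    constructor
    · intro hx
      have := (commute_conj (g := b) (show Commute x e from hx)).inv_right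
      rwa [hbe, inv_inv] at this
    · intro hx
      have hx' : Commute (b * x * b⁻¹) (b * e * b⁻¹) := by
        rw [hbe]; exact (show Commute _ e from hx).inv_right
      have h3 := commute_conj (g := b⁻¹) hx'
      simp only [inv_inv] at h3
      rwa [show b⁻¹ * (b * x * b⁻¹) * b = x by group, show b⁻¹ * (b * e * b⁻¹) * b = e by group] at h3
  obtain ⟨m, hm, f, hf, hi, hfz, he⟩ := exists_split D.z_sq (coreOf_odd _) h.z_norm ho
  have hfX := h.fixed hf hfz
  have hbm : z * (b * m * b⁻¹) * z⁻¹ = (b * m * b⁻¹)⁻¹ := by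
    rw [show z * (b * m * b⁻¹) * z⁻¹ = (z * b) * m * (z * b)⁻¹ by group, ← hbz.eq,
      show b * z * m * (b * z)⁻¹ = b * (z * m * z⁻¹) * b⁻¹ by group, hi]
    group
  have hbf : b * f * b⁻¹ = f⁻¹ := by
    obtain ⟨j, rfl⟩ := hfX
    rw [← conj_zpow, hbe, inv_zpow]
  have hbo' : b * m * b⁻¹ * f⁻¹ = m * f := by
    rw [← hbf, conj_mul, ← he, ← hbo.eq, mul_inv_cancel_right]
  obtain ⟨hmm, hff⟩ := split_unique (coreOf_odd _) h.le_O h.central h.fixed_z (coreOf_conj hb2 hm) hbm hi
    (inv_mem hfX) hfX hbo'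
  have hf1 : f = 1 := by
    have h2 : f ^ 2 = 1 := by rw [_root_.sq]; nth_rewrite 1 [← hff]; exact inv_mul_cancel f
    rcases (Nat.dvd_prime Nat.prime_two).1 (orderOf_dvd_of_pow_eq_one h2) with e' | e'
    · exact orderOf_eq_one_iff.1 e'
    · have := (coreOf_odd _).of_dvd_nat (Subgroup.orderOf_dvd_natCard _ hf)
      rw [e'] at this
      exact absurd this (by decide)
  rw [he, hf1, mul_one, hi]

end Cyc

end CfsgLib.DoubleAlt
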