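import Cfsg.Agent.DoubleAlt.Quot
import Cfsg.Agent.BSWId.Main
import Cfsg.Agent.GLElem.PSL2Classes

/-!
# Index 595: the centralizer is generalized dihedral
-/

set_option autoImplicit false
set_option maxRecDepth 100000
set_option maxHeartbeats 1000000
set_option linter.style.haveILetI false
set_option linter.unusedSectionVars false

namespace CfsgLib.DoubleAlt

open Equiv Equiv.Perm

theorem dc_split_nine : ∀ π ∈ listNine,
    π ∈ dcList 9 ∨ π * py 9 ∈ dcList 9 ∨ π * (py 9 * py 9) ∈ dcList 9 ∨ π * pa 9 ∈ dcList 9 ∨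
      π * pa 9 * py 9 ∈ dcList 9 ∨ π * pa 9 * (py 9 * py 9) ∈ dcList 9 := of_all (by decide +kernel)

theorem el_ker_nine : ∀ i j : Fin 3, ∀ c : ℕ, c < 3 →
    pd 9 ^ (i : ℕ) * c3 9 ^ (j : ℕ) = py 9 ^ c → i = 0 ∧ j = 0 := by decide +kernel

section quot

variable {X : Type*} [Group X] [Finite X] {z : X} {m J : ℕ}

/-- All involutions are conjugate. -/
theorem QData.conj_z (Q : QData z m J) {v : X} (hv : orderOf v = 2) : IsConj z v := by
  have hzz : z * z = 1 := by rw [← _root_.sq, ← Q.hz, pow_orderOf_eq_one]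
  have hvv : v * v = 1 := by rw [← _root_.sq, ← hv, pow_orderOf_eq_one]
  have hzi : z⁻¹ = z := inv_eq_of_mul_eq_one_right hzz
  have hvi : v⁻¹ = v := inv_eq_of_mul_eq_one_right hvv
  have hinC : ∀ {u : X}, orderOf u = 2 → Commute u z → IsConj z u := fun {u} hu hc => by
    by_cases he : u = z
    · rw [he]
    · exact Q.conjJ u ⟨hu, hc, he⟩
  rcases Nat.even_or_odd (orderOf (v * z)) with ⟨k, hk⟩ | ⟨k, hk⟩
  · set w := (v * z) ^ k with hw
    have hinvz : z * (v * z) * z⁻¹ = (v * z)⁻¹ := by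
      rw [mul_inv_rev, hzi, hvi, ← mul_assoc, mul_assoc (z * v), hzz, mul_one]
    have hinvv : v * (v * z) * v⁻¹ = (v * z)⁻¹ := by
      rw [mul_inv_rev, hzi, hvi, ← mul_assoc v v z, hvv, one_mul]
    have hw2 : orderOf w = 2 := by
      refine orderOf_eq_prime (by rw [hw, ← pow_mul, mul_two, ← hk, pow_orderOf_eq_one]) ?_
      intro e
      have := orderOf_pos (v * z)
      have := orderOf_le_of_pow_eq_one (by omega) e
      omega
    have hwi : w⁻¹ = w := inv_eq_of_mul_eq_one_right (by rw [← _root_.sq, ← hw2, pow_orderOf_eq_one])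
    have hwz : Commute w z := by
      have h : z * w * z⁻¹ = w⁻¹ := by rw [hw, ← conj_pow, hinvz, inv_pow]
      rw [hwi] at h
      exact (mul_inv_eq_iff_eq_mul.1 h).symm
    have hwv : Commute v w := by
      have h : v * w * v⁻¹ = w⁻¹ := by rw [hw, ← conj_pow, hinvv, inv_pow]
      rw [hwi] at h
      exact mul_inv_eq_iff_eq_mul.1 h
    obtain ⟨g, hg⟩ := isConj_iff.1 (hinC hw2 hwz)
    have hc : Commute (g⁻¹ * v * g) z := by
      have h1 := hwv.map (MulAut.conj g⁻¹).toMonoidHom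
      rw [← hg] at h1
      simpa [mul_assoc] using h1
    have ho : orderOf (g⁻¹ * v * g) = 2 := by
      rw [show g⁻¹ * v * g = MulAut.conj g⁻¹ v by simp, MulEquiv.orderOf_eq, hv]
    refine (hinC ho hc).trans (isConj_iff.2 ⟨g, ?_⟩)
    group
  · refine isConj_iff.2 ⟨z * (v * z) ^ k, ?_⟩
    have hinv : z * (v * z) * z⁻¹ = (v * z)⁻¹ := by
      rw [mul_inv_rev, hzi, hvi, ← mul_assoc, mul_assoc (z * v), hzz, mul_one]
    have h1 : z * ((v * z) ^ k)⁻¹ * z⁻¹ = (v * z) ^ k := by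
      rw [← conj_inv, ← conj_pow, hinv, inv_pow, inv_inv]
    have h2 : (v * z) ^ k * (v * z) ^ k = (v * z)⁻¹ := by
      rw [eq_inv_iff_mul_eq_one, ← pow_add, ← pow_succ, show k + k + 1 = 2 * k + 1 by omega, ← hk, pow_orderOf_eq_one]
    calc z * (v * z) ^ k * z * (z * (v * z) ^ k)⁻¹
        = z * ((v * z) ^ k * (z * ((v * z) ^ k)⁻¹ * z⁻¹)) := by group
      _ = z * (v * z)⁻¹ := by rw [h1, h2]
      _ = v := by rw [mul_inv_rev, hzi, hvi, ← mul_assoc, hzz, one_mul]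

end quot

variable {G : Type*} [Group G] [Finite G] {z : G} {D : Data z 9}

namespace Frame

variable (F : Frame D tabNine)

theorem el_zero' : F.el 0 0 = 1 := by simp [Frame.el]

theorem el_mul (i j k l : Fin 3) : F.el i j * F.el k l = F.el (i + k) (j + l) := pzEl_mul i j k l

/-- The image of `el i j`. -/
def elQ (i j : Fin 3) : F.Q := F.qmk (F.el i j) (F.el_y i j).symm

theorem elQ_mul (i j k l : Fin 3) : F.elQ i j * F.elQ k l = F.elQ (i + k) (j + l) := by
  rw [elQ, elQ, qmk_mul]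
  exact F.qmk_eq.2 ⟨0, by rw [zpow_zero, F.el_mul i j k l]; group⟩

theorem elQ_zero : F.elQ 0 0 = 1 := by
  rw [elQ, qmk_one]
  exact F.qmk_eq.2 ⟨0, by rw [zpow_zero, F.el_zero']; group⟩

theorem elQ_comm_z (i j : Fin 3) : Commute (F.elQ i j) F.zQ := F.comm_mk _ (F.el_img i j).comm

theorem zQ_sq : F.zQ * F.zQ = 1 := by rw [← _root_.sq, ← F.zQ_order, pow_orderOf_eq_one]

theorem elQ_inv (i j : Fin 3) : (F.elQ i j)⁻¹ = F.elQ (-i) (-j) := by
  rw [inv_eq_iff_mul_eq_one, elQ_mul, add_neg_cancel, add_neg_cancel, elQ_zero]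

theorem elQ_eq_one {i j : Fin 3} (h : F.elQ i j = 1) : i = 0 ∧ j = 0 := by
  rw [F.qmk_one, eq_comm, elQ, qmk_eq, inv_one, one_mul] at h
  obtain ⟨k, hk⟩ := h
  rw [pow_mod_three_zpow F.y_cube k] at hk
  exact el_ker_nine i j _ (by omega) ((hk ▸ F.el_img i j : D.Img (F.y ^ (k % 3).toNat) _).unique (F.y_img.pow _))

/-- The abelian subgroup of index two in the centralizer. -/
def KQ : Subgroup F.Q where
  carrier := {x | ∃ i j : Fin 3, x = F.elQ i j ∨ x = F.elQ i j * F.zQ}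
  one_mem' := ⟨0, 0, Or.inl F.elQ_zero.symm⟩
  mul_mem' := by
    rintro _ _ ⟨i, j, hx⟩ ⟨k, l, hy⟩
    refine ⟨i + k, j + l, ?_⟩
    rcases hx with rfl | rfl <;> rcases hy with rfl | rfl
    · exact Or.inl (F.elQ_mul i j k l)
    · exact Or.inr (by rw [← mul_assoc, F.elQ_mul])
    · exact Or.inr (by rw [mul_assoc, ← (F.elQ_comm_z k l).eq, ← mul_assoc, F.elQ_mul])
    · refine Or.inl ?_
      rw [mul_assoc, ← mul_assoc F.zQ, ← (F.elQ_comm_z k l).eq, mul_assoc, F.zQ_sq, mul_one, F.elQ_mul]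
  inv_mem' := by
    rintro _ ⟨i, j, rfl | rfl⟩
    · exact ⟨-i, -j, Or.inl (F.elQ_inv i j)⟩
    · refine ⟨-i, -j, Or.inr ?_⟩
      rw [mul_inv_rev, F.elQ_inv, inv_eq_of_mul_eq_one_right F.zQ_sq, (F.elQ_comm_z (-i) (-j)).eq]

theorem mem_KQ {x : F.Q} : x ∈ F.KQ ↔ ∃ i j : Fin 3, x = F.elQ i j ∨ x = F.elQ i j * F.zQ := Iff.rfl

/-- The image of `a`. -/
def aQ : F.Q := F.qmk F.a F.a_y

theorem aQ_order : orderOf F.aQ = 2 := by
  refine orderOf_eq_prime ?_ ?_
  · rw [aQ, qmk_pow, F.qmk_one]; congr 1; rw [_root_.sq, F.ha2]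
  · intro e; rw [F.qmk_one] at e; exact F.a_ne (F.qmk_inj e F.ha2 (mul_one 1))

theorem aQ_z : Commute F.aQ F.zQ := F.comm_mk _ F.a_z

theorem aQ_inv {x : F.Q} (hx : x ∈ F.KQ) : F.aQ * x * F.aQ⁻¹ = x⁻¹ := by
  obtain ⟨i, j, hx⟩ := F.mem_KQ.1 hx
  have he : F.aQ * F.elQ i j * F.aQ⁻¹ = (F.elQ i j)⁻¹ := by
    rw [aQ, elQ, qmk_mul, qmk_inv, qmk_mul, qmk_inv]
    exact F.qmk_eq.2 ⟨0, by rw [zpow_zero, F.el_a i j]; group⟩
  rcases hx with rfl | rfl
  · exact he
  · rw [← conj_mul, he, F.aQ_z.eq, mul_inv_cancel_right, mul_inv_rev, inv_eq_of_mul_eq_one_right F.zQ_sq]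
    exact (F.elQ_comm_z i j).inv_left.eq

/-- The index is not 595. -/
theorem ne_595 (τ : Turn F) : (Subgroup.centralizer ({F.zQ} : Set F.Q)).index ≠ 595 := by
  classical
  intro hN
  have Q := F.qdata τ actNine ⟨2, rfl⟩ (by decide) (fun i j hij g => τ.cent_nine hij) ne_one_nine
  have hcard : Nat.card F.Q = 21420 := by
    rw [← Subgroup.index_mul_card (Subgroup.centralizer ({F.zQ} : Set F.Q)), hN, Q.card_C]
  have hC : ∀ {x : F.Q}, x ∈ Subgroup.centralizer ({F.zQ} : Set F.Q) ↔ Commute x F.zQ :=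
    Subgroup.mem_centralizer_singleton_iff
  have hKC : F.KQ ≤ Subgroup.centralizer ({F.zQ} : Set F.Q) := by
    intro x hx
    obtain ⟨i, j, rfl | rfl⟩ := F.mem_KQ.1 hx
    · exact hC.2 (F.elQ_comm_z i j)
    · exact hC.2 ((F.elQ_comm_z i j).mul_left (Commute.refl _))
  have hKab : IsMulCommutative ↥F.KQ := ⟨⟨fun u v => by
    refine Subtype.ext ?_
    show (u : F.Q) * v = v * u
    obtain ⟨i, j, hu⟩ := F.mem_KQ.1 u.2
    obtain ⟨k, l, hv⟩ := F.mem_KQ.1 v.2
    have h0 : Commute (F.elQ i j) (F.elQ k l) := by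
      rw [commute_iff_eq, F.elQ_mul, F.elQ_mul, add_comm i, add_comm j]
    have h1 := F.elQ_comm_z i j
    have h2 := F.elQ_comm_z k l
    rcases hu with e | e <;> rcases hv with e' | e' <;> rw [e, e']
    exacts [h0.eq, (h0.mul_right h1).eq, (h0.mul_left h2.symm).eq,
      ((h0.mul_right h1).mul_left (h2.symm.mul_right (Commute.refl _))).eq]⟩⟩
  have hzK : F.zQ ∈ F.KQ := F.mem_KQ.2 ⟨0, 0, Or.inr (by rw [F.elQ_zero, one_mul])⟩
  have hinvK : ∀ x ∈ F.KQ, x * x = 1 → x = 1 ∨ x = F.zQ := by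
    intro x hx hx2
    obtain ⟨i, j, hx'⟩ := F.mem_KQ.1 hx
    have h2 : F.elQ (i + i) (j + j) = 1 := by
      rcases hx' with rfl | rfl
      · rwa [F.elQ_mul] at hx2
      · rwa [mul_assoc, ← mul_assoc F.zQ, ← (F.elQ_comm_z i j).eq, mul_assoc, F.zQ_sq, mul_one,
          F.elQ_mul] at hx2
    obtain ⟨hi, hj⟩ := F.elQ_eq_one h2
    have h0 : ∀ i : Fin 3, i + i = 0 → i = 0 := by decide
    obtain rfl := h0 i hi
    obtain rfl := h0 j hj
    rcases hx' with rfl | rfl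
    · exact Or.inl F.elQ_zero
    · exact Or.inr (by rw [F.elQ_zero, one_mul])
  have hsK : F.aQ ∉ F.KQ := by
    intro h
    rcases hinvK _ h (by rw [← _root_.sq, ← F.aQ_order, pow_orderOf_eq_one]) with e | e
    · have := F.aQ_order; rw [e, orderOf_one] at this; omega
    · exact F.a_ne_z (F.qmk_inj e F.ha2 D.z_sq)
  have hH : F.KQ ⊔ Subgroup.zpowers F.aQ = Subgroup.centralizer ({F.zQ} : Set F.Q) := by
    refine le_antisymm (sup_le hKC (Subgroup.zpowers_le.2 (hC.2 F.aQ_z))) fun x hx => ?_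
    obtain ⟨g, hg, rfl⟩ := F.exists_mk x
    have hgz := F.comm_lift hg (hC.1 hx)
    obtain ⟨π, hπL, hπ⟩ := F.img_L hg hgz
    have hy : ∀ c : ℕ, Commute (F.y ^ c) F.y := fun c => (Commute.refl F.y).pow_left c
    have hmemK : ∀ {h : G} {ρ : Perm (Fin 9)} (hh : Commute h F.y), D.Img h ρ → ρ ∈ dcList 9 →
        F.qmk h hh ∈ F.KQ := by
      intro h ρ hh hρ hdc
      obtain ⟨i, j, rfl⟩ := el_of_dc hdc
      rcases hρ.eq_or (F.el_img i j) with rfl | rfl
      · exact F.mem_KQ.2 ⟨i, j, Or.inl rfl⟩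
      · refine F.mem_KQ.2 ⟨i, j, Or.inr ?_⟩
        rw [elQ, Frame.zQ, qmk_mul]
    have hshift : ∀ {h : G} (hh : Commute h F.y) (c : ℕ),
        F.qmk h hh = F.qmk (h * F.y ^ c) (hh.mul_left (hy c)) :=
      fun {h} hh c => F.qmk_eq.2 ⟨c, by rw [zpow_natCast]; group⟩
    have h1 : F.qmk g hg ∈ F.KQ ∨ F.qmk g hg * F.aQ ∈ F.KQ := by
      rw [aQ, qmk_mul]
      have hpi : ∀ {h : G} {ρ : Perm (Fin 9)} (hh : Commute h F.y), D.Img h ρ →
          ρ ∈ dcList 9 ∨ ρ * py 9 ∈ dcList 9 ∨ ρ * (py 9 * py 9) ∈ dcList 9 → F.qmk h hh ∈ F.KQ := by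
        intro h ρ hh hρ hm
        rcases hm with hm | hm | hm
        · exact hmemK hh hρ hm
        · rw [hshift hh 1]
          exact hmemK _ (hρ.mul (F.y_img.pow 1)) (by rwa [pow_one])
        · rw [hshift hh 2]
          exact hmemK _ (hρ.mul (F.y_img.pow 2)) (by rwa [pow_two])
      rcases dc_split_nine π hπL with h | h | h | h | h | h
      · exact Or.inl (hpi hg hπ (Or.inl h))
      · exact Or.inl (hpi hg hπ (Or.inr (Or.inl h)))
      · exact Or.inl (hpi hg hπ (Or.inr (Or.inr h)))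
      · exact Or.inr (hpi _ (hπ.mul F.ha) (Or.inl h))
      · exact Or.inr (hpi _ (hπ.mul F.ha) (Or.inr (Or.inl h)))
      · exact Or.inr (hpi _ (hπ.mul F.ha) (Or.inr (Or.inr h)))
    rcases h1 with h | h
    · exact Subgroup.mem_sup_left h
    · have := mul_mem (Subgroup.mem_sup_left (T := Subgroup.zpowers F.aQ) h)
        (Subgroup.mem_sup_right (inv_mem (Subgroup.mem_zpowers F.aQ)))
      rwa [mul_inv_cancel_right] at this
  have hCK : F.KQ ⊓ Subgroup.centralizer ({F.aQ} : Set F.Q) = Subgroup.zpowers F.zQ := by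
    refine le_antisymm ?_ (Subgroup.zpowers_le.2 ⟨hzK, Subgroup.mem_centralizer_singleton_iff.2 F.aQ_z.symm.eq⟩)
    intro x hx
    have h1 := F.aQ_inv hx.1
    rw [← (show Commute x F.aQ from Subgroup.mem_centralizer_singleton_iff.1 hx.2).eq, mul_inv_cancel_right,
      eq_inv_iff_mul_eq_one] at h1
    rcases hinvK x hx.1 h1 with rfl | rfl
    · exact one_mem _
    · exact Subgroup.mem_zpowers _
  have hTI : ∀ g : F.Q, g ∉ Subgroup.centralizer ({F.zQ} : Set F.Q) →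
      F.KQ ⊓ F.KQ.map (MulAut.conj g).toMonoidHom = ⊥ := by
    intro g hg
    rw [eq_bot_iff]
    rintro x ⟨hx, w, hw, rfl⟩
    rw [Subgroup.mem_bot]
    change g * w * g⁻¹ ∈ F.KQ at hx
    change g * w * g⁻¹ = 1
    by_contra hne
    have hw1 : w ≠ 1 := fun e => hne (by rw [e]; group)
    obtain ⟨i, j, hij⟩ := F.mem_KQ.1 hw
    have hsq : w * w = F.elQ (i + i) (j + j) := by
      rcases hij with rfl | rfl
      · rw [F.elQ_mul]
      · rw [mul_assoc, ← mul_assoc F.zQ, ← (F.elQ_comm_z i j).eq, mul_assoc, F.zQ_sq, mul_one, F.elQ_mul]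
    by_cases h2 : w * w = 1
    · have hwz := (hinvK w hw h2).resolve_left hw1
      have h3 : g * w * g⁻¹ * (g * w * g⁻¹) = 1 := by rw [conj_mul, h2, mul_one, mul_inv_cancel]
      have h4 := (hinvK _ hx h3).resolve_left hne
      rw [hwz] at h4
      exact hg (hC.2 (mul_inv_eq_iff_eq_mul.1 h4))
    · have hr : orderOf (w * w) = 3 := by
        refine orderOf_eq_prime ?_ h2
        rw [hsq, pow_succ, _root_.sq, F.elQ_mul, F.elQ_mul,
          (show ∀ a : Fin 3, a + a + a = 0 by decide) (i + i), (show ∀ a : Fin 3, a + a + a = 0 by decide) (j + j),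
          F.elQ_zero]
      refine hg (hC.2 (Q.three (w * w) (g * w * g⁻¹ * (g * w * g⁻¹)) g hr (hC.1 (mul_mem (hKC hw) (hKC hw)))
        (hC.1 (mul_mem (hKC hx) (hKC hx))) ?_))
      rw [conj_mul]
  haveI : Finite F.Q := inferInstance
  rcases BSWId.psl_or_card_twelve F.zQ F.zQ_order F.KQ hKab hKC hzK F.aQ F.aQ_order (hC.2 F.aQ_z) hsK hH hCK
    (fun x hx => F.aQ_inv hx) hTI (fun x y hx hy => (Q.conj_z hx).symm.trans (Q.conj_z hy)) with h | h
  · omega
  · obtain ⟨K, iF, iFin, hchar, ⟨e⟩⟩ := h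
    have hodd : Odd (Fintype.card K) := Nat.odd_iff.2 (FiniteField.odd_card_of_char_ne_two hchar)
    have h2 := PSL2Classes.card_P2_mul (F := K) hodd
    rw [show Nat.card (Linear.SmallSub.P2 K) = Nat.card F.Q from (Nat.card_congr e.toEquiv).symm, hcard] at h2
    obtain ⟨p, _, k, hp, hpk⟩ := FiniteField.card' K
    have hq : Fintype.card K = 35 := by
      have hpos : 1 < Fintype.card K := Fintype.one_lt_card
      rcases lt_trichotomy (Fintype.card K) 35 with h | h | h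
      · have : Fintype.card K * (Fintype.card K ^ 2 - 1) ≤ 34 * (34 ^ 2 - 1) :=
          Nat.mul_le_mul (by omega) (Nat.sub_le_sub_right (Nat.pow_le_pow_left (by omega) 2) 1)
        omega
      · exact h
      · have : 36 * (36 ^ 2 - 1) ≤ Fintype.card K * (Fintype.card K ^ 2 - 1) :=
          Nat.mul_le_mul h (Nat.sub_le_sub_right (Nat.pow_le_pow_left h 2) 1)
        omega
    rw [hq] at hpk
    have hd : p ∣ 35 := hpk ▸ dvd_pow_self p k.pos.ne'
    have hmem : p ∈ Nat.divisors 35 := Nat.mem_divisors.2 ⟨hd, by decide⟩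
    rw [show Nat.divisors 35 = {1, 5, 7, 35} by decide +kernel] at hmem
    simp only [Finset.mem_insert, Finset.mem_singleton] at hmem
    rcases hmem with rfl | rfl | rfl | rfl
    · exact hp.ne_one rfl
    · have h7 : 7 ∣ 5 := Nat.Prime.dvd_of_dvd_pow (by decide) (hpk ▸ (by decide : (7 : ℕ) ∣ 35))
      omega
    · have h5 : 5 ∣ 7 := Nat.Prime.dvd_of_dvd_pow (by decide) (hpk ▸ (by decide : (5 : ℕ) ∣ 35))
      omega
    · exact absurd hp (by decide)

end Frame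

end CfsgLib.DoubleAlt
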