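import Cfsg.Agent.DoubleAlt.Basic

/-!
# Permutations commuting with a fixed involution

Flips of two blocks of the involution and a three-cycle on three blocks.
-/

set_option autoImplicit false
set_option linter.style.haveILetI false
set_option linter.unusedSectionVars false

namespace CfsgLib.DoubleAlt

open Equiv Equiv.Perm

variable {n : ℕ} (α : Perm (Fin n))

/-- `i` and `j` are moved by `α` and lie in different blocks. -/
def Sep (i j : Fin n) : Prop := α i ≠ i ∧ α j ≠ j ∧ j ≠ i ∧ j ≠ α i

/-- The flip of the blocks of `i` and `j`. -/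
def flp (i j : Fin n) : Perm (Fin n) := swap i (α i) * swap j (α j)

/-- The three-cycle on the blocks of `i`, `j` and `l`. -/
def rot (i j l : Fin n) : Perm (Fin n) :=
  swap i j * swap j l * (swap (α i) (α j) * swap (α j) (α l))

variable {α}

theorem sq_apply (hα : α * α = 1) (x : Fin n) : α (α x) = x := by
  rw [← Perm.mul_apply, hα, Perm.one_apply]

theorem Sep.symm (hα : α * α = 1) {i j : Fin n} (h : Sep α i j) : Sep α j i :=
  ⟨h.2.1, h.1, h.2.2.1.symm, fun e => h.2.2.2 (by rw [e, sq_apply hα])⟩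

theorem Sep.left_block (hα : α * α = 1) {i j : Fin n} (h : Sep α i j) : Sep α (α i) j :=
  ⟨fun e => h.1 (α.injective e), h.2.1, h.2.2.2, by rw [sq_apply hα]; exact h.2.2.1⟩

theorem Sep.map {π : Perm (Fin n)} (hπ : Commute π α) {i j : Fin n} (h : Sep α i j) :
    Sep α (π i) (π j) := by
  have e : ∀ x, α (π x) = π (α x) := fun x => by
    rw [← Perm.mul_apply, ← hπ.eq, Perm.mul_apply]
  refine ⟨fun h1 => h.1 (π.injective (by rw [← e, h1])), fun h1 => h.2.1 (π.injective (by rw [← e, h1])),
    fun h1 => h.2.2.1 (π.injective h1), fun h1 => h.2.2.2 (π.injective (by rw [h1, e]))⟩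

theorem flp_type (hα : α * α = 1) {i j : Fin n} (h : Sep α i j) :
    (flp α i j).cycleType = {2, 2} ∧ sign (flp α i j) = 1 :=
  AltOre.double_cycleType h.1.symm h.2.1.symm h.2.2.1.symm
    (fun e => h.2.2.2 (by rw [e, sq_apply hα])) h.2.2.2.symm
    (fun e => h.2.2.1 (α.injective e).symm)

theorem commute_swap_block (hα : α * α = 1) (i : Fin n) : Commute (swap i (α i)) α := by
  refine Equiv.ext fun x => ?_
  have := sq_apply hα x
  have := sq_apply hα i
  simp only [Perm.mul_apply, swap_apply_def]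
  split_ifs <;> simp_all

theorem flp_comm (hα : α * α = 1) (i j : Fin n) : Commute (flp α i j) α :=
  (commute_swap_block hα i).mul_left (commute_swap_block hα j)

theorem flp_apply (hα : α * α = 1) (i j x : Fin n) : flp α i j x = x ∨ flp α i j x = α x := by
  have := sq_apply hα x
  have := sq_apply hα i
  have := sq_apply hα j
  simp only [flp, Perm.mul_apply, swap_apply_def]
  split_ifs <;> simp_all

theorem flp_support {i j x : Fin n} (h : flp α i j x ≠ x) :
    x = i ∨ x = α i ∨ x = j ∨ x = α j := by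
  by_contra hc
  push Not at hc
  exact h (by rw [flp, Perm.mul_apply, swap_apply_of_ne_of_ne hc.2.2.1 hc.2.2.2,
    swap_apply_of_ne_of_ne hc.1 hc.2.1])

theorem flp_rest (hα : α * α = 1) {i j x : Fin n} (hij : Sep α i j) (h : flp α i j x ≠ x) :
    (flp α i j * α) x = x := by
  have h5 := hij.symm hα
  obtain ⟨h1, h2, h3, h4⟩ := hij
  obtain ⟨-, -, h3', h4'⟩ := h5
  have h6 : α j ≠ α i := fun e => h3 (α.injective e)
  rw [Perm.mul_apply, flp, Perm.mul_apply]
  rcases flp_support h with rfl | rfl | rfl | rfl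
  · rw [swap_apply_of_ne_of_ne h4.symm h6.symm, swap_apply_right]
  · rw [sq_apply hα, swap_apply_of_ne_of_ne h3' h4', swap_apply_left]
  · rw [swap_apply_right, swap_apply_of_ne_of_ne h3 h4]
  · rw [sq_apply hα, swap_apply_left, swap_apply_of_ne_of_ne h4'.symm h6]

theorem commute_blocks (hα : α * α = 1) {i j : Fin n} (h : Sep α i j) :
    Commute (swap i (α i)) (swap j (α j)) := by
  obtain ⟨h1, h2, h3, h4⟩ := h
  have h5 : α j ≠ i := fun e => h4 (by rw [← e, sq_apply hα])
  have h6 : α j ≠ α i := fun e => h3 (α.injective e)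
  refine Perm.Disjoint.commute fun x => ?_
  by_cases hx : x = i ∨ x = α i
  · rcases hx with rfl | rfl
    · exact Or.inr (swap_apply_of_ne_of_ne h3.symm h5.symm)
    · exact Or.inr (swap_apply_of_ne_of_ne h4.symm h6.symm)
  · push Not at hx
    exact Or.inl (swap_apply_of_ne_of_ne hx.1 hx.2)

theorem flp_mul {i j l : Fin n} (hα : α * α = 1) (hij : Sep α i j) (hjl : Sep α j l) (hil : Sep α i l) :
    flp α j l * flp α i j = flp α i l := by
  rw [flp, flp, flp, (commute_blocks hα hij).eq, mul_assoc (swap j (α j)), ← mul_assoc (swap l (α l)),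
    ← (commute_blocks hα hjl).eq, mul_assoc (swap j (α j)) (swap l (α l)), ← mul_assoc (swap j (α j)) (swap j (α j)),
    swap_mul_self, one_mul, (commute_blocks hα hil).eq]

theorem flp_conj {π : Perm (Fin n)} (hπ : Commute π α) (i j : Fin n) :
    π * flp α i j * π⁻¹ = flp α (π i) (π j) := by
  have e : ∀ x, π (α x) = α (π x) := fun x => by rw [← Perm.mul_apply, hπ.eq, Perm.mul_apply]
  rw [flp, flp, ← e i, ← e j, Equiv.swap_apply_apply, Equiv.swap_apply_apply]
  group

theorem flp_inv (hα : α * α = 1) {i j : Fin n} (hij : Sep α i j) : (flp α i j)⁻¹ = flp α i j := by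
  rw [flp, mul_inv_rev, swap_inv, swap_inv, (commute_blocks hα hij).eq]

theorem rot_apply (hα : α * α = 1) {i j l : Fin n} (hij : Sep α i j) (hjl : Sep α j l) (hil : Sep α i l) :
    (rot α i j l i = j ∧ rot α i j l j = l ∧ rot α i j l l = i) ∧
    (rot α i j l (α i) = α j ∧ rot α i j l (α j) = α l ∧ rot α i j l (α l) = α i) ∧
    ∀ x, x ≠ i → x ≠ j → x ≠ l → x ≠ α i → x ≠ α j → x ≠ α l → rot α i j l x = x := by
  obtain ⟨-, -, q1, q2⟩ := hij.symm hα
  obtain ⟨-, -, q3, q4⟩ := hjl.symm hα
  obtain ⟨-, -, q5, q6⟩ := hil.symm hα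
  obtain ⟨a1, a2, a3, a4⟩ := hij
  obtain ⟨b1, b2, b3, b4⟩ := hjl
  obtain ⟨c1, c2, c3, c4⟩ := hil
  have d1 : α i ≠ α j := fun e => a3 (α.injective e).symm
  have d2 : α j ≠ α l := fun e => b3 (α.injective e).symm
  have d3 : α i ≠ α l := fun e => c3 (α.injective e).symm
  have := a4.symm
  have := q2.symm
  have := b4.symm
  have := q4.symm
  have := c4.symm
  have := q6.symm
  have := d1.symm
  have := d2.symm
  have := d3.symm
  have := a3.symm
  have := b3.symm
  have := c3.symm
  have := a1.symm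
  have := a2.symm
  have := c2.symm
  refine ⟨⟨?_, ?_, ?_⟩, ⟨?_, ?_, ?_⟩, fun x h1 h2 h3 h4 h5 h6 => ?_⟩ <;>
    simp (discharger := assumption) only
      [rot, Perm.mul_apply, swap_apply_left, swap_apply_right, swap_apply_of_ne_of_ne]

theorem rot_comm (hα : α * α = 1) {i j l : Fin n} (hij : Sep α i j) (hjl : Sep α j l) (hil : Sep α i l) :
    Commute (rot α i j l) α := by
  obtain ⟨⟨r1, r2, r3⟩, ⟨r4, r5, r6⟩, r7⟩ := rot_apply hα hij hjl hil
  refine Equiv.ext fun x => ?_
  rw [Perm.mul_apply, Perm.mul_apply]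
  by_cases h1 : x = i; · subst h1; rw [r4, r1]
  by_cases h2 : x = j; · subst h2; rw [r5, r2]
  by_cases h3 : x = l; · subst h3; rw [r6, r3]
  by_cases h4 : x = α i; · subst h4; rw [sq_apply hα, r1, r4, sq_apply hα]
  by_cases h5 : x = α j; · subst h5; rw [sq_apply hα, r2, r5, sq_apply hα]
  by_cases h6 : x = α l; · subst h6; rw [sq_apply hα, r3, r6, sq_apply hα]
  rw [r7 x h1 h2 h3 h4 h5 h6]
  refine r7 _ (fun e => h4 ?_) (fun e => h5 ?_) (fun e => h6 ?_) (fun e => h1 (α.injective e))
    (fun e => h2 (α.injective e)) (fun e => h3 (α.injective e)) <;> rw [← e, sq_apply hα]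

theorem rot_order (hα : α * α = 1) {i j l : Fin n} (hij : Sep α i j) (hjl : Sep α j l) (hil : Sep α i l) :
    orderOf (rot α i j l) = 3 ∧ sign (rot α i j l) = 1 := by
  obtain ⟨⟨r1, r2, r3⟩, ⟨r4, r5, r6⟩, r7⟩ := rot_apply hα hij hjl hil
  haveI : Fact (Nat.Prime 3) := ⟨Nat.prime_three⟩
  refine ⟨orderOf_eq_prime (Equiv.ext fun x => ?_) fun e => hij.2.2.1 (by rw [← r1, e, Perm.one_apply]), ?_⟩
  · rw [show 3 = 1 + 1 + 1 from rfl, pow_succ, pow_succ, pow_one, Perm.one_apply, Perm.mul_apply, Perm.mul_apply]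
    by_cases h1 : x = i; · subst h1; rw [r1, r2, r3]
    by_cases h2 : x = j; · subst h2; rw [r2, r3, r1]
    by_cases h3 : x = l; · subst h3; rw [r3, r1, r2]
    by_cases h4 : x = α i; · subst h4; rw [r4, r5, r6]
    by_cases h5 : x = α j; · subst h5; rw [r5, r6, r4]
    by_cases h6 : x = α l; · subst h6; rw [r6, r4, r5]
    simp only [r7 x h1 h2 h3 h4 h5 h6]
  · obtain ⟨a1, a2, a3, a4⟩ := hij
    obtain ⟨b1, b2, b3, b4⟩ := hjl
    rw [rot, map_mul, map_mul, map_mul, sign_swap a3.symm, sign_swap b3.symm,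
      sign_swap fun e => a3 (α.injective e).symm, sign_swap fun e => b3 (α.injective e).symm]
    decide

/-- A block-preserving permutation flipping the block of `i` but not that of `j`. -/
theorem comm_rot (hα : α * α = 1) {π : Perm (Fin n)} (hπ : Commute π α)
    (hb : ∀ x, α x ≠ x → π x = x ∨ π x = α x) {i j l : Fin n} (hij : Sep α i j) (hjl : Sep α j l)
    (hil : Sep α i l) (hi : π i = α i) (hj : π j = j) :
    π * rot α i j l * π⁻¹ * (rot α i j l)⁻¹ =
      if π l = l then flp α i j else flp α j l := by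
  have e : ∀ x, α (π x) = π (α x) := fun x => by rw [← Perm.mul_apply, ← hπ.eq, Perm.mul_apply]
  have hconj : π * rot α i j l * π⁻¹ = rot α (α i) j (π l) := by
    conv_rhs => rw [← hi, ← hj]
    rw [rot, rot, e i, e j, e l, Equiv.swap_apply_apply π, Equiv.swap_apply_apply π, Equiv.swap_apply_apply π,
      Equiv.swap_apply_apply π]
    group
  rw [hconj, mul_inv_eq_iff_eq_mul]
  have hij' := hij.left_block hα
  obtain ⟨⟨r1, r2, r3⟩, ⟨r4, r5, r6⟩, r7⟩ := rot_apply hα hij hjl hil
  obtain ⟨-, -, q1, q2⟩ := hij.symm hα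
  obtain ⟨-, -, q3, q4⟩ := hjl.symm hα
  obtain ⟨-, -, q5, q6⟩ := hil.symm hα
  obtain ⟨a1, a2, a3, a4⟩ := id hij
  obtain ⟨b1, b2, b3, b4⟩ := id hjl
  obtain ⟨c1, c2, c3, c4⟩ := id hil
  have d1 : α i ≠ α j := fun e => a3 (α.injective e).symm
  have d2 : α j ≠ α l := fun e => b3 (α.injective e).symm
  have d3 : α i ≠ α l := fun e => c3 (α.injective e).symm
  have := a4.symm
  have := q2.symm
  have := b4.symm
  have := q4.symm
  have := c4.symm
  have := q6.symm
  have := d1.symm
  have := d2.symm
  have := d3.symm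
  have := a3.symm
  have := b3.symm
  have := c3.symm
  by_cases hl : π l = l
  · rw [if_pos hl, hl]
    obtain ⟨⟨s1, s2, s3⟩, ⟨s4, s5, s6⟩, s7⟩ := rot_apply hα hij' hjl (hil.left_block hα)
    rw [sq_apply hα] at s4 s6 s7
    refine Equiv.ext fun x => ?_
    rw [Perm.mul_apply, flp]
    by_cases h1 : x = i
    · subst h1; rw [r1, s4]
      simp (discharger := assumption) only [Perm.mul_apply, swap_apply_left, swap_apply_right, swap_apply_of_ne_of_ne]
    by_cases h2 : x = j
    · subst h2; rw [r2, s2]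
      simp (discharger := assumption) only [Perm.mul_apply, swap_apply_left, swap_apply_right, swap_apply_of_ne_of_ne]
    by_cases h3 : x = l
    · subst h3; rw [r3, s3]
      simp (discharger := assumption) only [Perm.mul_apply, swap_apply_left, swap_apply_right, swap_apply_of_ne_of_ne]
    by_cases h4 : x = α i
    · subst h4; rw [r4, s1]
      simp (discharger := assumption) only [Perm.mul_apply, swap_apply_left, swap_apply_right, swap_apply_of_ne_of_ne]
    by_cases h5 : x = α j
    · subst h5; rw [r5, s5]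
      simp (discharger := assumption) only [Perm.mul_apply, swap_apply_left, swap_apply_right, swap_apply_of_ne_of_ne]
    by_cases h6 : x = α l
    · subst h6; rw [r6, s6]
      simp (discharger := assumption) only [Perm.mul_apply, swap_apply_left, swap_apply_right, swap_apply_of_ne_of_ne]
    rw [r7 x h1 h2 h3 h4 h5 h6, s7 x h4 h2 h3 h1 h5 h6]
    simp (discharger := assumption) only [Perm.mul_apply, swap_apply_of_ne_of_ne]
  · have hl' := (hb l c2).resolve_left hl
    rw [if_neg hl, hl']
    obtain ⟨⟨s1, s2, s3⟩, ⟨s4, s5, s6⟩, s7⟩ := rot_apply hα hij'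
      ((hjl.symm hα).left_block hα |>.symm hα) (((hil.left_block hα).symm hα).left_block hα |>.symm hα)
    rw [sq_apply hα] at s4 s6
    rw [sq_apply hα, sq_apply hα] at s7
    refine Equiv.ext fun x => ?_
    rw [Perm.mul_apply, flp]
    by_cases h1 : x = i
    · subst h1; rw [r1, s4]
      simp (discharger := assumption) only [Perm.mul_apply, swap_apply_left, swap_apply_right, swap_apply_of_ne_of_ne]
    by_cases h2 : x = j
    · subst h2; rw [r2, s2]
      simp (discharger := assumption) only [Perm.mul_apply, swap_apply_left, swap_apply_right, swap_apply_of_ne_of_ne]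
    by_cases h3 : x = l
    · subst h3
      rw [sq_apply hα] at s5
      rw [r3, s6]
      simp (discharger := assumption) only [Perm.mul_apply, swap_apply_left, swap_apply_right, swap_apply_of_ne_of_ne, sq_apply hα]
    by_cases h4 : x = α i
    · subst h4; rw [r4, s1]
      simp (discharger := assumption) only [Perm.mul_apply, swap_apply_left, swap_apply_right, swap_apply_of_ne_of_ne]
    by_cases h5 : x = α j
    · subst h5; rw [r5, s5]
      simp (discharger := assumption) only [Perm.mul_apply, swap_apply_left, swap_apply_right, swap_apply_of_ne_of_ne,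
        sq_apply hα]
    by_cases h6 : x = α l
    · subst h6; rw [r6, s3]
      simp (discharger := assumption) only [Perm.mul_apply, swap_apply_left, swap_apply_right, swap_apply_of_ne_of_ne]
    rw [r7 x h1 h2 h3 h4 h5 h6, s7 x h4 h2 h6 h1 h5 h3]
    simp (discharger := assumption) only [Perm.mul_apply, swap_apply_of_ne_of_ne]

end CfsgLib.DoubleAlt
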