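import Cfsg.Agent.DoubleAlt.Points

/-!
# The checked facts about nine and ten points
-/

set_option autoImplicit false
set_option maxRecDepth 100000
set_option linter.style.haveILetI false
set_option maxHeartbeats 2000000

namespace CfsgLib.DoubleAlt

open Equiv Equiv.Perm

variable {n : ℕ}

/-- The number of moved points. -/
def nMoved (π : Perm (Fin n)) : ℕ := ((List.finRange n).filter fun x => decide (π x ≠ x)).length

theorem nMoved_eq (π : Perm (Fin n)) : nMoved π = π.support.card := by
  rw [nMoved, ← List.toFinset_card_of_nodup ((List.nodup_finRange n).filter _)]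
  congr 1
  ext x
  simp [mem_support]

/-- An involution moving four points is a double transposition. -/
theorem cycleType_double {π : Perm (Fin n)} (h2 : π * π = 1) (h4 : nMoved π = 4) :
    π.cycleType = {2, 2} := by
  rw [nMoved_eq] at h4
  haveI : Fact (Nat.Prime 2) := ⟨Nat.prime_two⟩
  have hne : π ≠ 1 := fun h => by simp [h] at h4
  have ho : orderOf π = 2 := orderOf_eq_prime (by rw [_root_.sq]; exact h2) hne
  obtain ⟨k, hk⟩ := cycleType_prime_order (σ := π) (by rw [ho]; exact Nat.prime_two)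
  rw [ho] at hk
  have hs := sum_cycleType π
  rw [hk, h4, Multiset.sum_replicate, smul_eq_mul] at hs
  rw [hk, show k + 1 = 2 by omega]
  rfl

variable (n) [NeZero n]

/-- The subgroup generated by `pd` and the third three-cycle. -/
def dcList : List (Perm (Fin n)) :=
  [1, pd n, pd n * pd n].flatMap fun u => [1, c3 n, c3 n * c3 n].map fun v => u * v

/-- The facts common to both degrees. -/
structure Tab where
  /-- The centralizer of `py`. -/
  L : List (Perm (Fin n))
  le_ten : n ≤ 10
  nine_le : 9 ≤ n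
  mem : ∀ π, Commute π (py n) → sign π = 1 → π ∈ L
  even : ∀ π ∈ L, sign π = 1 ∧ Commute π (py n)
  exp : ∀ π ∈ L, π ^ 24 = 1
  conjA : ∀ π ∈ L, π * π = 1 → nMoved π = 8 → ∃ k ∈ L, k * π * k⁻¹ = pa n
  pairA : ∀ π ∈ L, π * π = 1 → nMoved π = 8 → π * pa n = pa n * π →
    π = pa n ∨ π * pa n * (π * pa n) = 1 ∧ nMoved (π * pa n) = 4
  threeA : ∀ π ∈ L, π * π * π = 1 → π * pa n = pa n * π → π ∈ [1, py n, py n * py n]
  threeBase : ∀ π ∈ L, π * π * π = 1 → ∃ k ∈ L, k * π * k⁻¹ ∈ baseList n
  cube : ∀ π ∈ L, π * π * π ∈ [1, py n, py n * py n] → π * π * π = 1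
  reduce : ∀ π ∈ baseList n, ∃ k ∈ [1, py n, py n * py n], π * k ∈ dcList n
  noInv : ∀ r ∈ dcList n, r ≠ 1 → ∀ π ∈ L, π * π = 1 → nMoved π = 8 → π * r ≠ r * π
  baseMem : ∀ π ∈ baseList n, π ∈ L
  invDC : ∀ r ∈ dcList n, pa n * r * pa n = r⁻¹
  paSq : pa n * pa n = 1
  paMoved : nMoved (pa n) = 8
  paPy : pa n * py n = py n * pa n
  paOdd : swap (0 : Fin n) 3 * pa n = pa n * swap (0 : Fin n) 3
  pts : (0 : Fin n) ≠ 1 ∧ (1 : Fin n) ≠ 2 ∧ (3 : Fin n) ≠ 4 ∧ (4 : Fin n) ≠ 5 ∧ (6 : Fin n) ≠ 7 ∧
    (7 : Fin n) ≠ 8 ∧ (0 : Fin n) ≠ 3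
  cycles : c1 n ^ 3 = 1 ∧ c2 n ^ 3 = 1 ∧ c3 n ^ 3 = 1 ∧ c1 n * c2 n = c2 n * c1 n ∧
    c1 n * c3 n = c3 n * c1 n ∧ c2 n * c3 n = c3 n * c2 n ∧ py n ≠ 1
  paConj : pa n * c1 n * pa n = c2 n ∧ pa n * c2 n * pa n = c1 n ∧ pa n * c3 n * pa n = (c3 n)⁻¹
  psConj : ps n * c1 n * (ps n)⁻¹ = (c1 n)⁻¹ ∧ ps n * c2 n * (ps n)⁻¹ = (c2 n)⁻¹ ∧
    ps n * c3 n * (ps n)⁻¹ = c3 n
  psSplit : ∃ β γ : Perm (Fin n), β * γ = pa n ∧ β * β = 1 ∧ nMoved β = 4 ∧ γ * γ = 1 ∧ nMoved γ = 4 ∧
    ps n * β * (ps n * β) = 1 ∧ nMoved (ps n * β) = 4 ∧ (∀ x, ps n x ≠ x → γ x = x) ∧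
    ps n * ps n = 1 ∧ nMoved (ps n) = 4

/-- The table in degree nine. -/
def tabNine : Tab 9 where
  L := listNine
  le_ten := by decide
  nine_le := by decide
  mem _ := mem_listNine
  even := list_even_nine
  exp := of_all (by decide +kernel)
  conjA := of_all (by decide +kernel)
  pairA := of_all (by decide +kernel)
  threeA := of_all (by decide +kernel)
  threeBase := of_all (by decide +kernel)
  cube := of_all (by decide +kernel)
  reduce := of_all (by decide +kernel)
  noInv := fun r hr h1 => of_all (P := fun π => π * π = 1 → nMoved π = 8 → π * r ≠ r * π) ((of_all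
    (P := fun r => r ≠ 1 → (listNine.all fun π => decide (π * π = 1 → nMoved π = 8 → π * r ≠ r * π)) = true)
    (by decide +kernel)) r hr h1)
  baseMem := of_all (by decide +kernel)
  invDC := of_all (by decide +kernel)
  paSq := by decide +kernel
  paMoved := by decide +kernel
  paPy := by decide +kernel
  paOdd := by rw [← sw_eq]; decide +kernel
  pts := by decide
  cycles := by decide +kernel
  paConj := by decide +kernel
  psConj := by decide +kernel
  psSplit := ⟨sw 0 3 * sw 1 4, sw 2 5 * sw 6 7, by decide +kernel, by decide +kernel, by decide +kernel,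
    by decide +kernel, by decide +kernel, by decide +kernel, by decide +kernel, by decide +kernel,
    by decide +kernel, by decide +kernel⟩

/-- The table in degree ten. -/
def tabTen : Tab 10 where
  L := listTen
  le_ten := by decide
  nine_le := by decide
  mem _ := mem_listTen
  even := list_even_ten
  exp := of_all (by decide +kernel)
  conjA := of_all (by decide +kernel)
  pairA := of_all (by decide +kernel)
  threeA := of_all (by decide +kernel)
  threeBase := of_all (by decide +kernel)
  cube := of_all (by decide +kernel)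
  reduce := of_all (by decide +kernel)
  noInv := fun r hr h1 => of_all (P := fun π => π * π = 1 → nMoved π = 8 → π * r ≠ r * π) ((of_all
    (P := fun r => r ≠ 1 → (listTen.all fun π => decide (π * π = 1 → nMoved π = 8 → π * r ≠ r * π)) = true)
    (by decide +kernel)) r hr h1)
  baseMem := of_all (by decide +kernel)
  invDC := of_all (by decide +kernel)
  paSq := by decide +kernel
  paMoved := by decide +kernel
  paPy := by decide +kernel
  paOdd := by rw [← sw_eq]; decide +kernel
  pts := by decide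
  cycles := by decide +kernel
  paConj := by decide +kernel
  psConj := by decide +kernel
  psSplit := ⟨sw 0 3 * sw 1 4, sw 2 5 * sw 6 7, by decide +kernel, by decide +kernel, by decide +kernel,
    by decide +kernel, by decide +kernel, by decide +kernel, by decide +kernel, by decide +kernel,
    by decide +kernel, by decide +kernel⟩

end CfsgLib.DoubleAlt
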