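import Cfsg.Agent.DoubleAlt.LargeNeg
import Cfsg.Agent.DoubleAlt.Tab

/-!
# Degree nine or ten: the four-group, its normalizer and the standard elements
-/

set_option autoImplicit false
set_option linter.style.haveILetI false
set_option linter.unusedSectionVars false

namespace CfsgLib.DoubleAlt

open Equiv Equiv.Perm

variable {G : Type*} [Group G] [Finite G] {n : ℕ} [NeZero n] {z : G}

theorem odd_of_cube {g : G} (h : g ^ 3 = 1) : Odd (orderOf g) :=
  Odd.of_dvd_nat (by decide) (orderOf_dvd_of_pow_eq_one h)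

/-- Two lifts of odd order over the same permutation are equal. -/
theorem Data.Img.odd_eq {D : Data z n} {g g' : G} {π : Perm (Fin n)} (h : D.Img g π) (h' : D.Img g' π)
    (ho : Odd (orderOf g)) (ho' : Odd (orderOf g')) : g = g' := by
  rcases h.eq_or h' with e | e
  · exact e
  exfalso
  rw [e, h'.comm.orderOf_mul_eq_mul_orderOf_of_coprime (by rw [D.hz]; exact Nat.coprime_two_right.2 ho'),
    D.hz] at ho
  rw [Nat.odd_mul] at ho
  exact absurd ho.2 (by decide)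

/-- The standard elements. -/
structure Frame (D : Data z n) (T : Tab n) where
  /-- The second involution of the four-group. -/
  a : G
  /-- Lifts of the three-cycles. -/
  e1 : G
  /-- Lifts of the three-cycles. -/
  e2 : G
  /-- Lifts of the three-cycles. -/
  e3 : G
  /-- A lift of `ps`. -/
  s : G
  ha : D.Img a (pa n)
  ha2 : a * a = 1
  aConj : ∃ g : G, g * z * g⁻¹ = a
  h1 : D.Img e1 (c1 n)
  h2 : D.Img e2 (c2 n)
  h3 : D.Img e3 (c3 n)
  h1c : e1 ^ 3 = 1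
  h2c : e2 ^ 3 = 1
  h3c : e3 ^ 3 = 1
  hs : D.Img s (ps n)

theorem sign_cycles (T : Tab n) : sign (c1 n) = 1 ∧ sign (c2 n) = 1 ∧ sign (c3 n) = 1 ∧ sign (ps n) = 1 := by
  obtain ⟨p1, p2, p3, p4, p5, p6, -⟩ := T.pts
  simp only [c1, c2, c3, ps, sw_eq, map_mul]
  rw [sign_swap p1, sign_swap p2, sign_swap p3, sign_swap p4, sign_swap p5, sign_swap p6]
  decide

theorem pa_type (T : Tab n) {α : Perm (Fin n)} (h2 : α * α = 1) (h8 : α.support.card = 8) :
    α.cycleType = Multiset.replicate 4 2 := by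
  haveI : Fact (Nat.Prime 2) := ⟨Nat.prime_two⟩
  have hne : α ≠ 1 := fun h => by simp [h] at h8
  have ho : orderOf α = 2 := orderOf_eq_prime (by rw [_root_.sq]; exact h2) hne
  obtain ⟨k, hk⟩ := cycleType_prime_order (σ := α) (by rw [ho]; exact Nat.prime_two)
  rw [ho] at hk
  have hs := sum_cycleType α
  rw [hk, h8, Multiset.sum_replicate, smul_eq_mul] at hs
  rw [hk, show k + 1 = 4 by omega]

theorem moved_eight (T : Tab n) {α : Perm (Fin n)} (h8 : 8 ≤ α.support.card) (hs : sign α = 1)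
    (h2 : α * α = 1) : α.support.card = 8 := by
  haveI : Fact (Nat.Prime 2) := ⟨Nat.prime_two⟩
  have hne : α ≠ 1 := fun h => by simp [h] at h8
  have ho : orderOf α = 2 := orderOf_eq_prime (by rw [_root_.sq]; exact h2) hne
  obtain ⟨k, hk⟩ := cycleType_prime_order (σ := α) (by rw [ho]; exact Nat.prime_two)
  rw [ho] at hk
  have hsum := sum_cycleType α
  rw [hk, Multiset.sum_replicate, smul_eq_mul] at hsum
  rw [sign_of_cycleType, hk, Multiset.sum_replicate, Multiset.card_replicate, smul_eq_mul] at hs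
  have hev := (neg_one_pow_eq_one_iff_even (R := ℤˣ) (by decide)).1 hs
  obtain ⟨j, hj⟩ := hev
  have hle := α.support.card_le_univ
  rw [Fintype.card_fin] at hle
  have := T.le_ten
  omega

theorem exists_frame [IsSimpleGroup G] (D : Data z n) (T : Tab n) : Nonempty (Frame D T) := by
  classical
  obtain ⟨g, hc, hne⟩ := D.exists_conj
  have hsq : g * z * g⁻¹ * (g * z * g⁻¹) = 1 := by
    rw [show g * z * g⁻¹ * (g * z * g⁻¹) = g * (z * z) * g⁻¹ by group, D.z_sq, mul_one, mul_inv_cancel]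
  obtain ⟨α, hα, hα2, -, h8⟩ := D.involution hc hsq (fun h => D.z_ne (conj_eq_one_iff.1 h)) hne
  have hpa : (pa n).support.card = 8 := by rw [← nMoved_eq]; exact T.paMoved
  obtain ⟨σ, hσ⟩ := isConj_iff.1 (isConj_iff_cycleType_eq.2
    ((pa_type T hα2 (moved_eight T h8 hα.sgn hα2)).trans (pa_type T T.paSq hpa).symm))
  obtain ⟨σ', hσs, hσ'⟩ : ∃ σ', sign σ' = 1 ∧ σ' * α * σ'⁻¹ = pa n := by
    rcases Int.units_eq_one_or (sign σ) with hs | hs
    · exact ⟨σ, hs, hσ⟩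
    · refine ⟨swap (0 : Fin n) 3 * σ, by rw [map_mul, hs, sign_swap T.pts.2.2.2.2.2.2]; decide, ?_⟩
      rw [mul_inv_rev, show swap (0 : Fin n) 3 * σ * α * (σ⁻¹ * (swap (0 : Fin n) 3)⁻¹) =
        swap (0 : Fin n) 3 * (σ * α * σ⁻¹) * (swap (0 : Fin n) 3)⁻¹ by group, hσ, T.paOdd,
        mul_inv_cancel_right]
  obtain ⟨h, hh⟩ := D.exists_img hσs
  obtain ⟨hs1, hs2, hs3, hss⟩ := sign_cycles T
  obtain ⟨q1, q2, q3, -⟩ := T.cycles
  have hlift : ∀ π : Perm (Fin n), sign π = 1 → π ^ 3 = 1 → ∃ e, D.Img e π ∧ e ^ 3 = 1 := by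
    intro π hπ h3
    have hd := orderOf_dvd_of_pow_eq_one h3
    obtain ⟨e, he, hep⟩ := D.exists_odd_lift hπ (Odd.of_dvd_nat (by decide) hd)
    refine ⟨e, he, ?_⟩
    obtain ⟨m, hm⟩ := hd
    rw [hm, pow_mul, hep, one_pow]
  obtain ⟨e1, h1, h1c⟩ := hlift _ hs1 q1
  obtain ⟨e2, h2, h2c⟩ := hlift _ hs2 q2
  obtain ⟨e3, h3, h3c⟩ := hlift _ hs3 q3
  obtain ⟨s, hs⟩ := D.exists_img hss
  refine ⟨⟨h * (g * z * g⁻¹) * h⁻¹, e1, e2, e3, s, hσ' ▸ hh.conj hα, ?_, ⟨h * g, by group⟩, h1, h2, h3,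
    h1c, h2c, h3c, hs⟩⟩
  rw [show h * (g * z * g⁻¹) * h⁻¹ * (h * (g * z * g⁻¹) * h⁻¹) =
    h * (g * z * g⁻¹ * (g * z * g⁻¹)) * h⁻¹ by group, hsq, mul_one, mul_inv_cancel]

namespace Frame

variable {D : Data z n} {T : Tab n} (F : Frame D T)

/-- The element `y`. -/
def y : G := F.e1 * F.e2

/-- The element `d`. -/
def d : G := F.e1 * F.e2⁻¹

theorem e12 : Commute F.e1 F.e2 := F.h1.odd_comm F.h2 T.cycles.2.2.2.1 (odd_of_cube F.h1c)
theorem e13 : Commute F.e1 F.e3 := F.h1.odd_comm F.h3 T.cycles.2.2.2.2.1 (odd_of_cube F.h1c)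
theorem e23 : Commute F.e2 F.e3 := F.h2.odd_comm F.h3 T.cycles.2.2.2.2.2.1 (odd_of_cube F.h2c)

theorem y_img : D.Img F.y (py n) := F.h1.mul F.h2
theorem d_img : D.Img F.d (pd n) := F.h1.mul F.h2.inv

theorem y_cube : F.y ^ 3 = 1 := by rw [y, F.e12.mul_pow, F.h1c, F.h2c, one_mul]
theorem d_cube : F.d ^ 3 = 1 := by rw [d, F.e12.inv_right.mul_pow, inv_pow, F.h1c, F.h2c, inv_one, one_mul]

theorem y_ne : F.y ≠ 1 := fun h => T.cycles.2.2.2.2.2.2 ((h ▸ F.y_img : D.Img (1 : G) (py n)).unique D.img_one)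

theorem y_d : Commute F.y F.d := by
  refine Commute.mul_left ?_ ?_
  · exact (Commute.refl _).mul_right F.e12.inv_right
  · exact F.e12.symm.mul_right (Commute.refl _).inv_right
theorem y_e3 : Commute F.y F.e3 := F.e13.mul_left F.e23
theorem d_e3 : Commute F.d F.e3 := F.e13.mul_left F.e23.inv_left

theorem a_ne : F.a ≠ 1 := fun h => by
  have h8 := T.paMoved
  have h1 := F.ha
  rw [h] at h1
  rw [h1.unique D.img_one] at h8
  simp [nMoved_eq] at h8

theorem a_ne_z : F.a ≠ z := fun h => by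
  have h8 := T.paMoved
  have h1 := F.ha
  rw [h] at h1
  rw [h1.unique D.img_z] at h8
  simp [nMoved_eq] at h8

theorem a_z : Commute F.a z := F.ha.comm

theorem a_inv : F.a⁻¹ = F.a := inv_eq_of_mul_eq_one_right F.ha2

theorem a_y : Commute F.a F.y :=
  (F.y_img.odd_comm F.ha (show Commute (py n) (pa n) from T.paPy.symm) (odd_of_cube F.y_cube)).symm

/-- Conjugation of odd lifts. -/
theorem conj_eq {g e e' : G} {π ρ ρ' : Perm (Fin n)} (hg : D.Img g π) (he : D.Img e ρ) (he' : D.Img e' ρ')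
    (hc : e ^ 3 = 1) (hc' : e' ^ 3 = 1) (h : π * ρ * π⁻¹ = ρ') : g * e * g⁻¹ = e' := by
  refine Data.Img.odd_eq (h ▸ hg.conj he) he' (odd_of_cube ?_) (odd_of_cube hc')
  rw [conj_pow, hc, mul_one, mul_inv_cancel]

theorem a_e1 : F.a * F.e1 * F.a⁻¹ = F.e2 :=
  conj_eq F.ha F.h1 F.h2 F.h1c F.h2c (by rw [inv_eq_of_mul_eq_one_right T.paSq]; exact T.paConj.1)

theorem a_e2 : F.a * F.e2 * F.a⁻¹ = F.e1 :=
  conj_eq F.ha F.h2 F.h1 F.h2c F.h1c (by rw [inv_eq_of_mul_eq_one_right T.paSq]; exact T.paConj.2.1)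

theorem a_e3 : F.a * F.e3 * F.a⁻¹ = F.e3⁻¹ :=
  conj_eq F.ha F.h3 F.h3.inv F.h3c (by rw [inv_pow, F.h3c, inv_one])
    (by rw [inv_eq_of_mul_eq_one_right T.paSq]; exact T.paConj.2.2)

theorem a_d : F.a * F.d * F.a⁻¹ = F.d⁻¹ := by
  rw [d, show F.a * (F.e1 * F.e2⁻¹) * F.a⁻¹ = (F.a * F.e1 * F.a⁻¹) * (F.a * F.e2 * F.a⁻¹)⁻¹ by group,
    F.a_e1, F.a_e2, mul_inv_rev, inv_inv]

theorem s_e1 : F.s * F.e1 * F.s⁻¹ = F.e1⁻¹ :=
  conj_eq F.hs F.h1 F.h1.inv F.h1c (by rw [inv_pow, F.h1c, inv_one]) T.psConj.1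

theorem s_e2 : F.s * F.e2 * F.s⁻¹ = F.e2⁻¹ :=
  conj_eq F.hs F.h2 F.h2.inv F.h2c (by rw [inv_pow, F.h2c, inv_one]) T.psConj.2.1

theorem s_e3 : F.s * F.e3 * F.s⁻¹ = F.e3 := conj_eq F.hs F.h3 F.h3 F.h3c F.h3c T.psConj.2.2

theorem s_y : F.s * F.y * F.s⁻¹ = F.y⁻¹ := by
  rw [y, show F.s * (F.e1 * F.e2) * F.s⁻¹ = (F.s * F.e1 * F.s⁻¹) * (F.s * F.e2 * F.s⁻¹) by group,
    F.s_e1, F.s_e2, ← mul_inv_rev, F.e12.eq]

theorem s_d : F.s * F.d * F.s⁻¹ = F.d⁻¹ := by
  rw [d, show F.s * (F.e1 * F.e2⁻¹) * F.s⁻¹ = (F.s * F.e1 * F.s⁻¹) * (F.s * F.e2 * F.s⁻¹)⁻¹ by group,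
    F.s_e1, F.s_e2, mul_inv_rev, inv_inv]
  exact F.e12.inv_left.eq

theorem s_z : Commute F.s z := F.hs.comm

theorem s_sq : F.s * F.s = z := by
  obtain ⟨β, γ, -, -, -, -, -, -, -, -, h2, h4⟩ := T.psSplit
  exact F.hs.double_sq (cycleType_double h2 h4)

/-- `s` interchanges `a` and `a * z`. -/
theorem s_a : F.s * F.a * F.s⁻¹ = F.a * z := by
  obtain ⟨β, γ, hp, b2, b4, g2, g4, p2, p4, hdis, s2, s4⟩ := T.psSplit
  have tb := cycleType_double b2 b4
  have hβs : sign β = 1 := by rw [sign_of_cycleType, tb]; decide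
  have hγs : sign γ = 1 := by rw [sign_of_cycleType, cycleType_double g2 g4]; decide
  obtain ⟨g, hg⟩ := D.exists_img hβs
  obtain ⟨h, hh⟩ := D.exists_img hγs
  have e1 := F.hs.anti hg (cycleType_double s2 s4) tb (cycleType_double p2 p4)
  have e2 : Commute F.s h := F.hs.off hh hdis
  have hzc : Commute F.s z := F.hs.comm
  have key : F.s * (g * h) * F.s⁻¹ = g * h * z := by
    rw [← mul_assoc, e1, mul_assoc z, mul_assoc g F.s h, e2.eq, ← mul_assoc g h, ← mul_assoc,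
      mul_inv_cancel_right, (hg.mul hh).comm.eq]
  rcases F.ha.eq_or (hp ▸ hg.mul hh) with e | e
  · rw [e, key]
  · rw [e, show F.s * (g * h * z) * F.s⁻¹ = F.s * (g * h) * F.s⁻¹ * (F.s * z * F.s⁻¹) by group, key,
      hzc.eq, mul_inv_cancel_right]

/-- The involutions of the centralizer of `z` are fused. -/
theorem invol_conj {b : G} (hb : Commute b z) (h2 : b * b = 1) (h1 : b ≠ 1) (hz' : b ≠ z) :
    ∃ h : G, Commute h z ∧ h * F.a * h⁻¹ = b := by
  classical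
  obtain ⟨α, hα, hα2, -, h8⟩ := D.involution hb h2 h1 hz'
  have hpa : (pa n).support.card = 8 := by rw [← nMoved_eq]; exact T.paMoved
  obtain ⟨σ, hσ⟩ := isConj_iff.1 (isConj_iff_cycleType_eq.2
    ((pa_type T T.paSq hpa).trans (pa_type T hα2 (moved_eight T h8 hα.sgn hα2)).symm))
  obtain ⟨σ', hσs, hσ'⟩ : ∃ σ', sign σ' = 1 ∧ σ' * pa n * σ'⁻¹ = α := by
    rcases Int.units_eq_one_or (sign σ) with hs | hs
    · exact ⟨σ, hs, hσ⟩
    · refine ⟨σ * swap (0 : Fin n) 3, by rw [map_mul, hs, sign_swap T.pts.2.2.2.2.2.2]; decide, ?_⟩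
      rw [mul_inv_rev, show σ * swap (0 : Fin n) 3 * pa n * ((swap (0 : Fin n) 3)⁻¹ * σ⁻¹) =
        σ * (swap (0 : Fin n) 3 * pa n * (swap (0 : Fin n) 3)⁻¹) * σ⁻¹ by group, T.paOdd,
        mul_inv_cancel_right, hσ]
  obtain ⟨h, hh⟩ := D.exists_img hσs
  rcases (hσ' ▸ hh.conj F.ha : D.Img (h * F.a * h⁻¹) α).eq_or hα with e | e
  · exact ⟨h, hh.comm, e⟩
  · refine ⟨h * F.s, hh.comm.mul_left F.s_z, ?_⟩
    rw [show h * F.s * F.a * (h * F.s)⁻¹ = h * (F.s * F.a * F.s⁻¹) * h⁻¹ by group, F.s_a,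
      show h * (F.a * z) * h⁻¹ = h * F.a * h⁻¹ * (h * z * h⁻¹) by group, e, hh.comm.eq,
      mul_inv_cancel_right, mul_assoc, D.z_sq, mul_one]

/-- Elements of odd order commuting with `y` and both involutions are powers of `y`. -/
theorem odd_cent {g : G} (hz : Commute g z) (ha : Commute g F.a) (hy : Commute g F.y)
    (ho : Odd (orderOf g)) : g = 1 ∨ g = F.y ∨ g = F.y * F.y := by
  obtain ⟨π, hπ⟩ := D.img_of_comm hz
  have hcy : Commute π (py n) := (hπ.mul F.y_img).unique (hy.eq ▸ F.y_img.mul hπ)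
  have hca : π * pa n = pa n * π := (hπ.mul F.ha).unique (ha.eq ▸ F.ha.mul hπ)
  have hL := T.mem π hcy hπ.sgn
  have hd : orderOf π ∣ orderOf g := by
    refine orderOf_dvd_of_pow_eq_one ((hπ.pow _).unique ?_)
    rw [pow_orderOf_eq_one]; exact D.img_one
  have h3 : π * π * π = 1 := by
    rw [← _root_.sq, ← pow_succ]
    refine orderOf_dvd_iff_pow_eq_one.1 ?_
    have h24 : orderOf π ∣ 3 * 8 := orderOf_dvd_of_pow_eq_one (T.exp π hL)
    exact (Nat.Coprime.pow_right 3 (Nat.coprime_two_right.2 (ho.of_dvd_nat hd))).dvd_of_dvd_mul_right h24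
  have hy2 : Odd (orderOf (F.y * F.y)) := odd_of_cube (by
    rw [← _root_.sq, ← pow_mul, mul_comm, pow_mul, F.y_cube, one_pow])
  have := T.threeA π hL h3 hca
  simp only [List.mem_cons, List.not_mem_nil, or_false] at this
  rcases this with rfl | rfl | rfl
  · exact Or.inl (hπ.odd_eq D.img_one ho (by simp))
  · exact Or.inr (Or.inl (hπ.odd_eq F.y_img ho (odd_of_cube F.y_cube)))
  · exact Or.inr (Or.inr (hπ.odd_eq (F.y_img.mul F.y_img) ho hy2))

/-- An element centralizing `y` which permutes the three involutions of the four-group cyclically. -/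
theorem exists_tau :
    ∃ t : G, t * z * t⁻¹ = F.a ∧ t * F.a * t⁻¹ = F.a * z ∧ Commute t F.y := by
  classical
  haveI : Fact (Nat.Prime 3) := ⟨Nat.prime_three⟩
  obtain ⟨g0, hg0⟩ := F.aConj
  have hb : g0⁻¹ * z * g0 * (g0⁻¹ * z * g0) = 1 := by
    rw [show g0⁻¹ * z * g0 * (g0⁻¹ * z * g0) = g0⁻¹ * (z * z) * g0 by group, D.z_sq, mul_one, inv_mul_cancel]
  have hbz : g0⁻¹ * z * g0 ≠ z := fun h => F.a_ne_z (by
    rw [← hg0]
    conv_lhs => rw [← h]
    group)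
  have hb1 : g0⁻¹ * z * g0 ≠ 1 := fun h => D.z_ne (by
    rw [show z = g0 * (g0⁻¹ * z * g0) * g0⁻¹ by group, h]; group)
  have hbc : Commute (g0⁻¹ * z * g0) z := by
    have h := (F.a_z.map (MulAut.conj g0⁻¹).toMonoidHom).symm
    rw [← hg0] at h
    simpa [mul_assoc] using h
  obtain ⟨h, hhz, hh⟩ := F.invol_conj hbc hb hb1 hbz
  obtain ⟨t0, rfl⟩ : ∃ t0, t0 = F.s * (g0 * h) := ⟨_, rfl⟩
  have hg1z : g0 * h * z * (g0 * h)⁻¹ = F.a := by
    rw [show g0 * h * z * (g0 * h)⁻¹ = g0 * (h * z * h⁻¹) * g0⁻¹ by group, hhz.eq, mul_inv_cancel_right, hg0]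
  have hg1a : g0 * h * F.a * (g0 * h)⁻¹ = z := by
    rw [show g0 * h * F.a * (g0 * h)⁻¹ = g0 * (h * F.a * h⁻¹) * g0⁻¹ by group, hh]; group
  set u := F.s * (g0 * h) with hu
  have huz : u * z * u⁻¹ = F.a * z := by
    rw [hu, show F.s * (g0 * h) * z * (F.s * (g0 * h))⁻¹ = F.s * (g0 * h * z * (g0 * h)⁻¹) * F.s⁻¹ by group,
      hg1z, F.s_a]
  have hua : u * F.a * u⁻¹ = z := by
    rw [hu, show F.s * (g0 * h) * F.a * (F.s * (g0 * h))⁻¹ = F.s * (g0 * h * F.a * (g0 * h)⁻¹) * F.s⁻¹ by group,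
      hg1a, F.s_z.eq, mul_inv_cancel_right]
  -- a Sylow subgroup of the centralizer of the four-group
  set y' := u * F.y * u⁻¹ with hy'
  have hy'z : Commute y' z := by
    have := F.a_y.symm.map (MulAut.conj u).toMonoidHom
    simp only [MulEquiv.coe_toMonoidHom, MulAut.conj_apply, hua] at this
    exact this
  have hy'a : Commute y' F.a := by
    have h1 := (F.a_y.symm.map (MulAut.conj u).toMonoidHom)
    have h2 := F.y_img.comm.map (MulAut.conj u).toMonoidHom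
    simp only [MulEquiv.coe_toMonoidHom, MulAut.conj_apply, hua, huz] at h1 h2
    have h3 := h2.mul_right h1
    rwa [mul_assoc F.a, D.z_sq, mul_one] at h3
  let K : Subgroup G := cK z F.a
  have hyK : F.y ∈ K := mem_cK.2 ⟨F.y_img.comm, F.a_y.symm⟩
  have hy'K : y' ∈ K := mem_cK.2 ⟨hy'z, hy'a⟩
  have hP : IsPGroup 3 (Subgroup.zpowers (⟨F.y, hyK⟩ : K)) := by
    rintro ⟨x, k, rfl⟩
    refine ⟨1, Subtype.ext (Subtype.ext ?_)⟩
    show ((F.y ^ k : G)) ^ 3 ^ 1 = 1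
    rw [pow_one, ← zpow_natCast, ← zpow_mul, mul_comm, zpow_mul, zpow_natCast, F.y_cube, one_zpow]
  obtain ⟨P, hPle⟩ := hP.exists_le_sylow
  have hPeq : (P : Subgroup K) = Subgroup.zpowers (⟨F.y, hyK⟩ : K) := by
    refine le_antisymm ?_ hPle
    by_contra hlt
    have hne : Subgroup.zpowers (⟨F.y, hyK⟩ : K) ≠ P := fun e => hlt e.ge
    haveI : Group.IsNilpotent (P : Subgroup K) := P.2.isNilpotent
    have hlt' : (Subgroup.zpowers (⟨F.y, hyK⟩ : K)).subgroupOf P < ⊤ :=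
      lt_top_iff_ne_top.2 fun e => hne (le_antisymm hPle fun x hx =>
        (e ▸ Subgroup.mem_top (⟨x, hx⟩ : (P : Subgroup K)) :
          (⟨x, hx⟩ : (P : Subgroup K)) ∈ (Subgroup.zpowers (⟨F.y, hyK⟩ : K)).subgroupOf P))
    obtain ⟨x, hx, hxn⟩ := SetLike.exists_of_lt (Group.normalizerCondition_of_isNilpotent _ hlt')
    obtain ⟨k, hk⟩ := (Subgroup.mem_normalizer_iff.1 hx ⟨_, hPle (Subgroup.mem_zpowers _)⟩).1
      (Subgroup.mem_zpowers _)
    have hkG : (x : K).1 * F.y * (x : K).1⁻¹ = F.y ^ k := (congrArg (fun t : K => (t : G)) hk).symm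
    obtain ⟨j, hj⟩ := IsPGroup.iff_orderOf.1 P.2 x
    have hodd : Odd (orderOf (x : K).1) := by
      rw [Subgroup.orderOf_coe, Subgroup.orderOf_coe, hj]; exact Odd.pow (by decide)
    have hcomm : Commute (x : K).1 F.y := by
      have h3 : F.y ^ k = F.y ^ (k % 3) := (zpow_eq_zpow_iff_modEq).2 (by
        rw [orderOf_eq_prime F.y_cube F.y_ne]; exact (Int.mod_modEq k 3).symm)
      obtain h0 | h0 | h0 : k % 3 = 0 ∨ k % 3 = 1 ∨ k % 3 = 2 := by omega
      · rw [h3, h0, zpow_zero] at hkG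
        exact absurd (conj_eq_one_iff.1 hkG) F.y_ne
      · rw [h3, h0, zpow_one] at hkG
        exact mul_inv_eq_iff_eq_mul.1 hkG
      · have hyi : F.y ^ (2 : ℤ) = F.y⁻¹ := by
          rw [zpow_two, eq_inv_iff_mul_eq_one, ← pow_two, ← pow_succ]; exact F.y_cube
        rw [h3, h0, hyi] at hkG
        have key : ∀ m : ℕ, (x : K).1 ^ m * F.y * ((x : K).1 ^ m)⁻¹ =
            if Even m then F.y else F.y⁻¹ := by
          intro m
          induction m with
          | zero => simp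
          | succ m ih =>
            rw [pow_succ', show (x : K).1 * (x : K).1 ^ m * F.y * ((x : K).1 * (x : K).1 ^ m)⁻¹ =
              (x : K).1 * ((x : K).1 ^ m * F.y * ((x : K).1 ^ m)⁻¹) * (x : K).1⁻¹ by group, ih]
            by_cases hm : Even m
            · rw [if_pos hm, if_neg (Nat.not_even_iff_odd.2 hm.add_one), hkG]
            · rw [if_neg hm, if_pos (Nat.not_even_iff_odd.1 hm).add_one, ← conj_inv, hkG, inv_inv]
        have := key (orderOf (x : K).1)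
        rw [pow_orderOf_eq_one, if_neg (Nat.not_even_iff_odd.2 hodd)] at this
        simp only [one_mul, inv_one, mul_one] at this
        have h4 := F.y_cube
        rw [pow_succ, _root_.sq] at h4
        nth_rewrite 1 [this] at h4
        simp at h4
        exact absurd h4 F.y_ne
    obtain ⟨hxz, hxa⟩ := mem_cK.1 (x : K).2
    refine hxn ?_
    show (x : K) ∈ Subgroup.zpowers (⟨F.y, hyK⟩ : K)
    rcases F.odd_cent hxz hxa hcomm hodd with e | e | e
    · exact ⟨0, Subtype.ext (by simpa using e.symm)⟩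
    · exact ⟨1, Subtype.ext (by simpa using e.symm)⟩
    · exact ⟨2, Subtype.ext (by simp [e, zpow_two, pow_two])⟩
  have hP' : IsPGroup 3 (Subgroup.zpowers (⟨y', hy'K⟩ : K)) := by
    rintro ⟨x, k, rfl⟩
    refine ⟨1, Subtype.ext (Subtype.ext ?_)⟩
    show ((y' ^ k : G)) ^ 3 ^ 1 = 1
    rw [pow_one, ← zpow_natCast, ← zpow_mul, mul_comm, zpow_mul, zpow_natCast, hy', conj_pow, F.y_cube,
      mul_one, mul_inv_cancel, one_zpow]
  obtain ⟨Q, hQle⟩ := hP'.exists_le_sylow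
  obtain ⟨k, hk⟩ := MulAction.exists_smul_eq K Q P
  have hmem : k * (⟨y', hy'K⟩ : K) * k⁻¹ ∈ (P : Subgroup K) := by
    rw [← hk]
    exact ⟨_, hQle (Subgroup.mem_zpowers _), rfl⟩
  rw [hPeq] at hmem
  obtain ⟨m, hm⟩ := hmem
  obtain ⟨hkz, hka⟩ := mem_cK.1 k.2
  set v := (k : G) * u with hv
  have hvy : v * F.y * v⁻¹ = F.y ^ m := by
    have : (k : G) * y' * (k : G)⁻¹ = F.y ^ m := (congrArg (fun t : K => (t : G)) hm).symm
    rw [← this, hv, hy']; group
  have hvz : v * z * v⁻¹ = F.a * z := by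
    rw [hv, show (k : G) * u * z * ((k : G) * u)⁻¹ = k * (u * z * u⁻¹) * (k : G)⁻¹ by group, huz,
      (hka.mul_right hkz).eq, mul_inv_cancel_right]
  have hva : v * F.a * v⁻¹ = z := by
    rw [hv, show (k : G) * u * F.a * ((k : G) * u)⁻¹ = k * (u * F.a * u⁻¹) * (k : G)⁻¹ by group, hua,
      hkz.eq, mul_inv_cancel_right]
  refine ⟨v * v, ?_, ?_, ?_⟩
  · rw [show v * v * z * (v * v)⁻¹ = v * (v * z * v⁻¹) * v⁻¹ by group, hvz,
      show v * (F.a * z) * v⁻¹ = v * F.a * v⁻¹ * (v * z * v⁻¹) by group, hva, hvz, ← mul_assoc, F.a_z.symm.eq,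
      mul_assoc, D.z_sq, mul_one]
  · rw [show v * v * F.a * (v * v)⁻¹ = v * (v * F.a * v⁻¹) * v⁻¹ by group, hva, hvz]
  · refine mul_inv_eq_iff_eq_mul.1 ?_
    rw [show v * v * F.y * (v * v)⁻¹ = v * (v * F.y * v⁻¹) * v⁻¹ by group, hvy, ← conj_zpow, hvy, ← zpow_mul]
    have hord : orderOf F.y = 3 := orderOf_eq_prime F.y_cube F.y_ne
    have hne : m % 3 ≠ 0 := fun h0 => by
      have h1 : F.y ^ m = 1 := by
        rw [show F.y ^ m = F.y ^ (0 : ℤ) from zpow_eq_zpow_iff_modEq.2 (by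
          rw [hord]; exact h0), zpow_zero]
      rw [h1] at hvy
      exact F.y_ne (conj_eq_one_iff.1 hvy)
    conv_rhs => rw [← zpow_one F.y]
    refine zpow_eq_zpow_iff_modEq.2 ?_
    rw [hord]
    show (m * m) % 3 = 1 % 3
    rw [Int.mul_emod]
    obtain h0 | h0 : m % 3 = 1 ∨ m % 3 = 2 := by omega
    all_goals rw [h0]; rfl

end Frame

end CfsgLib.DoubleAlt
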