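import Cfsg.Agent.DoubleAlt.Flips
import Cfsg.Agent.Invol.IsolatedApps

/-!
# Fusion of the involution and the involutions of its centralizer
-/

set_option autoImplicit false
set_option linter.style.haveILetI false
set_option linter.unusedSectionVars false

namespace CfsgLib.DoubleAlt

open Equiv Equiv.Perm

variable {G : Type*} [Group G] [Finite G] {n : ℕ} {z : G}

/-- An element of the centralizer of the pair commuting with both. -/
theorem Data.Img.commute_of_disjoint (D : Data z n) {g a : G} {π α : Perm (Fin n)} (hg : D.Img g π)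
    (ha : D.Img a α) (hd : ∀ x, π x ≠ x → (π⁻¹ * α) x = x) : Commute g a := by
  obtain ⟨g', hg'⟩ : ∃ g', D.Img g' (π⁻¹ * α) :=
    D.exists_img (by rw [map_mul, map_inv, hg.sgn, ha.sgn, inv_one, one_mul])
  have hc := hg.off hg' hd
  rcases ha.eq_or (mul_inv_cancel_left π α ▸ hg.mul hg') with e | e
  · rw [e]; exact (Commute.refl g).mul_right hc
  · rw [e]; exact ((Commute.refl g).mul_right hc).mul_right hg.comm

/-- The involution is fused into its centralizer. -/
theorem Data.exists_conj [IsSimpleGroup G] (D : Data z n) :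
    ∃ g : G, Commute (g * z * g⁻¹) z ∧ g * z * g⁻¹ ≠ z := by
  by_contra hno
  push Not at hno
  have hiso : Cfsg.IsIsolatedInvolution z := ⟨D.hz, fun g hg => hno g hg.symm⟩
  obtain ⟨N, hN, hodd, hcom⟩ := ZStar.zstar hiso
  rcases hN.eq_bot_or_eq_top with rfl | rfl
  · have hzc : z ∈ Subgroup.center G := Subgroup.mem_center_iff.2 fun g => by
      have h := Subgroup.mem_bot.1 (hcom g)
      rw [mul_inv_eq_one, mul_inv_eq_iff_eq_mul] at h
      exact h.symm
    rcases (inferInstance : (Subgroup.center G).Normal).eq_bot_or_eq_top with hb | ht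
    · exact D.z_ne (Subgroup.mem_bot.1 (hb ▸ hzc))
    have hall : ∀ g h : G, g * h = h * g := fun g h =>
      (Subgroup.mem_center_iff.1 (ht ▸ Subgroup.mem_top h : h ∈ Subgroup.center G) g)
    have h5 := D.five
    let p : Fin 5 → Fin n := fun i => ⟨i, by omega⟩
    have hp : ∀ {i j}, i ≠ j → p i ≠ p j := fun h e => h (Fin.ext (by simpa [p, Fin.ext_iff] using e))
    obtain ⟨g, hg⟩ := D.exists_img (π := swap (p 0) (p 1) * swap (p 1) (p 2))
      (by rw [map_mul, sign_swap (hp (by decide)), sign_swap (hp (by decide))]; decide)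
    obtain ⟨h, hh⟩ := D.exists_img (π := swap (p 2) (p 3) * swap (p 3) (p 4))
      (by rw [map_mul, sign_swap (hp (by decide)), sign_swap (hp (by decide))]; decide)
    have e := (hg.mul hh).unique (hall g h ▸ hh.mul hg)
    have e1 := DFunLike.congr_fun e (p 1)
    simp only [Perm.mul_apply] at e1
    rw [swap_apply_of_ne_of_ne (hp (by decide : (1 : Fin 5) ≠ 3)) (hp (by decide : (1 : Fin 5) ≠ 4)),
      swap_apply_of_ne_of_ne (hp (by decide : (1 : Fin 5) ≠ 2)) (hp (by decide : (1 : Fin 5) ≠ 3)),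
      swap_apply_left,
      swap_apply_of_ne_of_ne (hp (by decide : (2 : Fin 5) ≠ 0)) (hp (by decide : (2 : Fin 5) ≠ 1)),
      swap_apply_of_ne_of_ne (hp (by decide : (2 : Fin 5) ≠ 3)) (hp (by decide : (2 : Fin 5) ≠ 4)),
      swap_apply_left] at e1
    exact hp (by decide : (2 : Fin 5) ≠ 3) e1
  · rw [Subgroup.card_top] at hodd
    exact Nat.not_even_iff_odd.2 hodd (even_iff_two_dvd.2 (D.hz ▸ orderOf_dvd_natCard z))

/-- A non-central involution of the centralizer moves at least eight points. -/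
theorem Data.involution (D : Data z n) {a : G} (hc : Commute a z) (ha : a * a = 1) (h1 : a ≠ 1)
    (h2 : a ≠ z) :
    ∃ α, D.Img a α ∧ α * α = 1 ∧ α ≠ 1 ∧ 8 ≤ α.support.card := by
  classical
  obtain ⟨α, hα⟩ := D.img_of_comm hc
  have hsq : α * α = 1 := (hα.mul hα).unique (ha ▸ D.img_one)
  have hne : α ≠ 1 := fun e => by
    rcases (e ▸ hα : D.Img a 1).eq_one with h | h
    exacts [h1 h, h2 h]
  refine ⟨α, hα, hsq, hne, ?_⟩
  haveI : Fact (Nat.Prime 2) := ⟨Nat.prime_two⟩
  obtain ⟨k, hk⟩ := cycleType_prime_order (σ := α)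
    (by rw [orderOf_eq_prime (by rw [_root_.sq]; exact hsq) hne]; exact Nat.prime_two)
  rw [orderOf_eq_prime (by rw [_root_.sq]; exact hsq) hne] at hk
  have hs := hα.sgn
  rw [sign_of_cycleType, hk] at hs
  have hsum : α.cycleType.sum = α.support.card := sum_cycleType α
  rw [hk] at hsum
  simp only [Multiset.sum_replicate, smul_eq_mul, Multiset.card_replicate] at hsum hs
  rw [← hsum]
  have heven : Even (k + 1) := by
    have := (neg_one_pow_eq_one_iff_even (R := ℤˣ) (by decide)).1 hs
    rcases this with ⟨j, hj⟩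
    exact ⟨j - (k + 1), by omega⟩
  rcases Nat.lt_or_ge k 3 with hlt | hge
  · exfalso
    have : k + 1 = 2 := by obtain ⟨j, hj⟩ := heven; omega
    refine D.z_ne ((hα.double_sq ?_).symm.trans ha)
    rw [hk, this]; rfl
  · omega

end CfsgLib.DoubleAlt
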