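import Cfsg.Agent.DoubleAlt.QData
import Mathlib.GroupTheory.Sylow
import Mathlib.Algebra.Polynomial.Roots
import Mathlib.RingTheory.IntegralDomain
import Mathlib.Algebra.Field.ZMod

/-!
# The large Sylow subgroups of the quotient group
-/

set_option autoImplicit false
set_option linter.style.haveILetI false
set_option linter.unusedSectionVars false

namespace CfsgLib.DoubleAlt

open Polynomial

variable {X : Type*} [Group X] [Finite X] {z : X} {m J : ℕ}

theorem card_cube_roots (p : ℕ) [Fact p.Prime] : Nat.card {k : ZMod p // k ^ 3 = 1} ≤ 3 := by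
  classical
  have h : ∀ k : ZMod p, k ^ 3 = 1 → k ∈ (nthRoots 3 (1 : ZMod p)).toFinset := fun k hk => by
    rw [Multiset.mem_toFinset, mem_nthRoots (by decide)]; exact hk
  calc Nat.card {k : ZMod p // k ^ 3 = 1}
      ≤ Nat.card {k : ZMod p // k ∈ (nthRoots 3 (1 : ZMod p)).toFinset} :=
        Nat.card_le_card_of_injective (fun k => ⟨k.1, h k.1 k.2⟩) fun a b e => Subtype.ext (congrArg (fun w => w.1) e)
    _ = (nthRoots 3 (1 : ZMod p)).toFinset.card := Nat.card_eq_finsetCard _
    _ ≤ Multiset.card (nthRoots 3 (1 : ZMod p)) := Multiset.toFinset_card_le _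
    _ ≤ 3 := card_nthRoots 3 1

/-- A prime dividing the index once whose Sylow normalizer has order divisible by nine is impossible. -/
theorem QData.false_of_prime (Q : QData z m J) {p : ℕ} [Fact p.Prime]
    (hpm : ¬ p ∣ m) (hp : p ∣ (Subgroup.centralizer ({z} : Set X)).index)
    (hp2 : ¬ p * p ∣ Nat.card X) (h3 : ¬ 3 ∣ (Subgroup.centralizer ({z} : Set X)).index)
    (hdiv : ∀ d, d * p ∣ Nat.card X → d % p = 1 → 9 ∣ Nat.card X / d) : False := by
  classical
  haveI : Fact (Nat.Prime 3) := ⟨Nat.prime_three⟩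
  set C := Subgroup.centralizer ({z} : Set X) with hC
  have hcard : Nat.card X = C.index * m := by rw [← Q.card_C, C.index_mul_card]
  obtain ⟨P⟩ := (inferInstance : Nonempty (Sylow p X))
  obtain ⟨x0, hx0⟩ := exists_prime_orderOf_dvd_card' p (hcard ▸ dvd_mul_of_dvd_left hp m : p ∣ Nat.card X)
  have hPp : Nat.card (P : Subgroup X) = p := by
    obtain ⟨k, hk⟩ := IsPGroup.iff_card.1 P.2
    have h1 : p ∣ Nat.card (P : Subgroup X) := by
      rw [P.card_eq_multiplicity]
      refine dvd_pow_self p ?_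
      rw [← Nat.pos_iff_ne_zero]
      exact Nat.Prime.factorization_pos_of_dvd (Fact.out) Nat.card_pos.ne' (hcard ▸ dvd_mul_of_dvd_left hp m)
    rcases k with _ | _ | k
    · rw [hk, pow_zero, Nat.dvd_one] at h1
      exact absurd h1 (Fact.out : p.Prime).ne_one
    · rw [hk, pow_one]
    · refine absurd ((dvd_trans ⟨p ^ k, ?_⟩ (Subgroup.card_subgroup_dvd_card (P : Subgroup X)))) hp2
      rw [hk, pow_succ, pow_succ]; ring
  -- the normalizer
  set N := Subgroup.normalizer ((P : Subgroup X) : Set X) with hN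
  have hidx : N.index = Nat.card (Sylow p X) := (P.card_eq_index_normalizer).symm
  have h9 : 9 ∣ Nat.card N := by
    have e : Nat.card N = Nat.card X / N.index := by
      rw [← N.index_mul_card, Nat.mul_div_cancel_left _ (Nat.pos_of_ne_zero N.index_ne_zero_of_finite)]
    rw [e]
    refine hdiv _ ?_ ?_
    · rw [← N.index_mul_card]
      refine mul_dvd_mul_left _ ?_
      rw [← hPp]
      exact Subgroup.card_dvd_of_le Subgroup.le_normalizer
    · have h := card_sylow_modEq_one p X
      rw [hidx]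
      unfold Nat.ModEq at h
      rwa [Nat.mod_eq_of_lt (Fact.out : p.Prime).one_lt] at h
  obtain ⟨R, hR⟩ := Sylow.exists_subgroup_card_pow_prime 3 (G := N) (n := 2) (by simpa using h9)
  -- elements of `R` have order dividing three and are conjugate into the centralizer
  have hS : ∀ r : X, r ^ 9 = 1 → r ≠ 1 → ∃ g, Commute (g * r * g⁻¹) z ∧ r ^ 3 = 1 := by
    intro r hr hr1
    have hrp : IsPGroup 3 (Subgroup.zpowers r) := by
      rintro ⟨w, k, rfl⟩
      refine ⟨2, Subtype.ext ?_⟩
      show (r ^ k) ^ 3 ^ 2 = 1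
      rw [← zpow_natCast, ← zpow_mul, mul_comm, zpow_mul, zpow_natCast, show (3 : ℕ) ^ 2 = 9 from rfl, hr, one_zpow]
    obtain ⟨S, hS⟩ := hrp.exists_le_sylow
    obtain ⟨S0⟩ := (inferInstance : Nonempty (Sylow 3 C))
    have h0 : IsPGroup 3 ((S0 : Subgroup C).map C.subtype) := S0.2.map _
    obtain ⟨S1, hS1⟩ := h0.exists_le_sylow
    have hle : (S1 : Subgroup X) ≤ C := by
      have hc1 : Nat.card ((S0 : Subgroup C).map C.subtype) = Nat.card (S1 : Subgroup X) := by
        rw [Subgroup.card_map_of_injective C.subtype_injective, S0.card_eq_multiplicity, S1.card_eq_multiplicity,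
          Q.card_C, hcard, Nat.factorization_mul C.index_ne_zero_of_finite (by
            rw [← Q.card_C]; exact Nat.card_pos.ne'), Finsupp.add_apply, Nat.factorization_eq_zero_of_not_dvd h3,
          zero_add]
      rw [← Subgroup.eq_of_le_of_card_ge hS1 hc1.ge]
      exact Subgroup.map_subtype_le _
    obtain ⟨g, hg⟩ := MulAction.exists_smul_eq X S S1
    have hmem : g * r * g⁻¹ ∈ (S1 : Subgroup X) := by
      rw [← hg]; exact ⟨r, hS (Subgroup.mem_zpowers r), rfl⟩
    have hc := Subgroup.mem_centralizer_singleton_iff.1 (hle hmem)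
    refine ⟨g, hc, ?_⟩
    have h := Q.exp3 _ hc (by rw [conj_pow, hr, mul_one, mul_inv_cancel])
    rwa [conj_pow, conj_eq_one_iff] at h
  have hR9 : ∀ r : R, ((r : N) : X) ^ 9 = 1 := fun r => by
    have h : r ^ Nat.card R = 1 := pow_card_eq_one'
    rw [hR] at h
    simpa using congrArg (fun w : R => ((w : N) : X)) h
  obtain ⟨x, hxP, hx⟩ : ∃ x ∈ (P : Subgroup X), orderOf x = p := by
    obtain ⟨x, hx⟩ := exists_prime_orderOf_dvd_card' p (dvd_of_eq hPp.symm)
    exact ⟨x, x.2, (Subgroup.orderOf_coe x).trans hx⟩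
  have hPx : (P : Subgroup X) = Subgroup.zpowers x :=
    (Subgroup.eq_of_le_of_card_ge (Subgroup.zpowers_le.2 hxP) (by rw [Nat.card_zpowers, hx, hPp])).symm
  have hact : ∀ r : R, ∃ k : ZMod p, ((r : N) : X) * x * ((r : N) : X)⁻¹ = x ^ k.val := by
    intro r
    have h := (Subgroup.mem_normalizer_iff.1 (r : N).2 x).1 hxP
    rw [hPx] at h
    obtain ⟨j, hj⟩ := h
    refine ⟨(j : ZMod p), ?_⟩
    rw [← hj]
    show x ^ j = x ^ ((j : ZMod p)).val
    rw [← zpow_natCast]
    refine zpow_eq_zpow_iff_modEq.2 ?_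
    rw [hx]
    exact (ZMod.intCast_eq_intCast_iff _ _ _).1 (by simp)
  choose f hf using hact
  have hf3 : ∀ r : R, f r ^ 3 = 1 := by
    intro r
    have hr3 : ((r : N) : X) ^ 3 = 1 := by
      by_cases h1 : ((r : N) : X) = 1
      · rw [h1, one_pow]
      · exact (hS _ (hR9 r) h1).choose_spec.2
    set u := ((r : N) : X) with hu
    have key : x ^ ((f r).val * ((f r).val * (f r).val)) = x ^ 1 := by
      rw [pow_mul, ← hf r, conj_pow, pow_mul, ← hf r, conj_pow, ← hf r, pow_one]
      rw [show u * (u * (u * x * u⁻¹) * u⁻¹) * u⁻¹ = (u * u * u) * x * (u * u * u)⁻¹ by group,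
        show u * u * u = 1 by rw [← _root_.sq, ← pow_succ]; exact hr3]
      group
    rw [pow_eq_pow_iff_modEq, hx, ← ZMod.natCast_eq_natCast_iff] at key
    simp only [Nat.cast_mul, ZMod.natCast_val, ZMod.cast_id', id_eq, Nat.cast_one] at key
    rw [← key]; ring
  -- two elements act in the same way
  obtain ⟨r, r', hne, hff⟩ : ∃ r r' : R, r ≠ r' ∧ f r = f r' := by
    by_contra hno
    push Not at hno
    have := Nat.card_le_card_of_injective (fun r : R => (⟨f r, hf3 r⟩ : {k : ZMod p // k ^ 3 = 1}))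
      fun r r' e => by
        by_contra hne
        exact hno r r' hne (congrArg Subtype.val e)
    have := card_cube_roots p
    rw [hR] at *
    omega
  set u := (((r'⁻¹ * r : R) : N) : X) with hu
  have hu1 : u ≠ 1 := fun h => hne (inv_mul_eq_one.1 (Subtype.ext (Subtype.ext h))).symm
  obtain ⟨g, hg, hu3⟩ := hS u (hR9 _) hu1
  have hux : Commute u x := by
    refine mul_inv_eq_iff_eq_mul.1 ?_
    have e : u = ((r' : N) : X)⁻¹ * ((r : N) : X) := rfl
    rw [e, show ((r' : N) : X)⁻¹ * ((r : N) : X) * x * (((r' : N) : X)⁻¹ * ((r : N) : X))⁻¹ =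
      ((r' : N) : X)⁻¹ * (((r : N) : X) * x * ((r : N) : X)⁻¹) * ((r' : N) : X) by group, hf r, hff, ← hf r']
    group
  have ho : orderOf (g * u * g⁻¹) = 3 := orderOf_eq_prime (by rw [conj_pow, hu3, mul_one, mul_inv_cancel])
    fun h => hu1 (conj_eq_one_iff.1 h)
  have hxz := Q.three _ _ (g * x * g⁻¹) ho hg hg (by
    calc g * x * g⁻¹ * (g * u * g⁻¹) * (g * x * g⁻¹)⁻¹ = g * (x * u) * x⁻¹ * g⁻¹ := by group
      _ = g * u * g⁻¹ := by rw [← hux.eq]; group)
  refine hpm ?_
  rw [← Q.card_C, ← hx]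
  have := Subgroup.orderOf_dvd_natCard C (Subgroup.mem_centralizer_singleton_iff.2 hxz.eq)
  rwa [show g * x * g⁻¹ = MulAut.conj g x from rfl, MulEquiv.orderOf_eq] at this

/-- Index 703 is impossible. -/
theorem QData.ne_703 (Q : QData z 36 J) : (Subgroup.centralizer ({z} : Set X)).index ≠ 703 := by
  intro h
  have hX : Nat.card X = 703 * 36 := by rw [← h, ← Q.card_C, Subgroup.index_mul_card]
  haveI : Fact (Nat.Prime 37) := ⟨by decide⟩
  refine Q.false_of_prime (p := 37) (by decide) (by rw [h]; decide) (by rw [hX]; decide) (by rw [h]; decide) ?_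
  rw [hX]
  intro d hd hd1
  have hd' : d ∣ 684 := Nat.dvd_of_mul_dvd_mul_right (by decide : 0 < 37) (by simpa using hd)
  have : d ∈ Nat.divisors 684 := Nat.mem_divisors.2 ⟨hd', by decide⟩
  revert hd1
  have key : ∀ d ∈ Nat.divisors 684, d % 37 = 1 → 9 ∣ 703 * 36 / d := by decide +kernel
  exact key d this

/-- Index 2701 is impossible. -/
theorem QData.ne_2701 (Q : QData z 144 J) : (Subgroup.centralizer ({z} : Set X)).index ≠ 2701 := by
  intro h
  have hX : Nat.card X = 2701 * 144 := by rw [← h, ← Q.card_C, Subgroup.index_mul_card]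
  haveI : Fact (Nat.Prime 73) := ⟨by decide +kernel⟩
  refine Q.false_of_prime (p := 73) (by decide) (by rw [h]; decide) (by rw [hX]; decide) (by rw [h]; decide) ?_
  rw [hX]
  intro d hd hd1
  have hd' : d ∣ 5328 := Nat.dvd_of_mul_dvd_mul_right (by decide : 0 < 73) (by simpa using hd)
  have : d ∈ Nat.divisors 5328 := Nat.mem_divisors.2 ⟨hd', by decide⟩
  revert hd1
  have key : ∀ d ∈ Nat.divisors 5328, d % 73 = 1 → 9 ∣ 2701 * 144 / d := by decide +kernel
  exact key d this

end CfsgLib.DoubleAlt
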