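import Cfsg.Agent.DoubleAlt.Fusion
import Mathlib.GroupTheory.SpecificGroups.Alternating.Simple

/-!
# Degree at least twelve

A property of a central involution `w` of the centralizer of a commuting pair `z`, `a` which
holds for `z` and fails for `a`; so the two involutions cannot be conjugate.
-/

set_option autoImplicit false
set_option linter.style.haveILetI false
set_option linter.unusedSectionVars false

namespace CfsgLib.DoubleAlt

open Equiv Equiv.Perm
open scoped commutatorElement

variable {G : Type*} [Group G] [Finite G] {n : ℕ} {z a : G} {α : Perm (Fin n)}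

/-- A 2-subgroup invariant under `K` has derived group generated by `w`. -/
def Prop1 (K : Subgroup G) (w : G) : Prop :=
  ∃ N : Subgroup G, N ≤ K ∧ (∀ k ∈ K, ∀ x ∈ N, k * x * k⁻¹ ∈ N) ∧ IsPGroup 2 N ∧
    (∀ x ∈ N, ∀ y ∈ N, ⁅x, y⁆ = 1 ∨ ⁅x, y⁆ = w) ∧ ∃ x ∈ N, ∃ y ∈ N, ⁅x, y⁆ = w

/-- `w` lies in every invariant non-abelian subgroup with an element of order three. -/
def Prop2 (K : Subgroup G) (w : G) : Prop :=
  ∀ N : Subgroup G, N ≤ K → (∀ k ∈ K, ∀ x ∈ N, k * x * k⁻¹ ∈ N) →
    (∃ x ∈ N, ∃ y ∈ N, ¬ Commute x y) → (∃ e ∈ N, orderOf e = 3) → w ∈ N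

theorem Prop1.map {K : Subgroup G} {w : G} (h : Prop1 K w) (φ : G ≃* G) :
    Prop1 (K.map φ.toMonoidHom) (φ w) := by
  obtain ⟨N, h1, h2, h3, h4, x, hx, y, hy, hxy⟩ := h
  refine ⟨N.map φ.toMonoidHom, Subgroup.map_mono h1, ?_, h3.map _, ?_, φ x, ⟨x, hx, rfl⟩, φ y, ⟨y, hy, rfl⟩,
    by rw [← hxy, map_commutatorElement]⟩
  · rintro _ ⟨k, hk, rfl⟩ _ ⟨x, hx, rfl⟩
    exact ⟨k * x * k⁻¹, h2 k hk x hx, by simp⟩
  · rintro _ ⟨x, hx, rfl⟩ _ ⟨y, hy, rfl⟩
    rw [← map_commutatorElement]
    rcases h4 x hx y hy with e | e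
    · exact Or.inl (by rw [e, map_one])
    · exact Or.inr (by rw [e]; rfl)

theorem Prop2.map {K : Subgroup G} {w : G} (h : Prop2 K w) (φ : G ≃* G) :
    Prop2 (K.map φ.toMonoidHom) (φ w) := by
  intro N h1 h2 h3 h4
  obtain ⟨x, hx, y, hy, hxy⟩ := h3
  obtain ⟨e, he, he3⟩ := h4
  have := h (N.comap φ.toMonoidHom) ?_ ?_ ?_ ?_
  · exact this
  · intro t ht
    obtain ⟨k, hk, hkt⟩ := h1 ht
    rwa [← φ.injective hkt]
  · intro k hk t ht
    show φ (k * t * k⁻¹) ∈ N
    simpa using h2 _ ⟨k, hk, rfl⟩ _ ht
  · exact ⟨φ.symm x, by simpa using hx, φ.symm y, by simpa using hy, fun hc => hxy (by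
      simpa using hc.map φ.toMonoidHom)⟩
  · exact ⟨φ.symm e, by simpa using he, by rw [MulEquiv.orderOf_eq, he3]⟩

/-- The configuration. -/
structure Pair (D : Data z n) (a : G) (α : Perm (Fin n)) : Prop where
  img : D.Img a α
  sq : α * α = 1
  ne : α ≠ 1
  big : 8 ≤ α.support.card
  ne_one : a ≠ 1
  ne_z : a ≠ z

/-- The centralizer of `z` and `a`. -/
def cK (z a : G) : Subgroup G := Subgroup.centralizer ({z, a} : Set G)

theorem mem_cK {g : G} : g ∈ cK z a ↔ Commute g z ∧ Commute g a := by
  refine Subgroup.mem_centralizer_iff.trans ⟨fun h => ⟨(h z (by simp)).symm, (h a (by simp)).symm⟩, ?_⟩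
  rintro ⟨h1, h2⟩ x (rfl | rfl)
  exacts [h1.symm, h2.symm]

namespace Pair

variable {D : Data z n}

theorem lift_mem (P : Pair D a α) {g : G} (hc : Commute g z) (ha : Commute g a) :
    ∃ π, D.Img g π ∧ Commute π α := by
  obtain ⟨π, hπ⟩ := D.img_of_comm hc
  exact ⟨π, hπ, (hπ.mul P.img).unique (ha.eq ▸ P.img.mul hπ)⟩

theorem img_comm (P : Pair D a α) {g : G} (hg : g ∈ cK z a) {π : Perm (Fin n)} (h : D.Img g π) :
    Commute π α :=
  (h.mul P.img).unique ((mem_cK.1 hg).2.eq ▸ P.img.mul h)

/-- Permutations of odd order commuting with the involution lift into `cK`. -/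
theorem exists_odd (P : Pair D a α) {π : Perm (Fin n)} (hπ : Commute π α) (hs : sign π = 1)
    (hodd : Odd (orderOf π)) : ∃ g ∈ cK z a, D.Img g π ∧ g ^ orderOf π = 1 := by
  obtain ⟨g, hg, hpow⟩ := D.exists_odd_lift hs hodd
  exact ⟨g, mem_cK.2 ⟨hg.comm, hg.odd_comm P.img hπ (hodd.of_dvd_nat (orderOf_dvd_of_pow_eq_one hpow))⟩,
    hg, hpow⟩

/-- Even permutations off the support lift into `cK`. -/
theorem rest_mem (P : Pair D a α) {g : G} {π : Perm (Fin n)} (hg : D.Img g π)
    (hπ : ∀ x, α x ≠ x → π x = x) : g ∈ cK z a :=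
  mem_cK.2 ⟨hg.comm, (P.img.off hg hπ).symm⟩

/-- Flips of two blocks lift into `cK`. -/
theorem flip_mem (P : Pair D a α) {i j : Fin n} (h : Sep α i j) {g : G} (hg : D.Img g (flp α i j)) :
    g ∈ cK z a := by
  refine mem_cK.2 ⟨hg.comm, hg.commute_of_disjoint D P.img fun x hx => ?_⟩
  rw [flp_inv P.sq h]
  exact flp_rest P.sq h hx

theorem exists_three (P : Pair D a α) :
    ∃ i j l, Sep α i j ∧ Sep α j l ∧ Sep α i l := by
  classical
  have h8 := P.big
  have hmem : ∀ x, x ∈ α.support ↔ α x ≠ x := fun x => mem_support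
  obtain ⟨i, hi⟩ := Finset.card_pos.1 (show 0 < α.support.card by omega)
  obtain ⟨j, hj⟩ := Finset.card_pos.1 (show 0 < (α.support \ {i, α i}).card by
    have := Finset.le_card_sdiff {i, α i} α.support
    have := Finset.card_le_two (a := i) (b := α i)
    omega)
  obtain ⟨l, hl⟩ := Finset.card_pos.1 (show 0 < (α.support \ {i, α i, j, α j}).card by
    have := Finset.le_card_sdiff {i, α i, j, α j} α.support
    have : ({i, α i, j, α j} : Finset (Fin n)).card ≤ 4 := Finset.card_le_four
    omega)
  simp only [Finset.mem_sdiff, Finset.mem_insert, Finset.mem_singleton, hmem, not_or] at hi hj hl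
  exact ⟨i, j, l, ⟨hi, hj.1, hj.2.1, hj.2.2⟩, ⟨hj.1, hl.1, hl.2.2.2.1, hl.2.2.2.2⟩,
    ⟨hi, hl.1, hl.2.1, hl.2.2.1⟩⟩

theorem comm_mem {N : Subgroup G} (hN : ∀ k ∈ cK z a, ∀ x ∈ N, k * x * k⁻¹ ∈ N) {x k : G} (hx : x ∈ N)
    (hk : k ∈ cK z a) : x * k * x⁻¹ * k⁻¹ ∈ N := by
  have := mul_mem hx (hN k hk _ (inv_mem hx))
  simpa [mul_assoc] using this

theorem commutator_eq {x y : G} {π π' : Perm (Fin n)} (hx : D.Img x π) (hy : D.Img y π')
    (h : Commute π π') : ⁅x, y⁆ = 1 ∨ ⁅x, y⁆ = z := by
  refine Data.Img.eq_one (D := D) ?_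
  rw [commutatorElement_def]
  have := ((hx.mul hy).mul hx.inv).mul hy.inv
  rwa [h.eq, mul_inv_cancel_right, mul_inv_cancel] at this

/-- `z` has the first property. -/
theorem prop1_z (P : Pair D a α) : Prop1 (cK z a) z := by
  classical
  have hα := P.sq
  let N : Subgroup G :=
    { carrier := {g | g ∈ cK z a ∧ ∃ π, D.Img g π ∧ ∀ x, π x = x ∨ π x = α x}
      one_mem' := ⟨one_mem _, 1, D.img_one, fun _ => Or.inl rfl⟩
      mul_mem' := fun {g h} ⟨hg, π, hπ, hb⟩ ⟨hh, π', hπ', hb'⟩ => ⟨mul_mem hg hh, π * π', hπ.mul hπ', fun x => by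
        have hc : π (α x) = α (π x) := by
          rw [← Perm.mul_apply, (P.img_comm hg hπ).eq, Perm.mul_apply]
        rcases hb' x with e | e <;> rcases hb x with e' | e' <;>
          simp [Perm.mul_apply, e, e', hc, sq_apply hα]⟩
      inv_mem' := fun {g} ⟨hg, π, hπ, hb⟩ => ⟨inv_mem hg, π⁻¹, hπ.inv, fun x => by
        have hc : π (α x) = α (π x) := by
          rw [← Perm.mul_apply, (P.img_comm hg hπ).eq, Perm.mul_apply]
        rcases hb x with e | e
        · exact Or.inl (by rw [Perm.inv_def, Equiv.symm_apply_eq]; exact e.symm)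
        · exact Or.inr (by rw [Perm.inv_def, Equiv.symm_apply_eq, hc, e, sq_apply hα])⟩ }
  have hcomm : ∀ {π π' : Perm (Fin n)}, Commute π α → Commute π' α →
      (∀ x, π x = x ∨ π x = α x) → (∀ x, π' x = x ∨ π' x = α x) → Commute π π' := by
    intro π π' h h' hb hb'
    refine Equiv.ext fun x => ?_
    have hc : π (α x) = α (π x) := by rw [← Perm.mul_apply, h.eq, Perm.mul_apply]
    have hc' : π' (α x) = α (π' x) := by rw [← Perm.mul_apply, h'.eq, Perm.mul_apply]
    rcases hb' x with e | e <;> rcases hb x with e' | e' <;>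
      simp [Perm.mul_apply, e, e', hc, hc', sq_apply hα]
  refine ⟨N, fun g hg => hg.1, ?_, ?_, ?_, ?_⟩
  · rintro k hk x ⟨hx, π, hπ, hb⟩
    obtain ⟨σ, hσ, hσc⟩ := P.lift_mem (mem_cK.1 hk).1 (mem_cK.1 hk).2
    refine ⟨mul_mem (mul_mem hk hx) (inv_mem hk), _, hσ.conj hπ, fun w => ?_⟩
    obtain ⟨w, rfl⟩ := σ.surjective w
    rw [Perm.mul_apply, Perm.mul_apply, Perm.inv_def, Equiv.symm_apply_apply]
    rcases hb w with e | e
    · exact Or.inl (by rw [e])
    · exact Or.inr (by rw [e, ← Perm.mul_apply, hσc.eq, Perm.mul_apply])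
  · rintro ⟨g, hg, π, hπ, hb⟩
    refine ⟨2, Subtype.ext ?_⟩
    show g ^ 2 ^ 2 = 1
    have h2 : π * π = 1 := Equiv.ext fun x => by
      have hc : π (α x) = α (π x) := by
        rw [← Perm.mul_apply, (P.img_comm hg hπ).eq, Perm.mul_apply]
      rcases hb x with e | e <;> simp [Perm.mul_apply, e, hc, sq_apply hα]
    rw [show (2 : ℕ) ^ 2 = 2 + 2 from rfl, pow_add, pow_two]
    rcases (h2 ▸ hπ.mul hπ : D.Img (g * g) 1).eq_one with e | e <;> simp [e, D.z_sq]
  · rintro x ⟨hx, π, hπ, hb⟩ y ⟨hy, π', hπ', hb'⟩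
    exact commutator_eq hπ hπ' (hcomm (P.img_comm hx hπ) (P.img_comm hy hπ') hb hb')
  · obtain ⟨i, j, l, hij, hjl, hil⟩ := P.exists_three
    obtain ⟨g, hg⟩ := D.exists_img (flp_type hα hjl).2
    obtain ⟨h, hh⟩ := D.exists_img (flp_type hα hij).2
    refine ⟨g, ⟨P.flip_mem hjl hg, _, hg, flp_apply hα j l⟩, h, ⟨P.flip_mem hij hh, _, hh, flp_apply hα i j⟩, ?_⟩
    have := hg.anti hh (flp_type hα hjl).1 (flp_type hα hij).1
      (by rw [flp_mul hα hij hjl hil]; exact (flp_type hα hil).1)
    rw [commutatorElement_def, this]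
    group

/-- A block-preserving element flipping one block and fixing another. -/
theorem z_mem_mixed (P : Pair D a α) {N : Subgroup G} (hN : ∀ k ∈ cK z a, ∀ x ∈ N, k * x * k⁻¹ ∈ N) {x : G}
    (hx : x ∈ N) {π : Perm (Fin n)} (hπ : D.Img x π) (hc : Commute π α)
    (hb : ∀ w, α w ≠ w → π w = w ∨ π w = α w) {i j l : Fin n} (hij : Sep α i j) (hjl : Sep α j l)
    (hil : Sep α i l) (hi : π i = α i) (hj : π j = j) : z ∈ N := by
  have ho := rot_order P.sq hij hjl hil
  obtain ⟨k, hk, hkπ, -⟩ := P.exists_odd (rot_comm P.sq hij hjl hil) ho.2 (by rw [ho.1]; decide)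
  have hmem := comm_mem hN hx hk
  have himg := (hπ.conj hkπ).mul hkπ.inv
  rw [comm_rot P.sq hc hb hij hjl hil hi hj] at himg
  rw [← himg.double_sq (by split_ifs; exacts [(flp_type P.sq hij).1, (flp_type P.sq hjl).1])]
  exact mul_mem hmem hmem

/-- `z` has the second property in degree at least twelve. -/
theorem prop2_z (P : Pair D a α) (hn : 12 ≤ n) : Prop2 (cK z a) z := by
  classical
  intro N hle hN ⟨x₀, hx₀, y₀, hy₀, hxy⟩ ⟨e, he, he3⟩
  by_contra hzN
  have hα := P.sq
  have hfix : ∀ {π : Perm (Fin n)}, Commute π α → ∀ x, α (π x) = π (α x) := fun h x => by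
    rw [← Perm.mul_apply, ← h.eq, Perm.mul_apply]
  have hno : ∀ g ∈ N, ∀ π, D.Img g π → π.cycleType ≠ {2, 2} := fun g hg π hπ ht =>
    hzN (hπ.double_sq ht ▸ mul_mem hg hg)
  have hflip : ∀ g ∈ N, ∀ π, D.Img g π → Commute π α → ∀ {i j}, Sep α i j →
      (flp α (π i) (π j) * flp α i j).cycleType ≠ {2, 2} := by
    intro g hg π hπ hc i j hij
    obtain ⟨u, hu⟩ := D.exists_img (flp_type hα hij).2
    have := hno _ (comm_mem hN hg (P.flip_mem hij hu)) _ ((hπ.conj hu).mul hu.inv)
    rwa [flp_conj hc, flp_inv hα hij] at this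
  -- every element acts on the blocks as an involution
  have hinv : ∀ g ∈ N, ∀ π, D.Img g π → ∀ i, α i ≠ i → π (π i) = i ∨ π (π i) = α i := by
    intro g hg π hπ i hi
    by_contra hne
    push Not at hne
    have hc := P.img_comm (hle hg) hπ
    have hii : Sep α i (π i) := by
      refine ⟨hi, fun h => hi (π.injective ?_), fun h => ?_, fun h => ?_⟩
      · rw [← hfix hc, h]
      · exact hne.1 (by rw [h, h])
      · exact hne.1 (by rw [h, ← hfix hc, h, sq_apply hα])
    have hiii : Sep α i (π (π i)) := by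
      refine ⟨hi, fun h => hi (π.injective (π.injective ?_)), hne.1, hne.2⟩
      rw [← hfix hc, ← hfix hc, h]
    exact hflip g hg π hπ hc hii (by rw [flp_mul hα hii (hii.map hc) hiii]; exact (flp_type hα hiii).1)
  -- the element of order three fixes the moved points
  obtain ⟨ρ, hρ⟩ := D.img_of_comm (mem_cK.1 (hle he)).1
  have hρc := P.img_comm (hle he) hρ
  have hρ3 : ρ * ρ * ρ = 1 := by
    have h := hρ.pow 3
    rw [show e ^ 3 = 1 from he3 ▸ pow_orderOf_eq_one e, pow_succ, _root_.sq] at h
    exact h.unique D.img_one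
  have hρ1 : ρ ≠ 1 := fun h => by
    rcases (h ▸ hρ : D.Img e 1).eq_one with rfl | rfl
    · rw [orderOf_one] at he3; omega
    · rw [D.hz] at he3; omega
  have h3 : ∀ x, ρ (ρ (ρ x)) = x := fun x => by
    rw [← Perm.mul_apply, ← Perm.mul_apply, hρ3, Perm.one_apply]
  have hρfix : ∀ i, α i ≠ i → ρ i = i := by
    intro i hi
    rcases hinv e he ρ hρ i hi with h | h
    · have := h3 i
      rwa [h] at this
    · have h1 : ρ (α i) = i := by rw [← h]; exact h3 i
      have h2 : ρ i = α i := by
        have := congrArg α h1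
        rwa [hfix hρc, sq_apply hα] at this
      rw [h2, h1] at h
      exact absurd h.symm hi
  -- commutators with double transpositions off the support
  have hrest : ∀ {p q r s : Fin n}, α p = p → α q = q → α r = r → α s = s → p ≠ q → r ≠ s → p ≠ r →
      p ≠ s → q ≠ r → q ≠ s →
      (swap (ρ p) (ρ q) * swap (ρ r) (ρ s) * (swap p q * swap r s)⁻¹).cycleType ≠ {2, 2} := by
    intro p q r s hp hq hr hs h1 h2 h3 h4 h5 h6
    have hd := AltOre.double_cycleType h1 h2 h3 h4 h5 h6
    obtain ⟨u, hu⟩ := D.exists_img hd.2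
    have humem : u ∈ cK z a := P.rest_mem hu fun x hx => by
      have : x ≠ p ∧ x ≠ q ∧ x ≠ r ∧ x ≠ s :=
        ⟨fun h => hx (h ▸ hp), fun h => hx (h ▸ hq), fun h => hx (h ▸ hr), fun h => hx (h ▸ hs)⟩
      rw [Perm.mul_apply, swap_apply_of_ne_of_ne this.2.2.1 this.2.2.2, swap_apply_of_ne_of_ne this.1 this.2.1]
    have := hno _ (comm_mem hN he humem) _ ((hρ.conj hu).mul hu.inv)
    rwa [show ρ * (swap p q * swap r s) * ρ⁻¹ = swap (ρ p) (ρ q) * swap (ρ r) (ρ s) by
      rw [Equiv.swap_apply_apply, Equiv.swap_apply_apply]; group] at this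
  obtain ⟨p, hp⟩ : ∃ p, ρ p ≠ p := by
    by_contra h
    push Not at h
    exact hρ1 (Equiv.ext h)
  have hpα : α p = p := by
    by_contra h
    exact hp (hρfix p h)
  have hrα : ∀ x, α x = x → α (ρ x) = ρ x := fun x hx => by rw [hfix hρc, hx]
  have hqne : ρ (ρ p) ≠ p := fun h => hp (by have := h3 p; rwa [h] at this)
  have hqne' : ρ (ρ p) ≠ ρ p := fun h => hp (ρ.injective h)
  by_cases hr : 4 ≤ (Finset.univ.filter fun x => α x = x).card
  · obtain ⟨l, hl⟩ := Finset.card_pos.1
      (show 0 < ((Finset.univ.filter fun x => α x = x) \ {p, ρ p, ρ (ρ p)}).card by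
        have := Finset.le_card_sdiff {p, ρ p, ρ (ρ p)} (Finset.univ.filter fun x => α x = x)
        have : ({p, ρ p, ρ (ρ p)} : Finset (Fin n)).card ≤ 3 := Finset.card_le_three
        omega)
    simp only [Finset.mem_sdiff, Finset.mem_filter, Finset.mem_univ, true_and, Finset.mem_insert,
      Finset.mem_singleton, not_or] at hl
    obtain ⟨hlα, hl1, hl2, hl3⟩ := hl
    by_cases hll : ρ l = l
    · -- a fixed point
      refine hrest hpα (hrα _ hpα) (hrα _ (hrα _ hpα)) hlα hp.symm (Ne.symm hl3) hqne.symm (Ne.symm hl1)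
        hqne'.symm (Ne.symm hl2) ?_
      rw [h3, hll]
      have e : swap (ρ p) (ρ (ρ p)) * swap p l * (swap p (ρ p) * swap (ρ (ρ p)) l)⁻¹ =
          swap p (ρ (ρ p)) * swap (ρ p) l := by
        refine Equiv.ext fun x => ?_
        rw [mul_inv_rev, swap_inv, swap_inv]
        have := hqne.symm
        have := hqne'.symm
        have := hp.symm
        have := Ne.symm hl1
        have := Ne.symm hl2
        have := Ne.symm hl3
        generalize ρ (ρ p) = q at *
        generalize ρ p = r at *
        by_cases x1 : x = p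
        · subst x1; simp (discharger := assumption) only [Perm.mul_apply, swap_apply_left, swap_apply_right,
            swap_apply_of_ne_of_ne]
        by_cases x2 : x = r
        · subst x2; simp (discharger := assumption) only [Perm.mul_apply, swap_apply_left, swap_apply_right,
            swap_apply_of_ne_of_ne]
        by_cases x3 : x = q
        · subst x3; simp (discharger := assumption) only [Perm.mul_apply, swap_apply_left, swap_apply_right,
            swap_apply_of_ne_of_ne]
        by_cases x4 : x = l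
        · subst x4; simp (discharger := assumption) only [Perm.mul_apply, swap_apply_left, swap_apply_right,
            swap_apply_of_ne_of_ne]
        simp (discharger := assumption) only [Perm.mul_apply, swap_apply_of_ne_of_ne]
      rw [e]
      exact (AltOre.double_cycleType hqne.symm (Ne.symm hl2) hp.symm (Ne.symm hl1) hqne'
        (Ne.symm hl3)).1
    · -- a second cycle
      have hm1 : ρ l ≠ p := fun h => hl3 (ρ.injective (by rw [h, h3]))
      have hm2 : ρ l ≠ ρ p := fun h => hl1 (ρ.injective h)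
      have hm3 : ρ l ≠ ρ (ρ p) := fun h => hl2 (ρ.injective h)
      have ho1 : ρ (ρ l) ≠ p := fun h => hl2 (by rw [← h, h3])
      have ho2 : ρ (ρ l) ≠ ρ p := fun h => hl3 (by rw [← h3 l, h])
      have ho3 : ρ (ρ l) ≠ ρ (ρ p) := fun h => hl1 (ρ.injective (ρ.injective h))
      have hol : ρ (ρ l) ≠ l := fun h => hll (by have := h3 l; rwa [h] at this)
      have hom : ρ (ρ l) ≠ ρ l := fun h => hll (ρ.injective h)
      refine hrest hpα hlα (hrα _ hpα) (hrα _ hlα) (Ne.symm hl1) hm2.symm hp.symm hm1.symm hl2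
        (Ne.symm hll) ?_
      have e : swap (ρ p) (ρ l) * swap (ρ (ρ p)) (ρ (ρ l)) * (swap p l * swap (ρ p) (ρ l))⁻¹ =
          swap (ρ (ρ p)) (ρ (ρ l)) * swap p l := by
        have := hqne.symm
        have := hqne'.symm
        have := hp.symm
        have := Ne.symm hl1
        have := Ne.symm hl2
        have := Ne.symm hl3
        have := hm1.symm
        have := hm2.symm
        have := hm3.symm
        have := ho1.symm
        have := ho2.symm
        have := ho3.symm
        have := hol.symm
        have := hom.symm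
        have := Ne.symm hll
        refine Equiv.ext fun x => ?_
        rw [mul_inv_rev, swap_inv, swap_inv]
        generalize ρ (ρ p) = q at *
        generalize ρ (ρ l) = o at *
        generalize ρ p = r at *
        generalize ρ l = m at *
        by_cases x1 : x = p
        · subst x1; simp (discharger := assumption) only [Perm.mul_apply, swap_apply_left, swap_apply_right,
            swap_apply_of_ne_of_ne]
        by_cases x2 : x = l
        · subst x2; simp (discharger := assumption) only [Perm.mul_apply, swap_apply_left, swap_apply_right,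
            swap_apply_of_ne_of_ne]
        by_cases x3 : x = q
        · subst x3; simp (discharger := assumption) only [Perm.mul_apply, swap_apply_left, swap_apply_right,
            swap_apply_of_ne_of_ne]
        by_cases x4 : x = o
        · subst x4; simp (discharger := assumption) only [Perm.mul_apply, swap_apply_left, swap_apply_right,
            swap_apply_of_ne_of_ne]
        by_cases x5 : x = r
        · subst x5; simp (discharger := assumption) only [Perm.mul_apply, swap_apply_left, swap_apply_right,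
            swap_apply_of_ne_of_ne]
        by_cases x6 : x = m
        · subst x6; simp (discharger := assumption) only [Perm.mul_apply, swap_apply_left, swap_apply_right,
            swap_apply_of_ne_of_ne]
        simp (discharger := assumption) only [Perm.mul_apply, swap_apply_of_ne_of_ne]
      rw [e]
      exact (AltOre.double_cycleType ho3.symm (Ne.symm hl1) hqne (Ne.symm hl3) ho1 hol).1
  · -- at most three fixed points
    push Not at hr
    have hsupp : 9 ≤ α.support.card := by
      have h := Finset.card_filter_add_card_filter_not (s := (Finset.univ : Finset (Fin n)))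
        (fun x => α x = x)
      rw [show (Finset.univ.filter fun x => ¬ α x = x) = α.support from rfl, Finset.card_univ,
        Fintype.card_fin] at h
      omega
    have hpick : ∀ T : Finset (Fin n), T.card ≤ 8 → ∃ m, α m ≠ m ∧ m ∉ T := fun T hT => by
      obtain ⟨m, hm⟩ := Finset.card_pos.1 (show 0 < (α.support \ T).card by
        have := Finset.le_card_sdiff T α.support
        omega)
      exact ⟨m, mem_support.1 (Finset.mem_sdiff.1 hm).1, (Finset.mem_sdiff.1 hm).2⟩
    have hmixed : ∀ g ∈ N, ∀ π, D.Img g π → (∀ w, α w ≠ w → π w = w ∨ π w = α w) →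
        ∀ {i j}, Sep α i j → π i = α i → π j = j → False := by
      intro g hg π hπ hb i j hij hi hj
      obtain ⟨l, hl, hlT⟩ := hpick {i, α i, j, α j} (Finset.card_le_four.trans (by norm_num))
      simp only [Finset.mem_insert, Finset.mem_singleton, not_or] at hlT
      exact hzN (P.z_mem_mixed hN hg hπ (P.img_comm (hle hg) hπ) hb hij ⟨hij.2.1, hl, hlT.2.2.1, hlT.2.2.2⟩
        ⟨hij.1, hl, hlT.1, hlT.2.1⟩ hi hj)
    -- every element preserves the blocks
    have hpres : ∀ g ∈ N, ∀ π, D.Img g π → ∀ i, α i ≠ i → π i = i ∨ π i = α i := by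
      intro g hg π hπ i hi
      by_contra hne
      push Not at hne
      have hc := P.img_comm (hle hg) hπ
      have hii : Sep α i (π i) := ⟨hi, fun h => hi (π.injective (by rw [← hfix hc, h])), hne.1, hne.2⟩
      obtain ⟨l, hl, hlT⟩ := hpick {i, α i, π i, α (π i)} (Finset.card_le_four.trans (by norm_num))
      simp only [Finset.mem_insert, Finset.mem_singleton, not_or] at hlT
      have hil : Sep α i l := ⟨hi, hl, hlT.1, hlT.2.1⟩
      have hjl : Sep α (π i) l := ⟨hii.2.1, hl, hlT.2.2.1, hlT.2.2.2⟩
      have hswap : ∀ w, α w ≠ w → flp α (π w) (π (π w)) = flp α (π w) w := by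
        intro w hw
        rcases hinv g hg π hπ w hw with h | h <;> rw [h]
        rw [flp, flp, sq_apply hα, swap_comm (α w) w]
      by_cases hll : π l = l ∨ π l = α l
      · refine hflip g hg π hπ hc hil ?_
        have e : flp α (π i) (π l) = flp α (π i) l := by
          rcases hll with h | h <;> rw [h]
          rw [flp, flp, sq_apply hα, swap_comm (α l) l]
        rw [e, show flp α (π i) l = flp α l (π i) by
            rw [flp, flp]; exact commute_blocks hα hjl,
          show flp α i l = flp α l i by rw [flp, flp]; exact commute_blocks hα hil,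
          show flp α l i = flp α i l by rw [flp, flp]; exact (commute_blocks hα hil).symm,
          flp_mul hα hil (hjl.symm hα) hii]
        exact (flp_type hα hii).1
      · push Not at hll
        obtain ⟨u, hu⟩ := D.exists_img (flp_type hα hil).2
        have hmem := comm_mem hN hg (P.flip_mem hil hu)
        have himg := (hπ.conj hu).mul hu.inv
        rw [flp_conj hc, flp_inv hα hil] at himg
        obtain ⟨o, ho⟩ : ∃ o, o = π l := ⟨_, rfl⟩
        rw [← ho] at himg hll
        have hoi : o ≠ i ∧ o ≠ α i := by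
          refine ⟨fun h => ?_, fun h => ?_⟩ <;> rcases hinv g hg π hπ l hl with hl2 | hl2 <;>
            rw [← ho, h] at hl2
          · exact hlT.2.2.1 hl2.symm
          · exact hlT.2.2.2 (by rw [hl2, sq_apply hα])
          · exact hlT.2.2.2 (by rw [← hl2, ← hfix hc])
          · exact hlT.2.2.1 (by rw [← hfix hc] at hl2; exact (α.injective hl2).symm)
        have hjo : Sep α (π i) o := ho ▸ hil.map hc
        have hio : Sep α i o := ⟨hi, hjo.2.1, hoi.1, hoi.2⟩
        obtain ⟨m, hm, hmT⟩ := hpick {i, α i, π i, α (π i), l, α l, o, α o} (by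
          repeat (refine (Finset.card_insert_le _ _).trans (Nat.succ_le_succ ?_))
          exact le_of_eq (Finset.card_singleton _))
        simp only [Finset.mem_insert, Finset.mem_singleton, not_or] at hmT
        obtain ⟨m1, m2, m3, m4, m5, m6, m7, m8⟩ := hmT
        have hii' := hii.symm hα
        have hil' := hil.symm hα
        have hio' := hio.symm hα
        refine hmixed _ hmem _ himg (fun w hw => ?_) (i := i) (j := m) ⟨hi, hm, m1, m2⟩ ?_ ?_
        · have e1 := flp_apply hα (π i) o (flp α i l w)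
          rw [Perm.mul_apply]
          rcases flp_apply hα i l w with h | h <;> rw [h] at e1 ⊢ <;> rcases e1 with h' | h' <;>
            simp [h', sq_apply hα]
        · simp only [flp, Perm.mul_apply]
          rw [swap_apply_of_ne_of_ne (Ne.symm hlT.1)
              (fun h => hlT.2.1 (by rw [h, sq_apply hα])), swap_apply_left,
            swap_apply_of_ne_of_ne hoi.2.symm (fun h => hoi.1 (α.injective h).symm),
            swap_apply_of_ne_of_ne hne.2.symm (fun h => hne.1 (α.injective h).symm)]
        · simp only [flp, Perm.mul_apply]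
          rw [swap_apply_of_ne_of_ne m5 m6,
            swap_apply_of_ne_of_ne m1 m2, swap_apply_of_ne_of_ne m7 m8,
            swap_apply_of_ne_of_ne m3 m4]
    -- the images commute
    have hkey : ∀ g ∈ N, ∀ π, D.Img g π →
        (∀ w, α w ≠ w → π w = w) ∨ (∀ w, α w ≠ w → π w = α w) := by
      intro g hg π hπ
      by_contra hne
      push Not at hne
      obtain ⟨⟨i, hi, hi'⟩, j, hj, hj'⟩ := hne
      have hjj := (hpres g hg π hπ j hj).resolve_right hj'
      have hii := (hpres g hg π hπ i hi).resolve_left hi'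
      refine hmixed g hg π hπ (hpres g hg π hπ) ⟨hi, hj, fun h => ?_, fun h => ?_⟩ hii hjj
      · exact hi' (h ▸ hjj)
      · subst h
        have hc := P.img_comm (hle hg) hπ
        rw [← hfix hc, hii, sq_apply hα] at hjj
        exact hi hjj.symm
    have hA3 : ∀ {π π' : Perm (Fin n)}, (∀ w, α w ≠ w → π w = w) → (∀ w, α w ≠ w → π' w = w) →
        sign π = 1 → sign π' = 1 → Commute π π' := by
      intro π π' hπ hπ' hs hs'
      have hcard : Nat.card (alternatingGroup {x // α x = x}) ≤ 3 := by
        rcases subsingleton_or_nontrivial {x // α x = x} with hh | hh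
        · exact (Finite.card_le_one_iff_subsingleton.2 inferInstance).trans (by norm_num)
        · have h2 := two_mul_card_alternatingGroup (α := {x // α x = x})
          rw [← Nat.card_eq_fintype_card (α := Perm {x // α x = x}), Nat.card_perm] at h2
          have h3' : Nat.card {x // α x = x} ≤ 3 := by
            rw [Nat.card_eq_fintype_card, Fintype.card_subtype]; omega
          have h6 : (Nat.card {x // α x = x}).factorial ≤ 6 :=
            (Nat.factorial_le h3').trans (by decide)
          rw [Nat.card_eq_fintype_card]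
          omega
      have hcomm : IsMulCommutative (alternatingGroup {x // α x = x}) := by
        have hpos := Nat.card_pos (α := alternatingGroup {x // α x = x})
        obtain h | h | h : Nat.card (alternatingGroup {x // α x = x}) = 1 ∨
            Nat.card (alternatingGroup {x // α x = x}) = 2 ∨
            Nat.card (alternatingGroup {x // α x = x}) = 3 := by omega
        · haveI := (Nat.card_eq_one_iff_unique.1 h).1
          exact ⟨⟨fun a b => Subsingleton.elim _ _⟩⟩
        · haveI : Fact (Nat.Prime 2) := ⟨Nat.prime_two⟩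
          exact ⟨⟨fun a b => ((isCyclic_of_prime_card h).isMulCommutative.is_comm.comm a b)⟩⟩
        · haveI : Fact (Nat.Prime 3) := ⟨Nat.prime_three⟩
          exact ⟨⟨fun a b => ((isCyclic_of_prime_card h).isMulCommutative.is_comm.comm a b)⟩⟩
      have hmem : ∀ {τ : Perm (Fin n)}, (∀ w, α w ≠ w → τ w = w) → ∀ x, α (τ x) = τ x ↔ α x = x := by
        intro τ h x
        constructor
        · intro hx
          by_contra hne
          rw [h x hne] at hx
          exact hne hx
        · intro hx
          by_contra hne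
          have := τ.injective (h _ hne)
          exact hne (by rw [this]; exact hx)
      have e1 : ofSubtype (π.subtypePerm (p := fun x => α x = x) (hmem hπ)) = π :=
        ofSubtype_subtypePerm (hmem hπ) fun w hw => by by_contra h; exact hw (hπ w h)
      have e2 : ofSubtype (π'.subtypePerm (p := fun x => α x = x) (hmem hπ')) = π' :=
        ofSubtype_subtypePerm (hmem hπ') fun w hw => by by_contra h; exact hw (hπ' w h)
      have s1 : sign (π.subtypePerm (p := fun x => α x = x) (hmem hπ)) = 1 := by rw [← sign_ofSubtype, e1, hs]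
      have s2 : sign (π'.subtypePerm (p := fun x => α x = x) (hmem hπ')) = 1 := by rw [← sign_ofSubtype, e2, hs']
      have := congrArg Subtype.val (hcomm.is_comm.comm (⟨_, Perm.mem_alternatingGroup.2 s1⟩ :
        alternatingGroup {x // α x = x}) ⟨_, Perm.mem_alternatingGroup.2 s2⟩)
      rw [← e1, ← e2]
      exact (show Commute _ _ from this).map ofSubtype
    have hdec : ∀ g ∈ N, ∀ π, D.Img g π → ∃ τ, (π = τ ∨ π = α * τ) ∧ (∀ w, α w ≠ w → τ w = w) ∧
        sign τ = 1 ∧ Commute τ α := by
      intro g hg π hπ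
      have hc := P.img_comm (hle hg) hπ
      rcases hkey g hg π hπ with h | h
      · exact ⟨π, Or.inl rfl, h, hπ.sgn, hc⟩
      · refine ⟨α * π, Or.inr (by rw [← mul_assoc, hα, one_mul]), fun w hw => ?_,
          by rw [map_mul, P.img.sgn, hπ.sgn, one_mul], (Commute.refl α).mul_left hc⟩
        rw [Perm.mul_apply, h w hw, sq_apply hα]
    obtain ⟨π, hπ⟩ := D.img_of_comm (mem_cK.1 (hle hx₀)).1
    obtain ⟨π', hπ'⟩ := D.img_of_comm (mem_cK.1 (hle hy₀)).1
    obtain ⟨τ, hτe, hτ, hτs, hτc⟩ := hdec x₀ hx₀ π hπ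
    obtain ⟨τ', hτe', hτ', hτs', hτc'⟩ := hdec y₀ hy₀ π' hπ'
    have hcc : Commute π π' := by
      have h := hA3 hτ hτ' hτs hτs'
      rcases hτe with rfl | rfl <;> rcases hτe' with rfl | rfl
      · exact h
      · exact hτc.mul_right h
      · exact hτc'.symm.mul_left h
      · exact ((Commute.refl α).mul_right hτc'.symm).mul_left (hτc.mul_right h)
    rcases commutator_eq hπ hπ' hcc with h | h
    · exact hxy (commutatorElement_eq_one_iff_commute.1 h)
    · apply hzN
      rw [← h, commutatorElement_def]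
      exact mul_mem (mul_mem (mul_mem hx₀ hy₀) (inv_mem hx₀)) (inv_mem hy₀)

end Pair

end CfsgLib.DoubleAlt
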