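import Cfsg.Agent.DoubleAlt.Large

/-!
# The second involution of the pair lacks one of the two properties
-/

set_option autoImplicit false
set_option linter.style.haveILetI false
set_option linter.unusedSectionVars false

namespace CfsgLib.DoubleAlt

open Equiv Equiv.Perm
open scoped commutatorElement

section Blocks

variable {n : ℕ} {α : Perm (Fin n)}

/-- The representative of the block of `y`. -/
def rep (α : Perm (Fin n)) (y : Fin n) : Fin n := if y < α y then y else α y

theorem rep_lt (hα : α * α = 1) {y : Fin n} (hy : α y ≠ y) : rep α y < α (rep α y) := by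
  rw [rep]
  split_ifs with h
  · exact h
  · rw [sq_apply hα]; exact lt_of_le_of_ne (not_lt.1 h) hy

theorem rep_alpha (hα : α * α = 1) (y : Fin n) : rep α (α y) = rep α y := by
  simp only [rep, sq_apply hα]
  rcases lt_trichotomy (α y) y with h | h | h
  · rw [if_pos h, if_neg h.asymm]
  · simp [h]
  · rw [if_neg h.asymm, if_pos h]

theorem rep_of_lt {y : Fin n} (hy : y < α y) : rep α y = y := if_pos hy

theorem rep_or (y : Fin n) : rep α y = y ∨ rep α y = α y := by
  rw [rep]; split_ifs <;> simp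

theorem rep_conj (hα : α * α = 1) {π : Perm (Fin n)} (h : Commute π α) (y : Fin n) :
    rep α (π (rep α y)) = rep α (π y) := by
  rcases rep_or (α := α) y with e | e <;> rw [e]
  rw [← Perm.mul_apply, h.eq, Perm.mul_apply, rep_alpha hα]

theorem moved_map {π : Perm (Fin n)} (h : Commute π α) {y : Fin n} (hy : α y ≠ y) : α (π y) ≠ π y := by
  rw [← Perm.mul_apply, ← h.eq, Perm.mul_apply]
  exact fun e => hy (π.injective e)

/-- Blocks of an involution. -/
abbrev Blk (α : Perm (Fin n)) := {x : Fin n // x < α x}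

/-- The action of the centralizer on the blocks. -/
def blockHom (hα : α * α = 1) : Subgroup.centralizer ({α} : Set (Perm (Fin n))) →* Perm (Blk α) where
  toFun π :=
    { toFun := fun b => ⟨rep α ((π : Perm (Fin n)) b), rep_lt hα
        (moved_map (Subgroup.mem_centralizer_singleton_iff.1 π.2) b.2.ne')⟩
      invFun := fun b => ⟨rep α ((π : Perm (Fin n))⁻¹ b), rep_lt hα
        (moved_map (show Commute (π : Perm (Fin n)) α from Subgroup.mem_centralizer_singleton_iff.1 π.2).inv_left
          b.2.ne')⟩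
      left_inv := fun b => Subtype.ext (by
        show rep α ((π : Perm (Fin n))⁻¹ (rep α ((π : Perm (Fin n)) b))) = b
        rw [rep_conj hα (show Commute (π : Perm (Fin n)) α from
          Subgroup.mem_centralizer_singleton_iff.1 π.2).inv_left, ← Perm.mul_apply, inv_mul_cancel,
          Perm.one_apply, rep_of_lt b.2])
      right_inv := fun b => Subtype.ext (by
        show rep α ((π : Perm (Fin n)) (rep α ((π : Perm (Fin n))⁻¹ b))) = b
        rw [rep_conj hα (Subgroup.mem_centralizer_singleton_iff.1 π.2), ← Perm.mul_apply, mul_inv_cancel,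
          Perm.one_apply, rep_of_lt b.2]) }
  map_one' := Equiv.ext fun b => Subtype.ext (rep_of_lt b.2)
  map_mul' π π' := Equiv.ext fun b => Subtype.ext (by
    show rep α ((π : Perm (Fin n)) ((π' : Perm (Fin n)) b)) =
      rep α ((π : Perm (Fin n)) (rep α ((π' : Perm (Fin n)) b)))
    rw [rep_conj hα (Subgroup.mem_centralizer_singleton_iff.1 π.2)])

@[simp] theorem blockHom_apply (hα : α * α = 1) (π : Subgroup.centralizer ({α} : Set (Perm (Fin n))))
    (b : Blk α) : ((blockHom hα π b : Blk α) : Fin n) = rep α ((π : Perm (Fin n)) b) := rfl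

theorem five_le_blocks (hα : α * α = 1) (h : 9 ≤ α.support.card) : 5 ≤ Nat.card (Blk α) := by
  classical
  have hle : α.support ⊆ (Finset.univ.filter fun x => x < α x) ∪
      (Finset.univ.filter fun x => x < α x).image α := by
    intro x hx
    rw [mem_support] at hx
    rw [Finset.mem_union]
    rcases lt_or_gt_of_ne hx with h' | h'
    · refine Or.inr (Finset.mem_image.2 ⟨α x, ?_, sq_apply hα x⟩)
      simp [sq_apply hα, h']
    · exact Or.inl (by simp [h'])
  have h1 := (Finset.card_le_card hle).trans (Finset.card_union_le _ _)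
  have h2 := Finset.card_image_le (s := Finset.univ.filter fun x => x < α x) (f := α)
  rw [Nat.card_eq_fintype_card, Fintype.card_subtype]
  omega

end Blocks

variable {G : Type*} [Group G] [Finite G] {n : ℕ} {z a : G} {α : Perm (Fin n)}

/-- A 2-group of permutations of at least five points normalised by all three-cycles is trivial. -/
theorem eq_one_of_normalised {β : Type*} [Fintype β] [DecidableEq β] (hβ : 5 ≤ Nat.card β)
    (T : Subgroup (Perm β)) (hT : IsPGroup 2 T)
    (hn : ∀ τ : Perm β, τ.IsThreeCycle → ∀ t ∈ T, τ * t * τ⁻¹ ∈ T) {t : Perm β} (ht : t ∈ T) : t = 1 := by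
  have hnA : ∀ g ∈ alternatingGroup β, ∀ t ∈ T, g * t * g⁻¹ ∈ T := by
    intro g hg
    rw [← closure_three_cycles_eq_alternating] at hg
    refine Subgroup.closure_induction (p := fun g _ => ∀ t ∈ T, g * t * g⁻¹ ∈ T) (fun τ hτ => hn τ hτ)
      (fun t ht => by simpa using ht) ?_ ?_ hg
    · intro x y _ _ hx hy t ht
      have := hx _ (hy t ht)
      simpa [mul_assoc] using this
    · intro x _ hx t ht
      -- conjugation is injective on the finite group
      obtain ⟨s, hs⟩ : ∃ s : T, (⟨x * s * x⁻¹, hx s s.2⟩ : T) = ⟨t, ht⟩ :=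
        (Finite.injective_iff_surjective.1 fun a b hab => Subtype.ext (by
          simpa using congrArg Subtype.val hab)) ⟨t, ht⟩
      have e : x * (s : Perm β) * x⁻¹ = t := congrArg Subtype.val hs
      rw [← e]
      simp [mul_assoc]
  haveI : IsSimpleGroup (alternatingGroup β) := alternatingGroup.isSimpleGroup hβ
  have hnormal : (T.comap (alternatingGroup β).subtype).Normal := ⟨fun s hs g => hnA g g.2 s hs⟩
  have hthree : ∀ a b c : β, a ≠ b → a ≠ c → b ≠ c → (swap a b * swap a c).IsThreeCycle :=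
    fun a b c h1 h2 h3 => isThreeCycle_swap_mul_swap_same h1 h2 h3
  rcases hnormal.eq_bot_or_eq_top with hbot | htop
  · have hcomm : ∀ τ : Perm β, τ.IsThreeCycle → τ * t = t * τ := by
      intro τ hτ
      have hmem : τ * t * τ⁻¹ * t⁻¹ ∈ T := mul_mem (hn τ hτ t ht) (inv_mem ht)
      have hA : τ * t * τ⁻¹ * t⁻¹ ∈ alternatingGroup β := by
        rw [Perm.mem_alternatingGroup]
        simp only [map_mul, map_inv]
        rw [mul_comm (sign τ) (sign t), mul_inv_cancel_right, mul_inv_cancel]
      have h1 : (⟨_, hA⟩ : alternatingGroup β) ∈ T.comap (alternatingGroup β).subtype := hmem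
      rw [hbot, Subgroup.mem_bot] at h1
      have h2 : τ * t * τ⁻¹ * t⁻¹ = 1 := congrArg Subtype.val h1
      rw [mul_inv_eq_one, mul_inv_eq_iff_eq_mul] at h2
      exact h2
    by_contra hne
    obtain ⟨u, hu⟩ : ∃ u, t u ≠ u := by
      by_contra h
      push Not at h
      exact hne (Equiv.ext h)
    obtain ⟨c, hc⟩ := Finset.card_pos.1 (show 0 < (Finset.univ \ {u, t u}).card by
      have := Finset.le_card_sdiff {u, t u} (Finset.univ : Finset β)
      have := Finset.card_le_two (a := u) (b := t u)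
      rw [Nat.card_eq_fintype_card, ← Finset.card_univ] at hβ
      omega)
    obtain ⟨d, hd⟩ := Finset.card_pos.1 (show 0 < (Finset.univ \ {u, t u, c}).card by
      have := Finset.le_card_sdiff {u, t u, c} (Finset.univ : Finset β)
      have : ({u, t u, c} : Finset β).card ≤ 3 := Finset.card_le_three
      rw [Nat.card_eq_fintype_card, ← Finset.card_univ] at hβ
      omega)
    simp only [Finset.mem_sdiff, Finset.mem_univ, true_and, Finset.mem_insert, Finset.mem_singleton,
      not_or] at hc hd
    have h := DFunLike.congr_fun (hcomm _ (hthree u c d (Ne.symm hc.1) (Ne.symm hd.1) (Ne.symm hd.2.2))) u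
    rw [Perm.mul_apply, Perm.mul_apply, Perm.mul_apply, Perm.mul_apply, swap_apply_left,
      swap_apply_of_ne_of_ne hd.1 hd.2.2,
      swap_apply_of_ne_of_ne hu (Ne.symm hd.2.1), swap_apply_of_ne_of_ne hu (Ne.symm hc.2)] at h
    exact hd.1 (t.injective h.symm)
  · exfalso
    obtain ⟨u, v, w, h1, h2, h3⟩ : ∃ u v w : β, u ≠ v ∧ u ≠ w ∧ v ≠ w := by
      have h3 : 2 < (Finset.univ : Finset β).card := by
        rw [Finset.card_univ, ← Nat.card_eq_fintype_card]; omega
      obtain ⟨u, v, w, -, -, -, h⟩ := Finset.two_lt_card_iff.1 h3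
      exact ⟨u, v, w, h⟩
    have h := hthree u v w h1 h2 h3
    have hmem : swap u v * swap u w ∈ T := by
      have : (⟨_, h.mem_alternatingGroup⟩ : alternatingGroup β) ∈ T.comap (alternatingGroup β).subtype :=
        htop ▸ Subgroup.mem_top _
      exact this
    obtain ⟨k, hk⟩ := hT ⟨_, hmem⟩
    have h' : (swap u v * swap u w) ^ 2 ^ k = 1 := congrArg Subtype.val hk
    have hdvd := orderOf_dvd_of_pow_eq_one h'
    rw [h.orderOf] at hdvd
    exact absurd (Nat.prime_three.dvd_of_dvd_pow hdvd) (by decide)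

namespace Pair

variable {D : Data z n}

theorem not_prop2 (P : Pair D a α) (hr : 4 ≤ (Finset.univ.filter fun x => α x = x).card) :
    ¬ Prop2 (cK z a) a := by
  classical
  intro h
  obtain ⟨s', hs', hcard⟩ := Finset.exists_subset_card_eq hr
  obtain ⟨p, q, r, s, h1, h2, h3, h4, h5, h6, rfl⟩ := Finset.card_eq_four.1 hcard
  have hfix : ∀ x ∈ ({p, q, r, s} : Finset (Fin n)), α x = x := fun x hx => (Finset.mem_filter.1 (hs' hx)).2
  have hp := hfix p (by simp)
  have hq := hfix q (by simp)
  have hr' := hfix r (by simp)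
  have hs := hfix s (by simp)
  let N : Subgroup G :=
    { carrier := {g | ∃ π, D.Img g π ∧ ∀ x, α x ≠ x → π x = x}
      one_mem' := ⟨1, D.img_one, fun _ _ => rfl⟩
      mul_mem' := fun {g h} ⟨π, hπ, hb⟩ ⟨π', hπ', hb'⟩ => ⟨π * π', hπ.mul hπ', fun x hx => by
        rw [Perm.mul_apply, hb' x hx, hb x hx]⟩
      inv_mem' := fun {g} ⟨π, hπ, hb⟩ => ⟨π⁻¹, hπ.inv, fun x hx => by
        rw [Perm.inv_def, Equiv.symm_apply_eq, hb x hx]⟩ }
  obtain ⟨g, hg⟩ := D.exists_img (AltOre.double_cycleType h1 h6 h2 h3 h4 h5).2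
  obtain ⟨g', hg'⟩ := D.exists_img (AltOre.double_cycleType h2 h5 h1 h3 (Ne.symm h4) h6).2
  have hsupp : ∀ {u v u' v' : Fin n}, α u = u → α v = v → α u' = u' → α v' = v' →
      ∀ x, α x ≠ x → (swap u v * swap u' v') x = x := by
    intro u v u' v' hu hv hu' hv' x hx
    have n1 : x ≠ u' := by rintro rfl; exact hx hu'
    have n2 : x ≠ v' := by rintro rfl; exact hx hv'
    have n3 : x ≠ u := by rintro rfl; exact hx hu
    have n4 : x ≠ v := by rintro rfl; exact hx hv
    rw [Perm.mul_apply, swap_apply_of_ne_of_ne n1 n2, swap_apply_of_ne_of_ne n3 n4]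
  have hprod : swap p q * swap r s * (swap p r * swap q s) = swap p s * swap q r := by
    have := h1.symm
    have := h2.symm
    have := h3.symm
    have := h4.symm
    have := h5.symm
    have := h6.symm
    refine Equiv.ext fun x => ?_
    by_cases x1 : x = p
    · subst x1; simp (discharger := assumption) only [Perm.mul_apply, swap_apply_left, swap_apply_right,
        swap_apply_of_ne_of_ne]
    by_cases x2 : x = q
    · subst x2; simp (discharger := assumption) only [Perm.mul_apply, swap_apply_left, swap_apply_right,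
        swap_apply_of_ne_of_ne]
    by_cases x3 : x = r
    · subst x3; simp (discharger := assumption) only [Perm.mul_apply, swap_apply_left, swap_apply_right,
        swap_apply_of_ne_of_ne]
    by_cases x4 : x = s
    · subst x4; simp (discharger := assumption) only [Perm.mul_apply, swap_apply_left, swap_apply_right,
        swap_apply_of_ne_of_ne]
    simp (discharger := assumption) only [Perm.mul_apply, swap_apply_of_ne_of_ne]
  have hc3 := isThreeCycle_swap_mul_swap_same h1 h2 h4
  obtain ⟨e, he, hep⟩ := D.exists_odd_lift (π := swap p q * swap p r) hc3.sign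
    (by rw [hc3.orderOf]; decide)
  rw [hc3.orderOf] at hep
  haveI : Fact (Nat.Prime 3) := ⟨Nat.prime_three⟩
  obtain ⟨π, hπ, hb⟩ := h N (fun g ⟨π, hπ, hb⟩ => P.rest_mem hπ hb) (fun k hk x ⟨π, hπ, hb⟩ => by
      obtain ⟨σ, hσ, hσc⟩ := P.lift_mem (mem_cK.1 hk).1 (mem_cK.1 hk).2
      refine ⟨_, hσ.conj hπ, fun w hw => ?_⟩
      obtain ⟨w, rfl⟩ := σ.surjective w
      rw [Perm.mul_apply, Perm.mul_apply, Perm.inv_def, Equiv.symm_apply_apply, hb w fun e => hw (by
        rw [← Perm.mul_apply, ← hσc.eq, Perm.mul_apply, e])])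
    ⟨g, ⟨_, hg, hsupp hp hq hr' hs⟩, g', ⟨_, hg', hsupp hp hr' hq hs⟩, fun hc => by
      have := hg.anti hg' (AltOre.double_cycleType h1 h6 h2 h3 h4 h5).1
        (AltOre.double_cycleType h2 h5 h1 h3 (Ne.symm h4) h6).1
        (hprod ▸ (AltOre.double_cycleType h3 h4 h1 h2 (Ne.symm h5) (Ne.symm h6)).1)
      rw [hc.eq] at this
      exact D.z_ne (mul_eq_right.1 this.symm)⟩
    ⟨e, ⟨_, he, hsupp hp hq hp hr'⟩, orderOf_eq_prime hep fun he1 => hc3.ne_one
      ((he1 ▸ he : D.Img (1 : G) (swap p q * swap p r)).unique D.img_one)⟩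
  obtain ⟨x, hx⟩ : ∃ x, α x ≠ x := by
    by_contra h'
    push Not at h'
    exact P.ne (Equiv.ext h')
  exact hx (by have := hb x hx; rwa [hπ.unique P.img] at this)

theorem not_prop1 (P : Pair D a α) (hn : 12 ≤ n)
    (hr : (Finset.univ.filter fun x => α x = x).card < 4) : ¬ Prop1 (cK z a) a := by
  classical
  rintro ⟨N, hle, hN, h2, -, x, hx, y, hy, hxy⟩
  have hα := P.sq
  have hsupp : 9 ≤ α.support.card := by
    have h := Finset.card_filter_add_card_filter_not (s := (Finset.univ : Finset (Fin n)))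
      (fun x => α x = x)
    rw [show (Finset.univ.filter fun x => ¬ α x = x) = α.support from rfl, Finset.card_univ,
      Fintype.card_fin] at h
    omega
  let Nb : Subgroup (Subgroup.centralizer ({α} : Set (Perm (Fin n)))) :=
    { carrier := {π | ∃ g ∈ N, D.Img g (π : Perm (Fin n))}
      one_mem' := ⟨1, one_mem _, D.img_one⟩
      mul_mem' := fun {π π'} ⟨g, hg, h⟩ ⟨g', hg', h'⟩ => ⟨g * g', mul_mem hg hg', h.mul h'⟩
      inv_mem' := fun {π} ⟨g, hg, h⟩ => ⟨g⁻¹, inv_mem hg, h.inv⟩ }
  have hNb : IsPGroup 2 Nb := by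
    rintro ⟨π, g, hg, h⟩
    obtain ⟨k, hk⟩ := h2 ⟨g, hg⟩
    refine ⟨k, Subtype.ext (Subtype.ext ?_)⟩
    have hk' : g ^ 2 ^ k = 1 := congrArg Subtype.val hk
    exact (h.pow (2 ^ k)).unique (hk' ▸ D.img_one)
  have hblk : ∀ g ∈ N, ∀ π, D.Img g π → ∀ w, α w ≠ w → π w = w ∨ π w = α w := by
    intro g hg π hπ w hw
    have hc := P.img_comm (hle hg) hπ
    have h1 : blockHom hα ⟨π, Subgroup.mem_centralizer_singleton_iff.2 hc⟩ = 1 := by
      refine eq_one_of_normalised (five_le_blocks hα hsupp) (Nb.map (blockHom hα)) (hNb.map _) ?_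
        ⟨_, ⟨g, hg, hπ⟩, rfl⟩
      rintro τ hτ _ ⟨⟨σ, hσ⟩, ⟨g', hg', hπ'⟩, rfl⟩
      obtain ⟨u, v, w, h1, h2, h3⟩ : ∃ u v w : Blk α, u ≠ v ∧ u ≠ w ∧ v ≠ w := by
        have h3 : 2 < (Finset.univ : Finset (Blk α)).card := by
          rw [Finset.card_univ, ← Nat.card_eq_fintype_card]
          have := five_le_blocks hα hsupp
          omega
        obtain ⟨u, v, w, -, -, -, h⟩ := Finset.two_lt_card_iff.1 h3
        exact ⟨u, v, w, h⟩
      obtain ⟨c, hc⟩ := isConj_iff.1 (isConj_iff_cycleType_eq.2
        ((isThreeCycle_swap_mul_swap_same h1 h2 h3).trans hτ.symm))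
      rw [swap_comm u v, show c * (swap v u * swap u w) * c⁻¹ = swap (c v) (c u) * swap (c u) (c w) by
        rw [Equiv.swap_apply_apply c, Equiv.swap_apply_apply c]; group] at hc
      set i := c v with hi
      set j := c u
      set l := c w
      have hne : ∀ {p q : Blk α}, p ≠ q → Sep α (p : Fin n) q := fun {p q} h =>
        ⟨p.2.ne', q.2.ne', fun e => h (Subtype.ext e.symm), fun e => by
          have h1 := q.2
          rw [e, sq_apply hα] at h1
          exact lt_asymm p.2 h1⟩
      have hij : Sep α (i : Fin n) j := hne (c.injective.ne h1.symm)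
      have hjl : Sep α (j : Fin n) l := hne (c.injective.ne h2)
      have hil : Sep α (i : Fin n) l := hne (c.injective.ne h3)
      have ho := rot_order hα hij hjl hil
      obtain ⟨k, hk, hkπ, -⟩ := P.exists_odd (rot_comm hα hij hjl hil) ho.2 (by rw [ho.1]; decide)
      set ρ : Subgroup.centralizer ({α} : Set (Perm (Fin n))) :=
        ⟨_, Subgroup.mem_centralizer_singleton_iff.2 (rot_comm hα hij hjl hil)⟩
      have hρ : blockHom hα ρ = τ := by
        rw [← hc]
        obtain ⟨⟨r1, r2, r3⟩, -, r7⟩ := rot_apply hα hij hjl hil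
        refine Equiv.ext fun b => Subtype.ext ?_
        rw [blockHom_apply, Perm.mul_apply]
        have hij' : i ≠ j := fun e => hij.2.2.1 (by rw [e])
        have hjl' : j ≠ l := fun e => hjl.2.2.1 (by rw [e])
        have hil' : i ≠ l := fun e => hil.2.2.1 (by rw [e])
        by_cases b1 : b = i
        · subst b1
          rw [swap_apply_of_ne_of_ne hij' hil', swap_apply_left]
          exact (congrArg (rep α) r1).trans (rep_of_lt j.2)
        by_cases b2 : b = j
        · subst b2
          rw [swap_apply_left, swap_apply_of_ne_of_ne hil'.symm hjl'.symm]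
          exact (congrArg (rep α) r2).trans (rep_of_lt l.2)
        by_cases b3 : b = l
        · subst b3
          rw [swap_apply_right, swap_apply_right]
          exact (congrArg (rep α) r3).trans (rep_of_lt i.2)
        rw [swap_apply_of_ne_of_ne b2 b3, swap_apply_of_ne_of_ne b1 b2]
        refine (congrArg (rep α) (r7 b (fun e => b1 (Subtype.ext e)) (fun e => b2 (Subtype.ext e))
          (fun e => b3 (Subtype.ext e)) ?_ ?_ ?_)).trans (rep_of_lt b.2)
        all_goals
          intro e
          have h := b.2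
          rw [e, sq_apply hα] at h
        · exact lt_asymm i.2 h
        · exact lt_asymm j.2 h
        · exact lt_asymm l.2 h
      refine ⟨ρ * ⟨σ, hσ⟩ * ρ⁻¹, ⟨k * g' * k⁻¹, hN k hk g' hg', hkπ.conj hπ'⟩, ?_⟩
      rw [map_mul, map_mul, map_inv, hρ]
    have := congrArg Subtype.val (DFunLike.congr_fun h1 ⟨rep α w, rep_lt hα hw⟩)
    rw [blockHom_apply, rep_conj hα hc] at this
    simp only [Perm.one_apply] at this
    rcases rep_or (α := α) (π w) with e | e <;> rcases rep_or (α := α) w with e' | e' <;>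
      rw [e, e'] at this
    · exact Or.inl this
    · exact Or.inr this
    · exact Or.inr (by rw [← sq_apply hα (π w), this])
    · exact Or.inl (α.injective this)
  -- the restriction to the fixed points
  let res : Subgroup.centralizer ({α} : Set (Perm (Fin n))) →* Perm {x // α x = x} :=
    { toFun := fun π => (π : Perm (Fin n)).subtypePerm (p := fun x => α x = x) fun x => by
        rw [← Perm.mul_apply, ← Subgroup.mem_centralizer_singleton_iff.1 π.2, Perm.mul_apply,
          (π : Perm (Fin n)).injective.eq_iff]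
      map_one' := rfl
      map_mul' := fun _ _ => rfl }
  have hcard : Nat.card (Nb.map res) ≤ 2 := by
    haveI : Fact (Nat.Prime 2) := ⟨Nat.prime_two⟩
    obtain ⟨e, he⟩ := IsPGroup.iff_card.1 (hNb.map res)
    have hd := Subgroup.card_subgroup_dvd_card (Nb.map res)
    rw [he, Nat.card_perm, Nat.card_eq_fintype_card, Fintype.card_subtype] at hd
    rw [he]
    have h6 : 2 ^ e ∣ 6 := hd.trans ((Nat.factorial_dvd_factorial (show _ ≤ 3 by omega)).trans (by decide))
    rcases e with _ | _ | e
    · norm_num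
    · norm_num
    · exfalso
      have : 2 ^ 2 ∣ 6 := (pow_dvd_pow 2 (by omega)).trans h6
      norm_num at this
  obtain ⟨π, hπ, hπc⟩ := P.lift_mem (mem_cK.1 (hle hx)).1 (mem_cK.1 (hle hx)).2
  obtain ⟨π', hπ', hπc'⟩ := P.lift_mem (mem_cK.1 (hle hy)).1 (mem_cK.1 (hle hy)).2
  have hb := hblk x hx π hπ
  have hb' := hblk y hy π' hπ'
  have hcc : Commute π π' := by
    refine Equiv.ext fun w => ?_
    rw [Perm.mul_apply, Perm.mul_apply]
    by_cases hw : α w = w
    · have hcr : Commute (res ⟨π, Subgroup.mem_centralizer_singleton_iff.2 hπc⟩)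
          (res ⟨π', Subgroup.mem_centralizer_singleton_iff.2 hπc'⟩) := by
        have hm := Subgroup.mem_map_of_mem res (show (⟨π, Subgroup.mem_centralizer_singleton_iff.2 hπc⟩ :
          Subgroup.centralizer ({α} : Set (Perm (Fin n)))) ∈ Nb from ⟨x, hx, hπ⟩)
        have hm' := Subgroup.mem_map_of_mem res (show (⟨π', Subgroup.mem_centralizer_singleton_iff.2 hπc'⟩ :
          Subgroup.centralizer ({α} : Set (Perm (Fin n)))) ∈ Nb from ⟨y, hy, hπ'⟩)
        have hcomm : IsMulCommutative (Nb.map res) := by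
          have hpos := Nat.card_pos (α := Nb.map res)
          obtain h | h : Nat.card (Nb.map res) = 1 ∨ Nat.card (Nb.map res) = 2 := by omega
          · haveI := (Nat.card_eq_one_iff_unique.1 h).1
            exact ⟨⟨fun a b => Subsingleton.elim _ _⟩⟩
          · haveI : Fact (Nat.Prime 2) := ⟨Nat.prime_two⟩
            exact (isCyclic_of_prime_card h).isMulCommutative
        exact congrArg Subtype.val (hcomm.is_comm.comm (⟨_, hm⟩ : Nb.map res) ⟨_, hm'⟩)
      exact congrArg Subtype.val (DFunLike.congr_fun hcr.eq ⟨w, hw⟩)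
    · have e : π (α w) = α (π w) := by rw [← Perm.mul_apply, hπc.eq, Perm.mul_apply]
      have e' : π' (α w) = α (π' w) := by rw [← Perm.mul_apply, hπc'.eq, Perm.mul_apply]
      rcases hb w hw with h | h <;> rcases hb' w hw with h' | h' <;> simp [h, h', e, e', sq_apply hα]
  rcases commutator_eq hπ hπ' hcc with h | h <;> rw [hxy] at h
  exacts [P.ne_one h, P.ne_z h]

end Pair

/-- In degree at least twelve there is no such simple group. -/
theorem Data.false_of_twelve_le [IsSimpleGroup G] (D : Data z n) (hn : 12 ≤ n) : False := by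
  obtain ⟨g, hc, hne⟩ := D.exists_conj
  set φ : G ≃* G := MulAut.conj g with hφ
  have hφz : φ z = g * z * g⁻¹ := rfl
  have hzz : ∀ (w : G), g * w * g⁻¹ * (g * w * g⁻¹) = g * (w * w) * g⁻¹ := fun w => by group
  have h1 : ∀ {b : G}, b = g * z * g⁻¹ ∨ b = g⁻¹ * z * g → b * b = 1 ∧ b ≠ 1 := by
    rintro b (rfl | rfl)
    · exact ⟨by rw [hzz, D.z_sq, mul_one, mul_inv_cancel], fun h => D.z_ne (conj_eq_one_iff.1 h)⟩
    · refine ⟨by rw [show g⁻¹ * z * g * (g⁻¹ * z * g) = g⁻¹ * (z * z) * g by group, D.z_sq, mul_one,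
        inv_mul_cancel], fun h => D.z_ne ?_⟩
      rw [show z = g * (g⁻¹ * z * g) * g⁻¹ by group, h, mul_one, mul_inv_cancel]
  have hc' : Commute (g⁻¹ * z * g) z := by
    have := hc.symm.map (MulAut.conj g⁻¹).toMonoidHom
    simpa [mul_assoc] using this
  have hne' : g⁻¹ * z * g ≠ z := fun h => hne (by
    conv_lhs => rw [← h]
    group)
  obtain ⟨α, hα⟩ := D.involution hc (h1 (Or.inl rfl)).1 (h1 (Or.inl rfl)).2 hne
  obtain ⟨β, hβ⟩ := D.involution hc' (h1 (Or.inr rfl)).1 (h1 (Or.inr rfl)).2 hne'
  have P : Pair D (g * z * g⁻¹) α := ⟨hα.1, hα.2.1, hα.2.2.1, hα.2.2.2, (h1 (Or.inl rfl)).2, hne⟩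
  have P' : Pair D (g⁻¹ * z * g) β := ⟨hβ.1, hβ.2.1, hβ.2.2.1, hβ.2.2.2, (h1 (Or.inr rfl)).2, hne'⟩
  have hK : (cK z (g⁻¹ * z * g)).map φ.toMonoidHom = cK z (g * z * g⁻¹) := by
    ext x
    constructor
    · rintro ⟨y, hy, rfl⟩
      obtain ⟨h, h'⟩ := mem_cK.1 hy
      have e1 := h.map φ.toMonoidHom
      have e2 := h'.map φ.toMonoidHom
      refine mem_cK.2 ⟨?_, by simpa [hφ] using e1⟩
      simpa [hφ, mul_assoc] using e2
    · intro hx
      obtain ⟨h, h'⟩ := mem_cK.1 hx
      refine ⟨φ.symm x, mem_cK.2 ⟨?_, ?_⟩, by simp⟩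
      · have := h'.map φ.symm.toMonoidHom
        simpa [hφ, mul_assoc] using this
      · have := h.map φ.symm.toMonoidHom
        simpa [hφ, mul_assoc] using this
  have p1 := hK ▸ P'.prop1_z.map φ
  have p2 := hK ▸ (P'.prop2_z hn).map φ
  by_cases hr : 4 ≤ (Finset.univ.filter fun x => α x = x).card
  · exact P.not_prop2 hr p2
  · exact P.not_prop1 hn (not_le.1 hr) p1

end CfsgLib.DoubleAlt
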