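import Cfsg.Agent.DoubleAlt.LargeNeg
import Cfsg.Agent.DoubleAlt.Five95
import Cfsg.Agent.DoubleAlt.Kills
import Cfsg.Agent.DoubleAlt.Count
import Cfsg.Agent.DoubleCoverInvol.Small

/-!
# The degree of the alternating group is eight or eleven
-/

set_option autoImplicit false
set_option linter.style.haveILetI false

namespace CfsgLib.DoubleAlt

universe u

variable {G : Type u} [Group G] [Finite G] [IsSimpleGroup G] {z : G}

theorem false_of_le_seven {n : ℕ} (hn5 : 5 ≤ n) (hn : n ≤ 7) (hz : orderOf z = 2)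
    (h : Cfsg.IsNonsplitDoubleCover (Subgroup.centralizer ({z} : Set G)) (alternatingGroup (Fin n))) : False := by
  obtain ⟨D⟩ := exists_data hn5 hz h
  obtain ⟨g, hc, hne⟩ := D.exists_conj
  have ho : orderOf (g * z * g⁻¹) = 2 := by
    rw [← MulAut.conj_apply, MulEquiv.orderOf_eq, hz]
  refine hne (congrArg Subtype.val
    (DoubleCoverInvol.involution_unique hn h
      (x := ⟨g * z * g⁻¹, Subgroup.mem_centralizer_singleton_iff.2 hc.eq⟩)
      (y := ⟨z, Subgroup.mem_centralizer_singleton_iff.2 rfl⟩) ?_ ?_))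
  · rw [← Subgroup.orderOf_coe]; exact ho
  · rw [← Subgroup.orderOf_coe]; exact hz

theorem false_of_nine (D : Data z 9) : False := by
  obtain ⟨F⟩ := exists_frame D tabNine
  obtain ⟨τ⟩ := exists_turn F
  have Q := F.qdata τ actNine ⟨2, rfl⟩ (by decide) (fun i j hij g => τ.cent_nine hij) ne_one_nine
  obtain ⟨h1, h2, p, q, hp, hp1, he, hq⟩ := Q.count
  rcases numeric_nine (by omega) (by omega) hp hp1 (by exact_mod_cast he) (by exact_mod_cast hq) with h | h
  · exact Q.ne_703 h
  · exact F.ne_595 τ h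

theorem false_of_ten (D : Data z 10) : False := by
  obtain ⟨F⟩ := exists_frame D tabTen
  obtain ⟨τ⟩ := exists_turn F
  have Q := F.qdata τ actTen ⟨4, rfl⟩ (by decide) (fun i j hij g => τ.cent_ten hij) ne_one_ten
  obtain ⟨h1, h2, p, q, hp, hp1, he, hq⟩ := Q.count
  exact Q.ne_2701 (numeric_ten (by omega) (by omega) hp hp1 (by exact_mod_cast he) (by exact_mod_cast hq))

/-- The degree is eight or eleven. -/
theorem eight_or_eleven {n : ℕ} (hn : 5 ≤ n) (hz : orderOf z = 2)
    (h : Cfsg.IsNonsplitDoubleCover (Subgroup.centralizer ({z} : Set G)) (alternatingGroup (Fin n))) :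
    n = 8 ∨ n = 11 := by
  rcases le_or_gt n 7 with h7 | h7
  · exact (false_of_le_seven hn h7 hz h).elim
  rcases le_or_gt 12 n with h12 | h12
  · obtain ⟨D⟩ := exists_data hn hz h
    exact (D.false_of_twelve_le h12).elim
  obtain ⟨D⟩ := exists_data hn hz h
  obtain rfl | rfl | rfl | rfl : n = 8 ∨ n = 9 ∨ n = 10 ∨ n = 11 := by omega
  · exact Or.inl rfl
  · exact (false_of_nine D).elim
  · exact (false_of_ten D).elim
  · exact Or.inr rfl

end CfsgLib.DoubleAlt
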