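import Mathlib.GroupTheory.Perm.Cycle.Type
import Mathlib.GroupTheory.SpecificGroups.Alternating

/-!
# Permutations of nine or ten points

The permutations of the argument and the even permutations commuting with `py = (012)(345)`.
-/

set_option autoImplicit false
set_option maxRecDepth 100000

namespace CfsgLib.DoubleAlt

open Equiv Equiv.Perm

variable (n : ℕ) [NeZero n]

/-- Structural list lookup using its index once. -/
def nth {α : Type*} (l : List α) : ℕ → α → α :=
  List.rec (motive := fun _ => ℕ → α → α) (fun _ d => d)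
    (fun a _ ih i d => Nat.rec (motive := fun _ => α) a (fun j _ => ih j d) i) l

theorem nth_eq {α : Type*} (l : List α) (i : ℕ) (d : α) : nth l i d = l.getD i d := by
  induction l generalizing i with
  | nil => rfl
  | cons a l ih => cases i with
    | zero => rfl
    | succ j => exact (ih j).trans (by simp)

/-- A transposition evaluated through a table. -/
def sw {n : ℕ} (a b : Fin n) : Perm (Fin n) where
  toFun r := nth ((List.finRange n).map (swap a b)) r.val r
  invFun r := nth ((List.finRange n).map (swap a b)) r.val r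
  left_inv r := by simp [nth_eq]
  right_inv r := by simp [nth_eq]

theorem sw_eq {n : ℕ} (a b : Fin n) : sw a b = swap a b := by
  refine Equiv.ext fun r => ?_
  show nth ((List.finRange n).map (swap a b)) r.val r = swap a b r
  simp [nth_eq]

/-- The three-cycles. -/
def c1 : Perm (Fin n) := sw 0 1 * sw 1 2
/-- The second three-cycle. -/
def c2 : Perm (Fin n) := sw 3 4 * sw 4 5
/-- The third three-cycle. -/
def c3 : Perm (Fin n) := sw 6 7 * sw 7 8
/-- The image of `a`. -/
def pa : Perm (Fin n) := sw 0 3 * sw 1 4 * (sw 2 5 * sw 6 7)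
/-- The image of `y`. -/
def py : Perm (Fin n) := c1 n * c2 n
/-- The image of `d`. -/
def pd : Perm (Fin n) := c1 n * (c2 n)⁻¹
/-- The image of `s`. -/
def ps : Perm (Fin n) := sw 0 1 * sw 3 4
/-- The permutation exchanging the two six-cycles halves. -/
def half : Perm (Fin n) := sw 0 3 * sw 1 4 * sw 2 5

/-- The even permutations of the first six points. -/
def sixList : List (Perm (Fin n)) :=
  [1, c1 n, c1 n * c1 n].flatMap fun u => [1, c2 n, c2 n * c2 n].map fun v => u * v

/-- The even permutations of nine points off the first six. -/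
def restNine : List (Perm (Fin 9)) := [1, c3 9, c3 9 * c3 9]

/-- The even permutations of ten points off the first six. -/
def restTen : List (Perm (Fin 10)) :=
  [1, c3 10, c3 10 * c3 10].flatMap fun u =>
    [1, sw 6 7 * sw 8 9, sw 6 8 * sw 7 9, sw 6 9 * sw 7 8].map fun v => u * v

/-- Even permutations commuting with `py`. -/
def mkList (rest : List (Perm (Fin n))) : List (Perm (Fin n)) :=
  (sixList n ++ (sixList n).map (· * (half n * sw 6 7))).flatMap fun u => rest.map fun v => u * v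

/-- The centralizer of `py` in the alternating group of degree nine. -/
def listNine : List (Perm (Fin 9)) := mkList 9 restNine
/-- The centralizer of `py` in the alternating group of degree ten. -/
def listTen : List (Perm (Fin 10)) := mkList 10 restTen

/-- The abelian group of order 27 generated by the three-cycles. -/
def baseList : List (Perm (Fin n)) :=
  (sixList n).flatMap fun u => [1, c3 n, c3 n * c3 n].map fun v => u * v

variable {n}

/-- Kernel checks over lists. -/
theorem of_all {α : Type*} {L : List α} {P : α → Prop} [DecidablePred P]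
    (h : L.all (fun q => decide (P q)) = true) : ∀ q ∈ L, P q := fun q hq => by
  simpa using List.all_eq_true.1 h q hq

theorem sign_list (L : List (Perm (Fin n))) (hL : ∀ π ∈ L, sign π = 1) (M : List (Perm (Fin n)))
    (hM : ∀ π ∈ M, sign π = 1) : ∀ π ∈ L.flatMap (fun u => M.map fun v => u * v), sign π = 1 := by
  intro π hπ
  simp only [List.mem_flatMap, List.mem_map] at hπ
  obtain ⟨u, hu, v, hv, rfl⟩ := hπ
  rw [map_mul, hL u hu, hM v hv, one_mul]

/-- Membership in a list of candidates from agreement on determining points. -/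
theorem mem_of_agree {π ρ : Perm (Fin n)} (hπ : Commute π ρ) {L : List (Perm (Fin n))} {q : Perm (Fin n)}
    (hq : q ∈ L) (hqc : Commute q ρ) (P : List (Fin n)) (hagree : ∀ p ∈ P, q p = π p)
    (hgen : ∀ x, ∃ p ∈ P, ∃ k : Fin 3, (ρ ^ (k : ℕ)) p = x) : π ∈ L := by
  have : q = π := Equiv.ext fun x => by
    obtain ⟨p, hp, k, rfl⟩ := hgen x
    rw [← Perm.mul_apply, ← Perm.mul_apply, (hqc.pow_right _).eq, (hπ.pow_right _).eq, Perm.mul_apply,
      Perm.mul_apply, hagree p hp]
  exact this ▸ hq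

theorem gen_nine : ∀ x : Fin 9, ∃ p ∈ ([0, 3, 6, 7, 8] : List (Fin 9)), ∃ k : Fin 3, (py 9 ^ (k : ℕ)) p = x := by
  decide +kernel

theorem gen_ten :
    ∀ x : Fin 10, ∃ p ∈ ([0, 3, 6, 7, 8, 9] : List (Fin 10)), ∃ k : Fin 3, (py 10 ^ (k : ℕ)) p = x := by
  decide +kernel

theorem moved_nine : ∀ x : Fin 9, py 9 x = x ↔ 6 ≤ (x : ℕ) := by decide +kernel

theorem moved_ten : ∀ x : Fin 10, py 10 x = x ↔ 6 ≤ (x : ℕ) := by decide +kernel

theorem six_nine : ∀ i j : Fin 9, (i : ℕ) < 6 → (j : ℕ) < 6 →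
    (∀ k : Fin 3, (py 9 ^ (k : ℕ)) i ≠ j) →
    ∃ q ∈ sixList 9 ++ (sixList 9).map (· * half 9), q 0 = i ∧ q 3 = j := by decide +kernel

theorem six_ten : ∀ i j : Fin 10, (i : ℕ) < 6 → (j : ℕ) < 6 →
    (∀ k : Fin 3, (py 10 ^ (k : ℕ)) i ≠ j) →
    ∃ q ∈ sixList 10 ++ (sixList 10).map (· * half 10), q 0 = i ∧ q 3 = j := by decide +kernel

theorem rest_nine : ∀ u : Fin 9, 6 ≤ (u : ℕ) → ∀ v : Fin 9, 6 ≤ (v : ℕ) → u ≠ v →
    ∀ w : Fin 9, 6 ≤ (w : ℕ) → u ≠ w → v ≠ w →
    ∃ q ∈ restNine ++ restNine.map (sw 6 7 * ·), q 6 = u ∧ q 7 = v ∧ q 8 = w := by decide +kernel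

theorem rest_ten : ∀ u : Fin 10, 6 ≤ (u : ℕ) → ∀ v : Fin 10, 6 ≤ (v : ℕ) → u ≠ v →
    ∀ w : Fin 10, 6 ≤ (w : ℕ) → u ≠ w → v ≠ w → ∀ t : Fin 10, 6 ≤ (t : ℕ) → u ≠ t → v ≠ t → w ≠ t →
    ∃ q ∈ restTen ++ restTen.map (sw 6 7 * ·), q 6 = u ∧ q 7 = v ∧ q 8 = w ∧ q 9 = t := by decide +kernel

theorem six_fix_nine : ∀ q ∈ sixList 9 ++ (sixList 9).map (· * half 9),
    Commute q (py 9) ∧ q 6 = 6 ∧ q 7 = 7 ∧ q 8 = 8 := by
  unfold Commute SemiconjBy; exact of_all (by decide +kernel)

theorem six_fix_ten : ∀ q ∈ sixList 10 ++ (sixList 10).map (· * half 10),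
    Commute q (py 10) ∧ q 6 = 6 ∧ q 7 = 7 ∧ q 8 = 8 ∧ q 9 = 9 := by
  unfold Commute SemiconjBy; exact of_all (by decide +kernel)

theorem rest_fix_nine : ∀ q ∈ restNine ++ restNine.map (sw 6 7 * ·),
    Commute q (py 9) ∧ q 0 = 0 ∧ q 3 = 3 := by
  unfold Commute SemiconjBy; exact of_all (by decide +kernel)

theorem rest_fix_ten : ∀ q ∈ restTen ++ restTen.map (sw 6 7 * ·),
    Commute q (py 10) ∧ q 0 = 0 ∧ q 3 = 3 := by
  unfold Commute SemiconjBy; exact of_all (by decide +kernel)

theorem sign_gen_nine :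
    sign (c1 9) = 1 ∧ sign (c2 9) = 1 ∧ sign (c3 9) = 1 := by
  simp only [c1, c2, c3, sw_eq, map_mul]
  rw [sign_swap (by decide), sign_swap (by decide), sign_swap (by decide), sign_swap (by decide),
    sign_swap (by decide), sign_swap (by decide)]
  decide

theorem sign_gen_ten :
    sign (c1 10) = 1 ∧ sign (c2 10) = 1 ∧ sign (c3 10) = 1 := by
  simp only [c1, c2, c3, sw_eq, map_mul]
  rw [sign_swap (by decide), sign_swap (by decide), sign_swap (by decide), sign_swap (by decide),
    sign_swap (by decide), sign_swap (by decide)]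
  decide

theorem sign_six_nine : ∀ q ∈ sixList 9, sign q = 1 := by
  simp [sixList, sign_gen_nine]

theorem sign_six_ten : ∀ q ∈ sixList 10, sign q = 1 := by
  simp [sixList, sign_gen_ten]

theorem sign_rest_nine : ∀ q ∈ restNine, sign q = 1 := by
  simp [restNine, sign_gen_nine]

theorem sign_rest_ten : ∀ q ∈ restTen, sign q = 1 := by
  have h : ∀ a b c d : Fin 10, a ≠ b → c ≠ d → sign (sw a b * sw c d) = 1 := fun a b c d h1 h2 => by
    rw [map_mul, sw_eq, sw_eq, sign_swap h1, sign_swap h2]; decide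
  simp [restTen, sign_gen_ten, -map_mul, Perm.sign_mul, h 6 7 8 9 (by decide) (by decide),
    h 6 8 7 9 (by decide) (by decide), h 6 9 7 8 (by decide) (by decide)]

/-- The product of a six-part and a rest part, with the parities matched. -/
theorem mem_mkList {q r : Perm (Fin n)} {rest : List (Perm (Fin n))}
    (hq : q ∈ sixList n ++ (sixList n).map (· * half n))
    (hr : r ∈ rest ++ rest.map (sw 6 7 * ·)) (h6 : ∀ u ∈ sixList n, sign u = 1)
    (hrs : ∀ u ∈ rest, sign u = 1) (hh : sign (half n) = -1) (h67 : sign (sw 6 7 : Perm (Fin n)) = -1)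
    (hs : sign (q * r) = 1) : q * r ∈ mkList n rest := by
  simp only [mkList, List.mem_flatMap, List.mem_map, List.mem_append] at *
  rcases hq with hq | ⟨u, hu, rfl⟩ <;> rcases hr with hr | ⟨v, hv, rfl⟩
  · exact ⟨q, Or.inl hq, r, hr, rfl⟩
  · rw [map_mul, map_mul, h6 q hq, hrs v hv, h67] at hs
    exact absurd hs (by decide)
  · rw [map_mul, map_mul, h6 u hu, hrs r hr, hh] at hs
    exact absurd hs (by decide)
  · exact ⟨u * (half n * sw 6 7), Or.inr ⟨u, hu, rfl⟩, v, hv, by simp only [mul_assoc]⟩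

theorem sign_half_nine : sign (half 9) = -1 ∧ sign (sw 6 7 : Perm (Fin 9)) = -1 := by
  simp only [half, sw_eq, map_mul]
  rw [sign_swap (by decide), sign_swap (by decide), sign_swap (by decide), sign_swap (by decide)]
  decide
theorem sign_half_ten : sign (half 10) = -1 ∧ sign (sw 6 7 : Perm (Fin 10)) = -1 := by
  simp only [half, sw_eq, map_mul]
  rw [sign_swap (by decide), sign_swap (by decide), sign_swap (by decide), sign_swap (by decide)]
  decide

theorem mem_listNine {π : Perm (Fin 9)} (hπ : Commute π (py 9)) (hs : sign π = 1) : π ∈ listNine := by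
  have hfix : ∀ x, py 9 (π x) = π x ↔ py 9 x = x := fun x => by
    rw [← Perm.mul_apply, ← hπ.eq, Perm.mul_apply, π.injective.eq_iff]
  have hlow : ∀ x : Fin 9, (x : ℕ) < 6 → (π x : ℕ) < 6 := fun x hx => by
    have := moved_nine x
    have := moved_nine (π x)
    have := hfix x
    by_contra h
    exact absurd (this.1 ((moved_nine (π x)).2 (not_lt.1 h))) fun e => absurd ((moved_nine x).1 e) (by omega)
  have hhigh : ∀ x : Fin 9, 6 ≤ (x : ℕ) → 6 ≤ (π x : ℕ) := fun x hx =>
    (moved_nine _).1 ((hfix x).2 ((moved_nine x).2 hx))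
  have hne : ∀ k : Fin 3, (py 9 ^ (k : ℕ)) (π 0) ≠ π 3 := fun k h => by
    rw [← Perm.mul_apply, ← (hπ.pow_right _).eq, Perm.mul_apply] at h
    exact (show ∀ k : Fin 3, (py 9 ^ (k : ℕ)) 0 ≠ 3 by decide +kernel) k (π.injective h)
  obtain ⟨q, hq, q0, q3⟩ := six_nine _ _ (hlow 0 (by decide)) (hlow 3 (by decide)) hne
  obtain ⟨r, hr, r6, r7, r8⟩ := rest_nine _ (hhigh 6 (by decide)) _ (hhigh 7 (by decide))
    (π.injective.ne (by decide)) _ (hhigh 8 (by decide)) (π.injective.ne (by decide)) (π.injective.ne (by decide))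
  obtain ⟨hqc, q6, q7, q8⟩ := six_fix_nine q hq
  obtain ⟨hrc, r0, r3⟩ := rest_fix_nine r hr
  have hqfix : ∀ x : Fin 9, 6 ≤ (x : ℕ) → q x = x := fun x hx => by
    obtain rfl | rfl | rfl : x = 6 ∨ x = 7 ∨ x = 8 := by revert hx; revert x; decide
    exacts [q6, q7, q8]
  have hqr : q * r = π := by
    refine List.mem_singleton.1 (mem_of_agree hπ (L := [q * r]) (q := q * r) (List.mem_singleton.2 rfl)
      (hqc.mul_left hrc) [0, 3, 6, 7, 8] ?_ gen_nine) |>.symm
    simp only [List.mem_cons, List.not_mem_nil, or_false, Perm.mul_apply]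
    rintro p (rfl | rfl | rfl | rfl | rfl)
    · rw [r0, q0]
    · rw [r3, q3]
    · rw [r6, hqfix _ (hhigh 6 (by decide))]
    · rw [r7, hqfix _ (hhigh 7 (by decide))]
    · rw [r8, hqfix _ (hhigh 8 (by decide))]
  rw [← hqr] at hs ⊢
  exact mem_mkList hq hr sign_six_nine sign_rest_nine sign_half_nine.1 sign_half_nine.2 hs

theorem mem_listTen {π : Perm (Fin 10)} (hπ : Commute π (py 10)) (hs : sign π = 1) : π ∈ listTen := by
  have hfix : ∀ x, py 10 (π x) = π x ↔ py 10 x = x := fun x => by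
    rw [← Perm.mul_apply, ← hπ.eq, Perm.mul_apply, π.injective.eq_iff]
  have hlow : ∀ x : Fin 10, (x : ℕ) < 6 → (π x : ℕ) < 6 := fun x hx => by
    have := hfix x
    by_contra h
    exact absurd (this.1 ((moved_ten (π x)).2 (not_lt.1 h))) fun e => absurd ((moved_ten x).1 e) (by omega)
  have hhigh : ∀ x : Fin 10, 6 ≤ (x : ℕ) → 6 ≤ (π x : ℕ) := fun x hx =>
    (moved_ten _).1 ((hfix x).2 ((moved_ten x).2 hx))
  have hne : ∀ k : Fin 3, (py 10 ^ (k : ℕ)) (π 0) ≠ π 3 := fun k h => by
    rw [← Perm.mul_apply, ← (hπ.pow_right _).eq, Perm.mul_apply] at h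
    exact (show ∀ k : Fin 3, (py 10 ^ (k : ℕ)) 0 ≠ 3 by decide +kernel) k (π.injective h)
  obtain ⟨q, hq, q0, q3⟩ := six_ten _ _ (hlow 0 (by decide)) (hlow 3 (by decide)) hne
  obtain ⟨r, hr, r6, r7, r8, r9⟩ := rest_ten _ (hhigh 6 (by decide)) _ (hhigh 7 (by decide))
    (π.injective.ne (by decide)) _ (hhigh 8 (by decide)) (π.injective.ne (by decide)) (π.injective.ne (by decide))
    _ (hhigh 9 (by decide)) (π.injective.ne (by decide)) (π.injective.ne (by decide)) (π.injective.ne (by decide))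
  obtain ⟨hqc, q6, q7, q8, q9⟩ := six_fix_ten q hq
  obtain ⟨hrc, r0, r3⟩ := rest_fix_ten r hr
  have hqfix : ∀ x : Fin 10, 6 ≤ (x : ℕ) → q x = x := fun x hx => by
    obtain rfl | rfl | rfl | rfl : x = 6 ∨ x = 7 ∨ x = 8 ∨ x = 9 := by revert hx; revert x; decide
    exacts [q6, q7, q8, q9]
  have hqr : q * r = π := by
    refine List.mem_singleton.1 (mem_of_agree hπ (L := [q * r]) (q := q * r) (List.mem_singleton.2 rfl)
      (hqc.mul_left hrc) [0, 3, 6, 7, 8, 9] ?_ gen_ten) |>.symm
    simp only [List.mem_cons, List.not_mem_nil, or_false, Perm.mul_apply]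
    rintro p (rfl | rfl | rfl | rfl | rfl | rfl)
    · rw [r0, q0]
    · rw [r3, q3]
    · rw [r6, hqfix _ (hhigh 6 (by decide))]
    · rw [r7, hqfix _ (hhigh 7 (by decide))]
    · rw [r8, hqfix _ (hhigh 8 (by decide))]
    · rw [r9, hqfix _ (hhigh 9 (by decide))]
  rw [← hqr] at hs ⊢
  exact mem_mkList hq hr sign_six_ten sign_rest_ten sign_half_ten.1 sign_half_ten.2 hs

theorem list_even_nine : ∀ π ∈ listNine, sign π = 1 ∧ Commute π (py 9) := by
  have h : ∀ π ∈ listNine, Commute π (py 9) := by unfold Commute SemiconjBy; exact of_all (by decide +kernel)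
  intro π hπ
  refine ⟨?_, h π hπ⟩
  simp only [listNine, mkList, List.mem_flatMap, List.mem_map, List.mem_append] at hπ
  obtain ⟨u, hu, v, hv, rfl⟩ := hπ
  rw [map_mul, sign_rest_nine v hv, mul_one]
  rcases hu with hu | ⟨w, hw, rfl⟩
  · exact sign_six_nine u hu
  · rw [map_mul, map_mul, sign_six_nine w hw, sign_half_nine.1, sign_half_nine.2]; decide

theorem list_even_ten : ∀ π ∈ listTen, sign π = 1 ∧ Commute π (py 10) := by
  have h : ∀ π ∈ listTen, Commute π (py 10) := by unfold Commute SemiconjBy; exact of_all (by decide +kernel)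
  intro π hπ
  refine ⟨?_, h π hπ⟩
  simp only [listTen, mkList, List.mem_flatMap, List.mem_map, List.mem_append] at hπ
  obtain ⟨u, hu, v, hv, rfl⟩ := hπ
  rw [map_mul, sign_rest_ten v hv, mul_one]
  rcases hu with hu | ⟨w, hw, rfl⟩
  · exact sign_six_ten u hu
  · rw [map_mul, map_mul, sign_six_ten w hw, sign_half_ten.1, sign_half_ten.2]; decide

end CfsgLib.DoubleAlt
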