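import Mathlib.GroupTheory.Perm.Sign
import Mathlib.GroupTheory.OrderOfElement
import Mathlib.GroupTheory.Index

/-!
# The hypotheses on the centralizer of an element of order three modulo that element
-/

set_option autoImplicit false

namespace CfsgLib.DoubleAlt

variable {X : Type*} [Group X]

/-- The involutions commuting with `z`, other than `z`. -/
def jSet (z : X) : Set X := {u | orderOf u = 2 ∧ Commute u z ∧ u ≠ z}

/-- The facts about the quotient group used for counting its involutions. -/
structure QData (z : X) (m J : ℕ) where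
  hz : orderOf z = 2
  hm : ∃ k, m = 2 ^ k * 9
  hJ : 2 ≤ J
  card_C : Nat.card (Subgroup.centralizer ({z} : Set X)) = m
  card_J : Nat.card (jSet z) = J
  conjJ : ∀ u ∈ jSet z, IsConj z u
  pair : ∀ u ∈ jSet z, ∀ v ∈ jSet z, Commute u v → v = u ∨ v = u * z
  three : ∀ r r' g : X, orderOf r = 3 → Commute r z → Commute r' z → g * r * g⁻¹ = r' → Commute g z
  exp3 : ∀ g : X, Commute g z → g ^ 9 = 1 → g ^ 3 = 1
  /-- The action on three objects. -/
  π : Subgroup.centralizer ({z} : Set X) →* Equiv.Perm (Fin 3)
  πz : ∀ c : Subgroup.centralizer ({z} : Set X), (c : X) = z → π c = 1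
  sgn : ∀ c : Subgroup.centralizer ({z} : Set X), (c : X) ∈ jSet z → Equiv.Perm.sign (π c) = -1
  fib : ∀ τ : Equiv.Perm (Fin 3), Equiv.Perm.sign τ = -1 →
    3 * Nat.card {c : Subgroup.centralizer ({z} : Set X) // (c : X) ∈ jSet z ∧ π c = τ} = J

end CfsgLib.DoubleAlt
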