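import Cfsg.Agent.DoubleAlt.Cent
import Cfsg.Agent.DoubleAlt.Act
import Cfsg.Agent.DoubleAlt.QData
import Mathlib.GroupTheory.QuotientGroup.Basic

/-!
# The centralizer of `y` modulo `y`
-/

set_option autoImplicit false
set_option maxRecDepth 100000
set_option maxHeartbeats 1000000
set_option linter.style.haveILetI false
set_option linter.unusedSectionVars false

namespace CfsgLib.DoubleAlt

open Equiv Equiv.Perm

variable {G : Type*} [Group G] [Finite G] {n : ℕ} [NeZero n] {z : G}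
variable {D : Data z n} {T : Tab n}

namespace Frame

variable (F : Frame D T)

/-- The centralizer of `y`. -/
abbrev Y : Subgroup G := Subgroup.centralizer ({F.y} : Set G)

/-- The subgroup of `y` in its centralizer. -/
def Ny : Subgroup F.Y := (Subgroup.zpowers F.y).subgroupOf F.Y

theorem mem_Y {g : G} : g ∈ F.Y ↔ Commute g F.y := Subgroup.mem_centralizer_singleton_iff

instance : F.Ny.Normal := by
  refine ⟨fun x hx g => ?_⟩
  obtain ⟨k, hk⟩ := hx
  change F.y ^ k = (x : G) at hk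
  refine ⟨k, ?_⟩
  show F.y ^ k = (g : G) * x * (g : G)⁻¹
  rw [← hk, ((F.mem_Y.1 g.2).zpow_right k).eq, mul_inv_cancel_right]

/-- The quotient group. -/
abbrev Q : Type _ := F.Y ⧸ F.Ny

/-- The image in the quotient group. -/
def qmk (g : G) (h : Commute g F.y) : F.Q := QuotientGroup.mk (⟨g, F.mem_Y.2 h⟩ : F.Y)

theorem exists_mk (x : F.Q) : ∃ g, ∃ h : Commute g F.y, F.qmk g h = x := by
  obtain ⟨⟨g, hg⟩, rfl⟩ := QuotientGroup.mk_surjective x
  exact ⟨g, F.mem_Y.1 hg, rfl⟩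

theorem qmk_eq {g h : G} {hg : Commute g F.y} {hh : Commute h F.y} :
    F.qmk g hg = F.qmk h hh ↔ ∃ k : ℤ, F.y ^ k = g⁻¹ * h := by
  rw [qmk, qmk, QuotientGroup.eq]
  rfl

theorem qmk_mul {g h : G} (hg : Commute g F.y) (hh : Commute h F.y) :
    F.qmk g hg * F.qmk h hh = F.qmk (g * h) (hg.mul_left hh) := rfl

theorem qmk_inv {g : G} (hg : Commute g F.y) : (F.qmk g hg)⁻¹ = F.qmk g⁻¹ hg.inv_left := rfl

theorem qmk_one : (1 : F.Q) = F.qmk 1 (Commute.one_left _) := rfl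

theorem qmk_pow {g : G} (hg : Commute g F.y) (k : ℕ) : F.qmk g hg ^ k = F.qmk (g ^ k) (hg.pow_left k) := rfl

theorem ypow_cube (k : ℤ) : (F.y ^ k) ^ 3 = 1 := by
  rw [← zpow_natCast, ← zpow_mul, mul_comm, zpow_mul, zpow_natCast, F.y_cube, one_zpow]

theorem ypow_sq_eq {k : ℤ} (h : F.y ^ k * F.y ^ k = 1) : F.y ^ k = 1 := by
  have h3 := F.ypow_cube k
  rw [pow_succ, _root_.sq, h, one_mul] at h3
  exact h3

theorem y_zc (k : ℤ) : Commute (F.y ^ k) z := F.y_img.comm.zpow_left k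

/-- The image of `z`. -/
def zQ : F.Q := F.qmk z F.y_img.comm.symm

/-- Commuting with the image of `z` lifts. -/
theorem comm_lift {g : G} (hg : Commute g F.y) (h : Commute (F.qmk g hg) F.zQ) : Commute g z := by
  rw [Frame.zQ, commute_iff_eq, qmk_mul, qmk_mul, qmk_eq] at h
  obtain ⟨k, hk⟩ := h
  -- `z g z⁻¹ = g y ^ k`
  have h1 : z * g * z⁻¹ = g * z * F.y ^ k * z⁻¹ := by rw [hk]; group
  have h2 : z * g * z⁻¹ = g * F.y ^ k := by
    rw [h1, mul_assoc g z, ← (F.y_zc k).eq, ← mul_assoc, mul_inv_cancel_right]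
  have h3 : z * (z * g * z⁻¹) * z⁻¹ = g * F.y ^ k * F.y ^ k := by
    rw [h2, ← conj_mul, h2, ← (F.y_zc k).eq, mul_inv_cancel_right]
  rw [show z * (z * g * z⁻¹) * z⁻¹ = (z * z) * g * (z * z)⁻¹ by group, D.z_sq, inv_one, one_mul, mul_one,
    mul_assoc, eq_comm, mul_eq_left] at h3
  rw [F.ypow_sq_eq h3, mul_one] at h2
  exact (mul_inv_eq_iff_eq_mul.1 h2).symm

theorem comm_mk {g : G} (hg : Commute g F.y) (h : Commute g z) : Commute (F.qmk g hg) F.zQ := by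
  rw [Frame.zQ, commute_iff_eq, qmk_mul, qmk_mul]
  congr 1

/-- The common centralizer of `y` and `z`. -/
def Cyz : Subgroup G where
  carrier := {g | Commute g F.y ∧ Commute g z}
  one_mem' := ⟨Commute.one_left _, Commute.one_left _⟩
  mul_mem' h h' := ⟨h.1.mul_left h'.1, h.2.mul_left h'.2⟩
  inv_mem' h := ⟨h.1.inv_left, h.2.inv_left⟩

theorem img_L {g : G} (hy : Commute g F.y) (hz : Commute g z) : ∃ π ∈ T.L, D.Img g π := by
  obtain ⟨π, hπ⟩ := D.img_of_comm hz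
  exact ⟨π, T.mem π ((hπ.mul F.y_img).unique (hy.eq ▸ F.y_img.mul hπ)) hπ.sgn, hπ⟩

theorem lift_L {g : G} {π : Perm (Fin n)} (hπ : π ∈ T.L) (h : D.Img g π) : g ∈ F.Cyz :=
  ⟨(F.y_img.odd_comm h (T.even π hπ).2.symm (odd_of_cube F.y_cube)).symm, h.comm⟩

theorem bool_lift {g : G} {π : Perm (Fin n)} (h : D.Img g π) :
    ∀ g', D.Img g' π → ∃ b : Bool, g' = if b then g * z else g := by
  intro g' h'
  rcases h'.eq_or h with e | e
  · exact ⟨false, e⟩
  · exact ⟨true, e⟩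

theorem img_bool {g : G} {π : Perm (Fin n)} (h : D.Img g π) (b : Bool) :
    D.Img (if b then g * z else g) π := by
  cases b
  · exact h
  · simpa using h.mul D.img_z

theorem nodup_card {β : Type*} [DecidableEq β] {l : List β} (h : l.Nodup) : Nat.card {x // x ∈ l} = l.length := by
  rw [Nat.card_eq_fintype_card, Fintype.card_of_subtype l.toFinset (fun x => List.mem_toFinset),
    List.toFinset_card_of_nodup h]

/-- Counting lifts. -/
theorem card_lifts {l : List (Perm (Fin n))} (hl : l.Nodup) (hL : ∀ π ∈ l, π ∈ T.L) :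
    Nat.card {g : G // ∃ π ∈ l, D.Img g π} = 2 * l.length := by
  classical
  choose f hf using fun π : {x // x ∈ l} => D.exists_img (T.even π.1 (hL π.1 π.2)).1
  let φ : Bool × {x // x ∈ l} → {g : G // ∃ π ∈ l, D.Img g π} :=
    fun w => ⟨if w.1 then f w.2 * z else f w.2, w.2.1, w.2.2, img_bool (hf w.2) w.1⟩
  have hφ : Function.Bijective φ := by
    constructor
    · rintro ⟨b, π⟩ ⟨b', π'⟩ h
      have h' : (if b then f π * z else f π) = if b' then f π' * z else f π' := congrArg Subtype.val h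
      obtain rfl : π = π' := Subtype.ext ((img_bool (hf π) b).unique (h' ▸ img_bool (hf π') b'))
      cases b <;> cases b' <;> simp_all [D.z_ne]
    · rintro ⟨g, π, hπ, hg⟩
      obtain ⟨b, hb⟩ := bool_lift (hf ⟨π, hπ⟩) g hg
      exact ⟨⟨b, π, hπ⟩, Subtype.ext hb.symm⟩
  rw [← Nat.card_eq_of_bijective φ hφ, Nat.card_prod, nodup_card hl]
  simp

variable {m J : ℕ}

theorem card_Cyz (A : Act T m J) : Nat.card F.Cyz = 2 * T.L.length := by
  rw [← card_lifts (T := T) (D := D) A.nodup (fun _ h => h)]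
  exact Nat.card_congr (Equiv.subtypeEquivRight fun g =>
    ⟨fun h => F.img_L h.1 h.2, fun ⟨π, hπ, hg⟩ => F.lift_L hπ hg⟩)

/-- The map onto the centralizer of the image of `z`. -/
def toC : F.Cyz →* Subgroup.centralizer ({F.zQ} : Set F.Q) where
  toFun g := ⟨F.qmk g g.2.1, Subgroup.mem_centralizer_singleton_iff.2 (F.comm_mk g.2.1 g.2.2).eq⟩
  map_one' := rfl
  map_mul' _ _ := rfl

theorem toC_surj : Function.Surjective F.toC := by
  rintro ⟨x, hx⟩
  obtain ⟨g, hg, rfl⟩ := F.exists_mk x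
  exact ⟨⟨g, hg, F.comm_lift hg (Subgroup.mem_centralizer_singleton_iff.1 hx)⟩, rfl⟩

theorem toC_ker {g : F.Cyz} : g ∈ F.toC.ker ↔ ∃ k : ℤ, F.y ^ k = (g : G) := by
  rw [MonoidHom.mem_ker]
  constructor
  · intro h
    have h1 : F.qmk g g.2.1 = 1 := congrArg Subtype.val h
    rw [F.qmk_one, eq_comm, qmk_eq] at h1
    simpa using h1
  · intro h
    refine Subtype.ext ?_
    show F.qmk g g.2.1 = 1
    rw [F.qmk_one, eq_comm, qmk_eq]
    simpa using h

theorem card_C (A : Act T m J) : Nat.card (Subgroup.centralizer ({F.zQ} : Set F.Q)) = m := by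
  have hk : Nat.card F.toC.ker = 3 := by
    rw [← orderOf_eq_prime F.y_cube F.y_ne, ← Nat.card_zpowers]
    refine Nat.card_congr ⟨fun g => ⟨g.1.1, ?_⟩, fun x => ⟨⟨x.1, ?_⟩, ?_⟩, fun g => rfl, fun x => rfl⟩
    · obtain ⟨k, hk⟩ := F.toC_ker.1 g.2
      exact ⟨k, hk⟩
    · obtain ⟨k, hk⟩ := x.2
      change F.y ^ k = x.1 at hk
      rw [← hk]
      exact ⟨(Commute.refl F.y).zpow_left k, F.y_zc k⟩
    · obtain ⟨k, hk⟩ := x.2
      exact F.toC_ker.2 ⟨k, hk⟩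
  have h := Subgroup.card_eq_card_quotient_mul_card_subgroup F.toC.ker
  rw [Nat.card_congr (QuotientGroup.quotientKerEquivOfSurjective _ F.toC_surj).toEquiv, hk, F.card_Cyz A,
    A.card] at h
  omega

/-- Lifts of the involutions. -/
theorem eight_lift {w : G} (hy : Commute w F.y) (hz : Commute w z) (h2 : w * w = 1) (h1 : w ≠ 1) (hne : w ≠ z) :
    ∃ π ∈ eightList T.L, D.Img w π := by
  classical
  obtain ⟨π, hπ, hπ2, -, h8⟩ := D.involution hz h2 h1 hne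
  refine ⟨π, List.mem_filter.2 ⟨?_, ?_⟩, hπ⟩
  · exact T.mem π ((hπ.mul F.y_img).unique (hy.eq ▸ F.y_img.mul hπ)) hπ.sgn
  · rw [decide_eq_true_iff]
    exact ⟨hπ2, by rw [nMoved_eq]; exact moved_eight T h8 hπ.sgn hπ2⟩

theorem eight_invol {w : G} {π : Perm (Fin n)} (hπ : π ∈ eightList T.L) (hw : D.Img w π) :
    w * w = 1 ∧ w ≠ 1 ∧ w ≠ z ∧ ∃ h ∈ F.Cyz, h * w * h⁻¹ = F.a ∨ h * w * h⁻¹ = F.a * z := by
  classical
  obtain ⟨hL, hp⟩ := List.mem_filter.1 hπ
  rw [decide_eq_true_iff] at hp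
  obtain ⟨k, hk, hkπ⟩ := T.conjA π hL hp.1 hp.2
  obtain ⟨h, hh⟩ := D.exists_img (T.even k hk).1
  have hne : π ≠ 1 := fun e => by
    have := hp.2
    rw [e, nMoved_eq] at this
    simp at this
  have hc : h * w * h⁻¹ = F.a ∨ h * w * h⁻¹ = F.a * z := (hkπ ▸ hh.conj hw : D.Img _ (pa n)).eq_or F.ha
  refine ⟨?_, ?_, ?_, h, F.lift_L hk hh, hc⟩
  · have e2 : h * w * h⁻¹ * (h * w * h⁻¹) = 1 := by
      rcases hc with e | e <;> rw [e]
      · exact F.ha2
      · rw [mul_assoc, ← mul_assoc z F.a z, F.a_z.symm.eq, mul_assoc F.a z z, D.z_sq, mul_one, F.ha2]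
    rw [show h * w * h⁻¹ * (h * w * h⁻¹) = h * (w * w) * h⁻¹ by group] at e2
    exact conj_eq_one_iff.1 e2
  · rintro rfl; exact hne (hw.unique D.img_one)
  · rintro rfl; exact hne (hw.unique D.img_z)

/-- The involutions of the quotient centralizer. -/
theorem jSet_lift {x : F.Q} (hx : x ∈ jSet F.zQ) :
    ∃ w, ∃ hw : Commute w F.y, ∃ π ∈ eightList T.L, D.Img w π ∧ F.qmk w hw = x := by
  obtain ⟨ho, hc, hne⟩ := hx
  obtain ⟨g, hg, rfl⟩ := F.exists_mk x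
  have hgz := F.comm_lift hg hc
  have h2 : F.qmk g hg ^ 2 = 1 := by rw [← ho, pow_orderOf_eq_one]
  rw [qmk_pow, F.qmk_one, eq_comm, qmk_eq] at h2
  obtain ⟨k, hk⟩ := h2
  rw [inv_one, one_mul] at hk
  have hg3 : g ^ 3 = g * F.y ^ k := by rw [hk, ← pow_succ']
  have hsq : g ^ 3 * g ^ 3 = 1 := by
    rw [← pow_add, show 3 + 3 = 2 * 3 by rfl, pow_mul, ← hk, F.ypow_cube]
  have heq : F.qmk (g ^ 3) (hg.pow_left 3) = F.qmk g hg := by
    rw [eq_comm, qmk_eq]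
    exact ⟨k, by rw [hg3, inv_mul_cancel_left]⟩
  have hne1 : g ^ 3 ≠ 1 := fun e => by
    have : F.qmk g hg = 1 := by
      rw [← heq, F.qmk_one]
      congr 1
    rw [this, orderOf_one] at ho
    omega
  have hnez : g ^ 3 ≠ z := fun e => hne (by
    rw [← heq, Frame.zQ]
    congr 1)
  obtain ⟨π, hπ, hwπ⟩ := F.eight_lift (hg.pow_left 3) (hgz.pow_left 3) hsq hne1 hnez
  exact ⟨g ^ 3, hg.pow_left 3, π, hπ, hwπ, heq⟩

theorem qmk_inj {w w' : G} {hw : Commute w F.y} {hw' : Commute w' F.y} (h : F.qmk w hw = F.qmk w' hw')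
    (h2 : w * w = 1) (h2' : w' * w' = 1) : w = w' := by
  rw [qmk_eq] at h
  obtain ⟨k, hk⟩ := h
  have hkw : Commute (F.y ^ k) w := hw.symm.zpow_left k
  have e : w' = w * F.y ^ k := by rw [hk]; group
  rw [e, show w * F.y ^ k * (w * F.y ^ k) = w * (F.y ^ k * w) * F.y ^ k by group, hkw.eq, ← mul_assoc w, h2,
    one_mul] at h2'
  rw [e, F.ypow_sq_eq h2', mul_one]

theorem mem_jSet {w : G} {π : Perm (Fin n)} (hπ : π ∈ eightList T.L) (hw : D.Img w π) {h : Commute w F.y} :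
    F.qmk w h ∈ jSet F.zQ := by
  obtain ⟨h2, h1, hne, -⟩ := F.eight_invol hπ hw
  refine ⟨orderOf_eq_prime ?_ ?_, F.comm_mk h hw.comm, ?_⟩
  · rw [qmk_pow, F.qmk_one]; congr 1; rw [_root_.sq, h2]
  · intro e; rw [F.qmk_one] at e; exact h1 (F.qmk_inj e h2 (mul_one 1))
  · intro e; exact hne (F.qmk_inj e h2 D.z_sq)

theorem zQ_order : orderOf F.zQ = 2 := by
  refine orderOf_eq_prime ?_ ?_
  · rw [Frame.zQ, qmk_pow, F.qmk_one]; congr 1; rw [_root_.sq, D.z_sq]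
  · intro e; rw [F.qmk_one] at e; exact D.z_ne (F.qmk_inj e D.z_sq (mul_one 1))

theorem card_J (A : Act T m J) : Nat.card (jSet F.zQ) = J := by
  classical
  have hnd : (eightList T.L).Nodup := A.nodup.filter _
  rw [← A.eight, ← card_lifts (D := D) hnd (fun π hπ => (List.mem_filter.1 hπ).1)]
  have hy : ∀ {g : G} {π : Perm (Fin n)}, π ∈ eightList T.L → D.Img g π → Commute g F.y :=
    fun hπ hg => (F.lift_L (List.mem_filter.1 hπ).1 hg).1
  let φ : {g : G // ∃ π ∈ eightList T.L, D.Img g π} → jSet F.zQ := fun g =>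
    ⟨F.qmk g.1 (hy g.2.choose_spec.1 g.2.choose_spec.2), F.mem_jSet g.2.choose_spec.1 g.2.choose_spec.2⟩
  refine (Nat.card_eq_of_bijective φ ⟨?_, ?_⟩).symm
  · rintro ⟨w, π, hπ, hw⟩ ⟨w', π', hπ', hw'⟩ e
    have e' : F.qmk w (hy hπ hw) = F.qmk w' (hy hπ' hw') := congrArg Subtype.val e
    exact Subtype.ext (F.qmk_inj e' (F.eight_invol hπ hw).1 (F.eight_invol hπ' hw').1)
  · rintro ⟨x, hx⟩
    obtain ⟨w, hw, π, hπ, hwπ, rfl⟩ := F.jSet_lift hx
    exact ⟨⟨w, π, hπ, hwπ⟩, rfl⟩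

/-- The lifts of commuting involutions commute. -/
theorem comm_invol {v w : G} {hv : Commute v F.y} {hw : Commute w F.y} (h : Commute (F.qmk v hv) (F.qmk w hw))
    (hw2 : w * w = 1) (hv2 : v * v = 1) : Commute v w := by
  rw [commute_iff_eq, qmk_mul, qmk_mul, qmk_eq] at h
  obtain ⟨k, hk⟩ := h
  have hvi : v⁻¹ = v := inv_eq_of_mul_eq_one_right hv2
  have hwi : w⁻¹ = w := inv_eq_of_mul_eq_one_right hw2
  rw [mul_inv_rev, hvi, hwi] at hk
  -- `w v w v = y ^ k`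
  have hkw : Commute (F.y ^ k) w := hw.symm.zpow_left k
  have h3 : w * (F.y ^ k) * w⁻¹ = (F.y ^ k)⁻¹ := by
    rw [hk]
    simp only [mul_inv_rev, hvi, hwi, mul_assoc]
    rw [← mul_assoc w w, hw2, one_mul]
  rw [← hkw.eq, mul_inv_cancel_right, eq_inv_iff_mul_eq_one] at h3
  rw [F.ypow_sq_eq h3] at hk
  have h4 : w * v * (w * v) = 1 := hk.symm
  rw [commute_iff_eq, ← inv_eq_of_mul_eq_one_right h4, mul_inv_rev, hvi, hwi]

theorem conjJ (τ : Turn F) {x : F.Q} (hx : x ∈ jSet F.zQ) : IsConj F.zQ x := by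
  obtain ⟨w, hw, π, hπ, hwπ, rfl⟩ := F.jSet_lift hx
  obtain ⟨-, -, -, h, hh, hc⟩ := F.eight_invol hπ hwπ
  obtain ⟨u, hu, huz⟩ : ∃ u, Commute u F.y ∧ u * z * u⁻¹ = w := by
    rcases hc with e | e
    · refine ⟨h⁻¹ * τ.t, hh.1.inv_left.mul_left τ.ty, ?_⟩
      rw [show h⁻¹ * τ.t * z * (h⁻¹ * τ.t)⁻¹ = h⁻¹ * (τ.t * z * τ.t⁻¹) * h by group, τ.tz, ← e]
      group
    · refine ⟨h⁻¹ * (τ.t * τ.t), hh.1.inv_left.mul_left (τ.ty.mul_left τ.ty), ?_⟩
      rw [show h⁻¹ * (τ.t * τ.t) * z * (h⁻¹ * (τ.t * τ.t))⁻¹ = h⁻¹ * (τ.t * (τ.t * z * τ.t⁻¹) * τ.t⁻¹) * h by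
        group, τ.tz, τ.ta, ← e]
      group
  refine isConj_iff.2 ⟨F.qmk u hu, ?_⟩
  rw [Frame.zQ, qmk_mul, qmk_inv, qmk_mul]
  congr 1

theorem pairJ {x x' : F.Q} (hx : x ∈ jSet F.zQ) (hx' : x' ∈ jSet F.zQ) (hc : Commute x x') :
    x' = x ∨ x' = x * F.zQ := by
  classical
  obtain ⟨w, hw, π, hπ, hwπ, rfl⟩ := F.jSet_lift hx
  obtain ⟨v, hv, ρ, hρ, hvρ, rfl⟩ := F.jSet_lift hx'
  obtain ⟨w2, -, -, h, hh, hcase⟩ := F.eight_invol hπ hwπ
  obtain ⟨v2, v1, vz, -⟩ := F.eight_invol hρ hvρ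
  have hcm : Commute w v := F.comm_invol hc v2 w2
  obtain ⟨k, hk⟩ := D.img_of_comm hh.2
  have hbπ : D.Img (h * w * h⁻¹) (pa n) := by
    rcases hcase with e | e <;> rw [e]
    · exact F.ha
    · simpa using F.ha.mul D.img_z
  have hvz' : Commute (h * v * h⁻¹) z := by
    have := commute_conj (g := h) hvρ.comm
    rwa [hh.2.eq, mul_inv_cancel_right] at this
  have hvy' : Commute (h * v * h⁻¹) F.y := by
    have := commute_conj (g := h) hv
    rwa [hh.1.eq, mul_inv_cancel_right] at this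
  have hv2' : h * v * h⁻¹ * (h * v * h⁻¹) = 1 := by rw [conj_mul, v2, mul_one, mul_inv_cancel]
  obtain ⟨σ, hσ, hvσ⟩ := F.eight_lift hvy' hvz' hv2' (fun e => v1 (conj_eq_one_iff.1 e)) (fun e => vz (by
    calc v = h⁻¹ * (h * v * h⁻¹) * h := by group
      _ = h⁻¹ * (z * h) := by rw [e, mul_assoc]
      _ = z := by rw [hh.2.symm.eq, inv_mul_cancel_left]))
  obtain ⟨hσL, hσp⟩ := List.mem_filter.1 hσ
  rw [decide_eq_true_iff] at hσp
  have hcm' : Commute (h * v * h⁻¹) (h * w * h⁻¹) := commute_conj hcm.symm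
  rcases T.pairA σ hσL hσp.1 hσp.2 ((hvσ.mul hbπ).unique (hcm'.eq ▸ hbπ.mul hvσ)) with rfl | ⟨e2, e4⟩
  · rcases hvσ.eq_or hbπ with e | e
    · left
      congr 1
      exact mul_left_cancel (mul_right_cancel e)
    · right
      rw [Frame.zQ, qmk_mul]
      congr 1
      calc v = h⁻¹ * (h * v * h⁻¹) * h := by group
        _ = h⁻¹ * (h * w * h⁻¹) * (z * h) := by rw [e]; simp only [mul_assoc]
        _ = h⁻¹ * (h * w * h⁻¹) * (h * z) := by rw [hh.2.symm.eq]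
        _ = w * z := by group
  · exfalso
    have hsq := (hvσ.mul hbπ).double_sq (cycleType_double e2 e4)
    rw [mul_assoc, ← mul_assoc (h * w * h⁻¹), hcm'.symm.eq, mul_assoc (h * v * h⁻¹) (h * w * h⁻¹),
      conj_mul, w2, mul_one, mul_inv_cancel, mul_one, hv2'] at hsq
    exact D.z_ne hsq.symm

theorem el_of_dc {q : Perm (Fin n)} (hq : q ∈ dcList n) :
    ∃ i j : Fin 3, q = pd n ^ (i : ℕ) * c3 n ^ (j : ℕ) := by
  simp only [dcList, List.mem_flatMap, List.mem_map, List.mem_cons, List.not_mem_nil, or_false] at hq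
  obtain ⟨u, hu, v, hv, rfl⟩ := hq
  rcases hu with rfl | rfl | rfl <;> rcases hv with rfl | rfl | rfl
  exacts [⟨0, 0, by simp⟩, ⟨0, 1, by simp⟩, ⟨0, 2, by simp [pow_two]⟩, ⟨1, 0, by simp⟩, ⟨1, 1, by simp⟩,
    ⟨1, 2, by simp [pow_two]⟩, ⟨2, 0, by simp [pow_two]⟩, ⟨2, 1, by simp [pow_two]⟩,
    ⟨2, 2, by simp [pow_two]⟩]

/-- Elements of order three of the quotient centralizer, up to conjugation. -/
theorem three_lift {x : F.Q} (hx : orderOf x = 3) (hc : Commute x F.zQ) :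
    ∃ r, ∃ hr : Commute r F.y, ∃ h ∈ F.Cyz, ∃ i j : Fin 3, ∃ k : ℤ, ¬ (i = 0 ∧ j = 0) ∧ F.qmk r hr = x ∧
      h * r * h⁻¹ = F.el i j * F.y ^ k := by
  obtain ⟨r, hr, rfl⟩ := F.exists_mk x
  have hrz := F.comm_lift hr hc
  have h3 : F.qmk r hr ^ 3 = 1 := by rw [← hx, pow_orderOf_eq_one]
  rw [qmk_pow, F.qmk_one, eq_comm, qmk_eq] at h3
  obtain ⟨k, hk⟩ := h3
  rw [inv_one, one_mul] at hk
  have hodd : Odd (orderOf r) := Odd.of_dvd_nat (by decide : Odd 9) (orderOf_dvd_of_pow_eq_one (by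
    rw [show (9 : ℕ) = 3 * 3 from rfl, pow_mul, ← hk, F.ypow_cube]))
  obtain ⟨π, hπL, hπ, hπ3⟩ := F.odd_img hrz hr hodd
  obtain ⟨q, hq, hqb⟩ := T.threeBase π hπL hπ3
  obtain ⟨e, he, hed⟩ := T.reduce _ hqb
  obtain ⟨i, j, hij⟩ := el_of_dc hed
  obtain ⟨h, hh⟩ := D.exists_img (T.even q hq).1
  have hhC := F.lift_L hq hh
  simp only [List.mem_cons, List.not_mem_nil, or_false] at he
  obtain ⟨c, hc'⟩ : ∃ c : ℕ, e = py n ^ c := by
    rcases he with rfl | rfl | rfl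
    exacts [⟨0, by simp⟩, ⟨1, by simp⟩, ⟨2, by simp [pow_two]⟩]
  have hord : Odd (orderOf (h * r * h⁻¹ * F.y ^ c)) := by
    have hcm : Commute (h * r * h⁻¹) (F.y ^ c) := by
      refine Commute.pow_right ?_ c
      have := commute_conj (g := h) hr
      rwa [hhC.1.eq, mul_inv_cancel_right] at this
    refine Odd.of_dvd_nat (by decide : Odd 9) (orderOf_dvd_of_pow_eq_one ?_)
    rw [hcm.mul_pow, conj_pow, show (9 : ℕ) = 3 * 3 from rfl, pow_mul r, ← hk, F.ypow_cube, mul_one,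
      mul_inv_cancel, one_mul, ← pow_mul, mul_comm, pow_mul, pow_mul, F.y_cube, one_pow, one_pow]
  have heq : h * r * h⁻¹ * F.y ^ c = F.el i j := by
    refine Data.Img.odd_eq ?_ (F.el_img i j) hord (odd_of_cube (F.el_cube i j))
    rw [← hij, hc']
    exact (hh.conj hπ).mul (F.y_img.pow c)
  have hkey : h * r * h⁻¹ = F.el i j * F.y ^ (-(c : ℤ)) := by
    rw [zpow_neg, zpow_natCast, eq_mul_inv_iff_mul_eq, heq]
  refine ⟨r, hr, h, hhC, i, j, -(c : ℤ), ?_, rfl, hkey⟩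
  rintro ⟨rfl, rfl⟩
  rw [show F.el (0 : Fin 3) 0 = 1 by simp [Frame.el], one_mul] at hkey
  have : F.qmk r hr = 1 := by
    rw [F.qmk_one, eq_comm, qmk_eq, inv_one, one_mul]
    refine ⟨-(c : ℤ), ?_⟩
    rw [show r = h⁻¹ * (h * r * h⁻¹) * h by group, hkey,
      mul_assoc, ← (hhC.1.zpow_right _).eq, inv_mul_cancel_left]
  rw [this, orderOf_one] at hx
  omega

theorem threeJ (hcent : ∀ i j : Fin 3, ¬ (i = 0 ∧ j = 0) → ∀ g : G, Commute g F.y → Commute g (F.el i j) →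
    Commute g z) (hne : ∀ i j : Fin 3, ¬ (i = 0 ∧ j = 0) → pd n ^ (i : ℕ) * c3 n ^ (j : ℕ) ≠ 1)
    {x x' u : F.Q} (hx : orderOf x = 3) (hxz : Commute x F.zQ) (hxz' : Commute x' F.zQ)
    (he : u * x * u⁻¹ = x') : Commute u F.zQ := by
  have hx' : orderOf x' = 3 := by
    rw [← he, show u * x * u⁻¹ = MulAut.conj u x from rfl, MulEquiv.orderOf_eq, hx]
  obtain ⟨r, hr, h, hh, i, j, k, hij, rfl, hkey⟩ := F.three_lift hx hxz
  obtain ⟨r', hr', h', hh', i', j', k', hij', rfl, hkey'⟩ := F.three_lift hx' hxz'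
  obtain ⟨g, hg, rfl⟩ := F.exists_mk u
  rw [qmk_mul, qmk_inv, qmk_mul, eq_comm, qmk_eq] at he
  obtain ⟨e, he⟩ := he
  have hgr : g * r * g⁻¹ = r' * F.y ^ e := by rw [he]; group
  have hrz : Commute r z := F.comm_lift hr hxz
  set w := g * z * g⁻¹ with hw
  have hwy : Commute w F.y := by
    have := commute_conj (g := g) F.y_img.comm.symm
    rwa [hg.eq, mul_inv_cancel_right] at this
  have hwr : Commute w r' := by
    have h1 := commute_conj (g := g) hrz.symm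
    rw [hgr] at h1
    have h2 : Commute w (r' * F.y ^ e * (F.y ^ e)⁻¹) := h1.mul_right (hwy.zpow_right e).inv_right
    rwa [mul_inv_cancel_right] at h2
  -- conjugate into the standard position
  set w' := h' * w * h'⁻¹ with hw'
  have hwy' : Commute w' F.y := by
    have := commute_conj (g := h') hwy
    rwa [hh'.1.eq, mul_inv_cancel_right] at this
  have hwe : Commute w' (F.el i' j') := by
    have h1 := commute_conj (g := h') hwr
    rw [hkey'] at h1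
    have h2 : Commute w' (F.el i' j' * F.y ^ k' * (F.y ^ k')⁻¹) := h1.mul_right (hwy'.zpow_right k').inv_right
    rwa [mul_inv_cancel_right] at h2
  have hwz : Commute w' z := hcent i' j' hij' w' hwy' hwe
  have honly := only_of_noInv F (F.el_img i' j') (dc_mem T i' j') (hne i' j' hij')
  have hw2 : w' * w' = 1 := by
    rw [hw', hw, conj_mul, conj_mul, D.z_sq]; group
  rcases honly w' ⟨F.mem_Y.2 hwy', Subgroup.mem_centralizer_singleton_iff.2 hwe⟩ hw2 hwz with e1 | e1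
  · rw [hw', hw, conj_eq_one_iff, conj_eq_one_iff] at e1
    exact absurd e1 D.z_ne
  · refine F.comm_mk hg (mul_inv_eq_iff_eq_mul.1 (show g * z * g⁻¹ = z from ?_))
    calc g * z * g⁻¹ = h'⁻¹ * w' * h' := by rw [hw', hw]; group
      _ = h'⁻¹ * (z * h') := by rw [e1, mul_assoc]
      _ = z := by rw [hh'.2.symm.eq, inv_mul_cancel_left]

theorem exp3J {x : F.Q} (hc : Commute x F.zQ) (h9 : x ^ 9 = 1) : x ^ 3 = 1 := by
  obtain ⟨g, hg, rfl⟩ := F.exists_mk x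
  have hgz := F.comm_lift hg hc
  rw [qmk_pow, F.qmk_one, eq_comm, qmk_eq] at h9
  obtain ⟨k, hk⟩ := h9
  rw [inv_one, one_mul] at hk
  have hodd : Odd (orderOf g) := Odd.of_dvd_nat (by decide : Odd 27) (orderOf_dvd_of_pow_eq_one (by
    rw [show (27 : ℕ) = 9 * 3 from rfl, pow_mul, ← hk, F.ypow_cube]))
  rw [qmk_pow, F.qmk_one]
  congr 1
  exact F.cube_of_odd hgz hg hodd

/-- The action of the common centralizer on three objects. -/
noncomputable def actHom (A : Act T m J) : F.Cyz →* Perm (Fin 3) where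
  toFun g := indPerm A.d (D.cov.pr ⟨g, Subgroup.mem_centralizer_singleton_iff.2 g.2.2.eq⟩)
  map_one' := by
    rw [show (⟨((1 : F.Cyz) : G), _⟩ : Subgroup.centralizer ({z} : Set G)) = 1 from Subtype.ext rfl, map_one]
    exact A.idTriv
  map_mul' g h := by
    have key : ∀ (x : F.Cyz) (i), D.cov.pr ⟨x, Subgroup.mem_centralizer_singleton_iff.2 x.2.2.eq⟩ * A.d i *
        (D.cov.pr ⟨x, Subgroup.mem_centralizer_singleton_iff.2 x.2.2.eq⟩)⁻¹ =
        A.d (indPerm A.d (D.cov.pr ⟨x, Subgroup.mem_centralizer_singleton_iff.2 x.2.2.eq⟩) i) := fun x i => by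
      obtain ⟨π, hπL, hπ⟩ := F.img_L x.2.1 x.2.2
      have e : D.cov.pr ⟨x, Subgroup.mem_centralizer_singleton_iff.2 x.2.2.eq⟩ = π :=
        Data.Img.unique (D := D) (g := (x : G)) ⟨_, rfl, rfl⟩ hπ
      rw [e]
      exact A.spec π hπL i
    refine Equiv.ext fun i => A.inj ?_
    rw [← key (g * h) i, Perm.mul_apply, ← key g, ← key h,
      show (⟨((g * h : F.Cyz) : G), Subgroup.mem_centralizer_singleton_iff.2 (g * h).2.2.eq⟩ :
        Subgroup.centralizer ({z} : Set G)) = ⟨g, Subgroup.mem_centralizer_singleton_iff.2 g.2.2.eq⟩ *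
          ⟨h, Subgroup.mem_centralizer_singleton_iff.2 h.2.2.eq⟩ from Subtype.ext rfl, map_mul]
    group

theorem actHom_img (A : Act T m J) (g : F.Cyz) {π : Perm (Fin n)} (h : D.Img (g : G) π) :
    F.actHom A g = indPerm A.d π := by
  show indPerm A.d _ = _
  rw [Data.Img.unique (D := D) (g := (g : G)) ⟨_, rfl, rfl⟩ h]

theorem actHom_ker (A : Act T m J) : F.toC.ker ≤ (F.actHom A).ker := by
  intro g hg
  obtain ⟨k, hk⟩ := F.toC_ker.1 hg
  let yC : F.Cyz := ⟨F.y, Commute.refl _, F.y_img.comm⟩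
  have e : g = yC ^ k := Subtype.ext hk.symm
  rw [MonoidHom.mem_ker, e, map_zpow, F.actHom_img A yC F.y_img, A.pyTriv, one_zpow]

/-- The action of the quotient centralizer on three objects. -/
noncomputable def actQ (A : Act T m J) : Subgroup.centralizer ({F.zQ} : Set F.Q) →* Perm (Fin 3) :=
  F.toC.liftOfSurjective F.toC_surj ⟨F.actHom A, F.actHom_ker A⟩

theorem actQ_mk (A : Act T m J) (c : Subgroup.centralizer ({F.zQ} : Set F.Q)) {g : G} {π : Perm (Fin n)}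
    {hg : Commute g F.y} (hc : (c : F.Q) = F.qmk g hg) (h : D.Img g π) : F.actQ A c = indPerm A.d π := by
  let g' : F.Cyz := ⟨g, hg, h.comm⟩
  have e : c = F.toC g' := Subtype.ext hc
  rw [e, actQ, MonoidHom.liftOfSurjective, MonoidHom.liftOfRightInverse_comp_apply]
  exact F.actHom_img A g' h

theorem fibJ (A : Act T m J) {σ : Perm (Fin 3)} (hσ : sign σ = -1) :
    3 * Nat.card {c : Subgroup.centralizer ({F.zQ} : Set F.Q) // (c : F.Q) ∈ jSet F.zQ ∧ F.actQ A c = σ} = J := by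
  classical
  refine Eq.trans ?_ (A.fib σ (mem_transThree σ hσ))
  congr 1
  set l := (eightList T.L).filter fun π => decide (indPerm A.d π = σ) with hl
  have hmem : ∀ {π}, π ∈ l ↔ π ∈ eightList T.L ∧ indPerm A.d π = σ := fun {π} => by simp [hl]
  have hnd : l.Nodup := (A.nodup.filter _).filter _
  have hsub : ∀ π ∈ l, π ∈ T.L := fun π hπ => (List.mem_filter.1 (hmem.1 hπ).1).1
  rw [← card_lifts (D := D) hnd hsub]
  have hy : ∀ {g : G} {π : Perm (Fin n)}, π ∈ eightList T.L → D.Img g π → g ∈ F.Cyz :=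
    fun hπ hg => F.lift_L (List.mem_filter.1 hπ).1 hg
  let φ : {g : G // ∃ π ∈ l, D.Img g π} →
      {c : Subgroup.centralizer ({F.zQ} : Set F.Q) // (c : F.Q) ∈ jSet F.zQ ∧ F.actQ A c = σ} := fun g =>
    ⟨F.toC ⟨g.1, hy (hmem.1 g.2.choose_spec.1).1 g.2.choose_spec.2⟩,
      F.mem_jSet (h := (hy (hmem.1 g.2.choose_spec.1).1 g.2.choose_spec.2).1)
        (hmem.1 g.2.choose_spec.1).1 g.2.choose_spec.2,
      (F.actQ_mk A _ (hg := (hy (hmem.1 g.2.choose_spec.1).1 g.2.choose_spec.2).1) rfl g.2.choose_spec.2).trans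
        (hmem.1 g.2.choose_spec.1).2⟩
  refine (Nat.card_eq_of_bijective φ ⟨?_, ?_⟩).symm
  · rintro ⟨w, π, hπ, hw⟩ ⟨w', π', hπ', hw'⟩ e
    have e' : F.qmk w (hy (hmem.1 hπ).1 hw).1 = F.qmk w' (hy (hmem.1 hπ').1 hw').1 :=
      congrArg (fun c => (c.1 : F.Q)) e
    exact Subtype.ext (F.qmk_inj e' (F.eight_invol (hmem.1 hπ).1 hw).1 (F.eight_invol (hmem.1 hπ').1 hw').1)
  · rintro ⟨c, hc, hcσ⟩
    obtain ⟨w, hw, π, hπ, hwπ, he⟩ := F.jSet_lift hc
    refine ⟨⟨w, π, hmem.2 ⟨hπ, (F.actQ_mk A c he.symm hwπ).symm.trans hcσ⟩, hwπ⟩, Subtype.ext (Subtype.ext he)⟩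

/-- The data of the quotient group. -/
noncomputable def qdata (τ : Turn F) (A : Act T m J) (hm : ∃ k, m = 2 ^ k * 9) (hJ : 2 ≤ J)
    (hcent : ∀ i j : Fin 3, ¬ (i = 0 ∧ j = 0) → ∀ g : G, Commute g F.y → Commute g (F.el i j) → Commute g z)
    (hne : ∀ i j : Fin 3, ¬ (i = 0 ∧ j = 0) → pd n ^ (i : ℕ) * c3 n ^ (j : ℕ) ≠ 1) : QData F.zQ m J where
  hz := F.zQ_order
  hm := hm
  hJ := hJ
  card_C := F.card_C A
  card_J := F.card_J A
  conjJ _ hu := F.conjJ τ hu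
  pair _ hu _ hv h := F.pairJ hu hv h
  three _ _ _ ho hr hr' he := F.threeJ hcent hne ho hr hr' he
  exp3 _ hg h9 := F.exp3J hg h9
  π := F.actQ A
  πz c hc := by
    rw [F.actQ_mk A c (hg := F.y_img.comm.symm) hc D.img_z]
    exact A.idTriv
  sgn c hc := by
    obtain ⟨w, hw, π, hπ, hwπ, he⟩ := F.jSet_lift hc
    rw [F.actQ_mk A c he.symm hwπ]
    exact sign_transThree _ (A.sgn π hπ)
  fib _ hσ := F.fibJ A hσ

end Frame

end CfsgLib.DoubleAlt
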