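import Cfsg.Agent.Invol.IsolatedApps
import Cfsg.Agent.Solvable.CoprimeAbelian

/-!
# An involution acting on subgroups of odd order
-/

set_option autoImplicit false
set_option linter.style.haveILetI false
set_option linter.unusedSectionVars false

namespace CfsgLib.DoubleAlt

open Subgroup

variable {G : Type*} [Group G] [Finite G] {z : G}

/-- `w` is the only involution of `K` commuting with `z`. -/
def OnlyInvol (K : Subgroup G) (z : G) : Prop :=
  ∀ w ∈ K, w * w = 1 → Commute w z → w = 1 ∨ w = z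

/-- Without inverted elements of odd order an involution with no commuting partner is central. -/
theorem commute_of_only {K : Subgroup G} (hz : z * z = 1) (hzK : z ∈ K) (h1 : OnlyInvol K z)
    (h2 : ∀ m ∈ K, Odd (orderOf m) → z * m * z⁻¹ = m⁻¹ → m = 1) {g : G} (hg : g ∈ K) : Commute g z := by
  have hzi : z⁻¹ = z := inv_eq_of_mul_eq_one_right hz
  set w := g * z * g⁻¹ with hw
  have hwK : w ∈ K := mul_mem (mul_mem hg hzK) (inv_mem hg)
  have hw2 : w * w = 1 := by rw [hw, show g * z * g⁻¹ * (g * z * g⁻¹) = g * (z * z) * g⁻¹ by group, hz]; group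
  have hwi : w⁻¹ = w := inv_eq_of_mul_eq_one_right hw2
  have hinv : z * (w * z) * z⁻¹ = (w * z)⁻¹ := by
    rw [mul_inv_rev, hzi, hwi, mul_assoc z (w * z) z, mul_assoc w z z, hz, mul_one]
  by_cases hodd : Odd (orderOf (w * z))
  · have := h2 _ (mul_mem hwK hzK) hodd hinv
    have he : w = z := by rw [← hzi]; exact eq_inv_of_mul_eq_one_left this
    exact mul_inv_eq_iff_eq_mul.1 he
  · rw [Nat.not_odd_iff_even] at hodd
    obtain ⟨k, hk⟩ := hodd
    -- the involution of the dihedral group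
    set v := (w * z) ^ k with hv
    have hv2 : v * v = 1 := by rw [hv, ← pow_add, ← hk, pow_orderOf_eq_one]
    have hvz : Commute v z := by
      have h : z * v * z⁻¹ = v⁻¹ := by rw [hv, ← conj_pow, hinv, inv_pow]
      rw [inv_eq_of_mul_eq_one_right hv2] at h
      exact (mul_inv_eq_iff_eq_mul.1 h).symm
    rcases h1 v (pow_mem (mul_mem hwK hzK) k) hv2 hvz with e | e
    · have hpos := orderOf_pos (w * z)
      have := orderOf_le_of_pow_eq_one (by omega) e
      omega
    · have hwv : Commute w v := by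
        have h : w * v * w⁻¹ = v⁻¹ := by
          rw [hv, ← conj_pow, show w * (w * z) * w⁻¹ = (w * z)⁻¹ by
            rw [← mul_assoc w w z, hw2, one_mul, hwi]
            exact eq_inv_of_mul_eq_one_left (by rw [mul_assoc, ← mul_assoc w w z, hw2, one_mul, hz]), inv_pow]
        rw [inv_eq_of_mul_eq_one_right hv2] at h
        exact mul_inv_eq_iff_eq_mul.1 h
      rw [e] at hwv
      rcases h1 w hwK hw2 hwv with e' | e'
      · rw [hw, conj_eq_one_iff] at e'
        rw [e']; exact Commute.one_right g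
      · exact mul_inv_eq_iff_eq_mul.1 e'

/-- The largest odd normal subgroup of `K`, as a subgroup of `G`. -/
def coreOf (K : Subgroup G) : Subgroup G := (Cfsg.oddCore K).map K.subtype

theorem coreOf_le (K : Subgroup G) : coreOf K ≤ K := map_subtype_le _

theorem coreOf_odd (K : Subgroup G) : Odd (Nat.card (coreOf K)) := by
  rw [coreOf, card_map_of_injective K.subtype_injective]
  exact IsoApps.odd_oddCore

theorem le_coreOf {K N : Subgroup G} (hle : N ≤ K) (hodd : Odd (Nat.card N))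
    (hn : ∀ k ∈ K, ∀ x ∈ N, k * x * k⁻¹ ∈ N) : N ≤ coreOf K := by
  have hN : (N.subgroupOf K).Normal := ⟨fun x hx k => hn k k.2 x hx⟩
  intro x hx
  refine ⟨⟨x, hle hx⟩, Solvable.le_pPrimeCore 2 hN ?_ (show (⟨x, hle hx⟩ : K) ∈ N.subgroupOf K from hx), rfl⟩
  rw [Nat.card_congr (subgroupOfEquivOfLe hle).toEquiv]
  exact Nat.coprime_two_right.mpr hodd

theorem coreOf_normal {K : Subgroup G} {k : G} (hk : k ∈ K) {x : G} (hx : x ∈ coreOf K) :
    k * x * k⁻¹ ∈ coreOf K := by
  haveI : (Cfsg.oddCore K).Normal := Solvable.pPrimeCore_normal 2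
  obtain ⟨x, hx, rfl⟩ := hx
  exact ⟨⟨k, hk⟩ * x * ⟨k, hk⟩⁻¹, Normal.conj_mem inferInstance x hx ⟨k, hk⟩, rfl⟩

theorem coreOf_conj {K : Subgroup G} {g : G} (hg : ∀ x, x ∈ K ↔ g * x * g⁻¹ ∈ K) {x : G}
    (hx : x ∈ coreOf K) : g * x * g⁻¹ ∈ coreOf K := by
  have hle : (coreOf K).map (MulAut.conj g).toMonoidHom ≤ coreOf K := by
    refine le_coreOf ?_ ?_ ?_
    · rintro _ ⟨y, hy, rfl⟩
      exact (hg y).1 (coreOf_le K hy)
    · rw [card_map_of_injective (MulAut.conj g).injective]; exact coreOf_odd K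
    · rintro k hk _ ⟨y, hy, rfl⟩
      have hk' : g⁻¹ * k * g ∈ K := (hg _).2 (by simpa [mul_assoc] using hk)
      exact ⟨_, coreOf_normal hk' hy, by simp [mul_assoc]⟩
  exact hle ⟨x, hx, rfl⟩

/-- Inverted elements of odd order lie in the core. -/
theorem mem_coreOf {K : Subgroup G} (hz : orderOf z = 2) (hzK : z ∈ K) (h1 : OnlyInvol K z) {m : G}
    (hm : m ∈ K) (hodd : Odd (orderOf m)) (hinv : z * m * z⁻¹ = m⁻¹) : m ∈ coreOf K := by
  have hzz : z * z = 1 := by rw [← _root_.sq, ← hz, pow_orderOf_eq_one]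
  have hiso : Cfsg.IsIsolatedInvolution (⟨z, hzK⟩ : K) := by
    refine ⟨by rw [← Subgroup.orderOf_coe]; exact hz, fun g hg => Subtype.ext ?_⟩
    have hc : Commute ((g : G) * z * (g : G)⁻¹) z := (hg.map K.subtype).symm
    rcases h1 _ (mul_mem (mul_mem g.2 hzK) (inv_mem g.2)) (by
      rw [show (g : G) * z * (g : G)⁻¹ * ((g : G) * z * (g : G)⁻¹) = g * (z * z) * (g : G)⁻¹ by group, hzz,
        mul_one, mul_inv_cancel]) hc with e | e
    · rw [conj_eq_one_iff] at e
      rw [e, orderOf_one] at hz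
      omega
    · exact e
  exact ⟨⟨m, hm⟩, IsoApps.mem_oddCore_of_inverted hiso (by rwa [← Subgroup.orderOf_coe])
    (Subtype.ext hinv), rfl⟩

/-- An element of an invariant subgroup of odd order is an inverted element times a fixed one. -/
theorem exists_split {O : Subgroup G} (hz : z * z = 1) (hO : Odd (Nat.card O))
    (hn : ∀ x ∈ O, z * x * z⁻¹ ∈ O) {g : G} (hg : g ∈ O) :
    ∃ m ∈ O, ∃ f ∈ O, z * m * z⁻¹ = m⁻¹ ∧ Commute f z ∧ g = m * f := by
  have hzi : z⁻¹ = z := inv_eq_of_mul_eq_one_right hz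
  have hzz : ∀ x, z * (z * x * z⁻¹) * z⁻¹ = x := fun x => by
    rw [show z * (z * x * z⁻¹) * z⁻¹ = z * z * x * (z * z)⁻¹ by group, hz]; group
  set h := g * (z * g * z⁻¹)⁻¹ with hh
  have hhO : h ∈ O := mul_mem hg (inv_mem (hn g hg))
  have hinv : z * h * z⁻¹ = h⁻¹ := by
    rw [hh, ← conj_mul, ← conj_inv, hzz, mul_inv_rev, inv_inv]
  obtain ⟨j, hj⟩ := hO.of_dvd_nat (Subgroup.orderOf_dvd_natCard O hhO)
  refine ⟨h ^ (j + 1), pow_mem hhO _, (h ^ (j + 1))⁻¹ * g, mul_mem (inv_mem (pow_mem hhO _)) hg, ?_, ?_,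
    by group⟩
  · rw [← conj_pow, hinv, inv_pow]
  · have hsq : h ^ (j + 1) * h ^ (j + 1) = h := by
      rw [← pow_add, show j + 1 + (j + 1) = 2 * j + 1 + 1 by omega, pow_succ, ← hj, pow_orderOf_eq_one, one_mul]
    refine (mul_inv_eq_iff_eq_mul.1 ?_).symm
    rw [← conj_mul, ← conj_inv, ← conj_pow, hinv, inv_pow, inv_inv]
    have : z * g * z⁻¹ = h⁻¹ * g := by rw [hh]; group
    rw [this, show (h ^ (j + 1))⁻¹ = h ^ (j + 1) * h⁻¹ by
      rw [eq_comm, mul_inv_eq_iff_eq_mul, eq_inv_mul_iff_mul_eq, hsq], mul_assoc]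

/-- Uniqueness of the splitting, for fixed elements centralizing the subgroup. -/
theorem split_unique {O X : Subgroup G} (hO : Odd (Nat.card O)) (hXO : X ≤ O)
    (hX : ∀ f ∈ X, ∀ o ∈ O, Commute f o) (hXz : ∀ f ∈ X, Commute f z) {m m' f f' : G} (hm : m ∈ O)
    (hi : z * m * z⁻¹ = m⁻¹) (hi' : z * m' * z⁻¹ = m'⁻¹) (hf : f ∈ X) (hf' : f' ∈ X)
    (h : m * f = m' * f') : m = m' ∧ f = f' := by
  have hx : f * f'⁻¹ ∈ X := mul_mem hf (inv_mem hf')
  set x := f * f'⁻¹ with hxd
  have hm' : m' = m * x := by rw [hxd, ← mul_assoc, h, mul_inv_cancel_right]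
  have h2 : x * x = 1 := by
    have h3 := hi'
    rw [hm', ← conj_mul, hi, mul_inv_eq_iff_eq_mul.2 (hXz x hx).symm.eq, mul_inv_rev,
      (hX x hx m hm).inv_left.inv_right.eq, mul_left_cancel_iff, eq_inv_iff_mul_eq_one] at h3
    exact h3
  have hx1 : x = 1 := by
    have hd : orderOf x ∣ 2 := orderOf_dvd_of_pow_eq_one (by rw [_root_.sq]; exact h2)
    rcases (Nat.dvd_prime Nat.prime_two).1 hd with e | e
    · exact orderOf_eq_one_iff.1 e
    · have := hO.of_dvd_nat (e ▸ Subgroup.orderOf_dvd_natCard O (hXO hx))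
      exact absurd this (by decide)
  rw [hx1, mul_one] at hm'
  exact ⟨hm'.symm, by rw [← mul_inv_eq_one, ← hxd, hx1]⟩

/-- Inverted elements commute modulo the fixed ones. -/
theorem comm_inverted {O X : Subgroup G} (hz : z * z = 1) (hO : Odd (Nat.card O))
    (hn : ∀ x ∈ O, z * x * z⁻¹ ∈ O) (hfix : ∀ f ∈ O, Commute f z → f ∈ X)
    (hX : ∀ f ∈ X, ∀ o ∈ O, Commute f o) (hXz : ∀ f ∈ X, Commute f z) {p q : G} (hp : p ∈ O) (hq : q ∈ O)
    (hip : z * p * z⁻¹ = p⁻¹) (hiq : z * q * z⁻¹ = q⁻¹) : ∃ f ∈ X, p * q = q * p * f := by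
  obtain ⟨m, hm, f, hf, hi, hfz, he⟩ := exists_split hz hO hn (mul_mem hp hq)
  have hfX := hfix f hf hfz
  refine ⟨f * f, mul_mem hfX hfX, ?_⟩
  have h : z * (p * q) * z⁻¹ = z * (m * f) * z⁻¹ := by rw [he]
  rw [← conj_mul, ← conj_mul, hip, hiq, hi, mul_inv_eq_iff_eq_mul.2 hfz.symm.eq] at h
  -- `p⁻¹ q⁻¹ = m⁻¹ f`
  have h' : q * p = f⁻¹ * m := by
    calc q * p = (p⁻¹ * q⁻¹)⁻¹ := by group
      _ = _ := by rw [h, mul_inv_rev, inv_inv]
  rw [he, h', mul_assoc, ← mul_assoc m f f, ← (hX f hfX m hm).eq]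
  group
  all_goals exact ((hX f hfX m hm).eq : _)

/-- An invariant subgroup of odd order is generated by the centralizers of three involutions. -/
theorem le_of_fixed {O T : Subgroup G} {a : G} (hz : z * z = 1) (ha : a * a = 1) (haz : Commute a z)
    (hz1 : z ≠ 1) (ha1 : a ≠ 1) (hne : a ≠ z) (hO : Odd (Nat.card O))
    (hnz : ∀ x, x ∈ O → z * x * z⁻¹ ∈ O) (hna : ∀ x, x ∈ O → a * x * a⁻¹ ∈ O)
    (h1 : ∀ x ∈ O, Commute x z → x ∈ T) (h2 : ∀ x ∈ O, Commute x a → x ∈ T)
    (h3 : ∀ x ∈ O, Commute x (a * z) → x ∈ T) : O ≤ T := by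
  let A : Subgroup G :=
    { carrier := {1, z, a, a * z}
      one_mem' := by simp
      mul_mem' := by
        have e1 : z * a = a * z := haz.symm.eq
        have e2 : z * (a * z) = a := by rw [← mul_assoc, e1, mul_assoc, hz, mul_one]
        have e3 : a * (a * z) = z := by rw [← mul_assoc, ha, one_mul]
        have e4 : a * z * a = z := by rw [mul_assoc, e1, e3]
        have e5 : a * z * z = a := by rw [mul_assoc, hz, mul_one]
        have e6 : a * z * (a * z) = 1 := by rw [← mul_assoc, e4, hz]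
        rintro u v (rfl | rfl | rfl | rfl) (rfl | rfl | rfl | rfl) <;>
          simp [Set.mem_insert_iff, hz, ha, e1, e2, e3, e4, e5, e6]
      inv_mem' := by
        have e6 : (a * z)⁻¹ = a * z := by
          rw [mul_inv_rev, inv_eq_of_mul_eq_one_right hz, inv_eq_of_mul_eq_one_right ha, haz.symm.eq]
        rintro u (rfl | rfl | rfl | rfl) <;>
          simp [Set.mem_insert_iff, e6, inv_eq_of_mul_eq_one_right hz, inv_eq_of_mul_eq_one_right ha] }
  have hmemA : ∀ {u}, u ∈ A ↔ u = 1 ∨ u = z ∨ u = a ∨ u = a * z := Iff.rfl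
  have hsq : ∀ u ∈ A, u * u = 1 := by
    intro u hu
    rcases hmemA.1 hu with rfl | rfl | rfl | rfl
    · simp
    · exact hz
    · exact ha
    · rw [mul_assoc, ← mul_assoc z a z, haz.symm.eq, mul_assoc a z z, hz, mul_one, ha]
  haveI : IsMulCommutative A := ⟨⟨fun u v => Subtype.ext (by
    rcases hmemA.1 u.2 with e | e | e | e <;> rcases hmemA.1 v.2 with e' | e' | e' | e' <;>
      simp [e, e', mul_assoc, haz.eq, haz.left_comm, hz, ha])⟩⟩
  have hcard : Nat.card A = 4 := by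
    have hset : (A : Set G) = {1, z, a, a * z} := rfl
    have haz1 : a * z ≠ 1 := fun h => hne (by
      rw [eq_inv_of_mul_eq_one_left h, inv_eq_of_mul_eq_one_right hz])
    have haz2 : a * z ≠ z := fun h => ha1 (mul_eq_right.1 h)
    have haz3 : a * z ≠ a := fun h => hz1 (mul_eq_left.1 h)
    rw [← SetLike.coe_sort_coe, Nat.card_coe_set_eq, hset, Set.ncard_insert_of_notMem (by
      simp [hz1.symm, ha1.symm, haz1.symm]), Set.ncard_insert_of_notMem (by simp [hne.symm, haz2.symm]),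
      Set.ncard_pair haz3.symm]
  have hnc : ¬ IsCyclic A := fun h => by
    obtain ⟨g, hg⟩ := isCyclic_iff_exists_orderOf_eq_natCard.1 h
    rw [hcard] at hg
    have : orderOf g ∣ 2 := orderOf_dvd_of_pow_eq_one (Subtype.ext (by
      rw [Subgroup.coe_pow, _root_.sq]; exact hsq g g.2))
    rw [hg] at this
    omega
  have hno : A ≤ normalizer (O : Set G) := by
    intro u hu
    have hconj : ∀ x ∈ O, u * x * u⁻¹ ∈ O := by
      intro x hx
      rcases hmemA.1 hu with rfl | rfl | rfl | rfl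
      · simpa using hx
      · exact hnz x hx
      · exact hna x hx
      · rw [show a * z * x * (a * z)⁻¹ = a * (z * x * z⁻¹) * a⁻¹ by group]
        exact hna _ (hnz x hx)
    refine mem_normalizer_iff.2 fun x => ⟨hconj x, fun hx => ?_⟩
    have h := hconj _ hx
    rwa [inv_eq_of_mul_eq_one_right (hsq u hu), show u * (u * x * u) * u = u * u * x * (u * u) by group,
      hsq u hu, one_mul, mul_one] at h
  rw [← CoprimeAct.generated_by_centralizers hnc hno (by
    rw [hcard, show (4 : ℕ) = 2 ^ 2 from rfl]; exact (Nat.coprime_two_left.2 hO).pow_left 2)]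
  refine iSup₂_le fun u hu x hx => ?_
  obtain ⟨huA, hu1⟩ := hu
  obtain ⟨hxO, hxu⟩ := hx
  have hxu : Commute x u := mem_centralizer_singleton_iff.1 hxu
  rcases hmemA.1 huA with rfl | rfl | rfl | rfl
  · exact absurd rfl hu1
  exacts [h1 x hxO hxu, h2 x hxO hxu, h3 x hxO hxu]

end CfsgLib.DoubleAlt
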