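import Cfsg.Agent.DoubleAlt.Frame
import Cfsg.Agent.DoubleAlt.Tools

/-!
# Elements inverted by the four-group in the centralizer of `y`
-/

set_option autoImplicit false
set_option linter.style.haveILetI false
set_option linter.unusedSectionVars false

namespace CfsgLib.DoubleAlt

open Equiv Equiv.Perm

variable {G : Type*} [Group G] [Finite G] {n : ℕ} [NeZero n] {z : G}
variable {D : Data z n} {T : Tab n}

namespace Frame

variable (F : Frame D T)

/-- Elements of odd order centralizing `y` and `z` have order dividing three. -/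
theorem cube_of_odd {g : G} (hz : Commute g z) (hy : Commute g F.y) (ho : Odd (orderOf g)) : g ^ 3 = 1 := by
  obtain ⟨π, hπ⟩ := D.img_of_comm hz
  have hL := T.mem π ((hπ.mul F.y_img).unique (hy.eq ▸ F.y_img.mul hπ)) hπ.sgn
  have hd : orderOf π ∣ orderOf g := by
    refine orderOf_dvd_of_pow_eq_one ((hπ.pow _).unique ?_)
    rw [pow_orderOf_eq_one]; exact D.img_one
  have h24 : orderOf π ∣ 3 * 8 := orderOf_dvd_of_pow_eq_one (T.exp π hL)
  have h3 : π ^ 3 = 1 := orderOf_dvd_iff_pow_eq_one.1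
    ((Nat.Coprime.pow_right 3 (Nat.coprime_two_right.2 (ho.of_dvd_nat hd))).dvd_of_dvd_mul_right h24)
  rcases (h3 ▸ hπ.pow 3 : D.Img (g ^ 3) 1).eq_one with e | e
  · exact e
  · exfalso
    have h2 : (2 : ℕ) ∣ orderOf g := by
      rw [← D.hz, ← e]
      exact orderOf_pow_dvd 3
    exact Nat.not_even_iff_odd.2 ho (even_iff_two_dvd.2 h2)

/-- Images of elements of odd order centralizing `y` and `z`. -/
theorem odd_img {g : G} (hz : Commute g z) (hy : Commute g F.y) (ho : Odd (orderOf g)) :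
    ∃ π ∈ T.L, D.Img g π ∧ π * π * π = 1 := by
  obtain ⟨π, hπ⟩ := D.img_of_comm hz
  refine ⟨π, T.mem π ((hπ.mul F.y_img).unique (hy.eq ▸ F.y_img.mul hπ)) hπ.sgn, hπ, ?_⟩
  have h := hπ.pow 3
  rw [F.cube_of_odd hz hy ho] at h
  rw [← _root_.sq, ← pow_succ]
  exact h.unique D.img_one

end Frame

/-- An element permuting the involutions of the four-group cyclically. -/
structure Turn (F : Frame D T) where
  /-- The element. -/
  t : G
  tz : t * z * t⁻¹ = F.a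
  ta : t * F.a * t⁻¹ = F.a * z
  ty : Commute t F.y

theorem exists_turn (F : Frame D T) : Nonempty (Turn F) := by
  obtain ⟨t, h1, h2, h3⟩ := F.exists_tau
  exact ⟨⟨t, h1, h2, h3⟩⟩

/-- Odd elements of `C(y)` centralized by `z` and inverted by `a`. -/
def PZ (F : Frame D T) (m : G) : Prop :=
  Odd (orderOf m) ∧ Commute m F.y ∧ Commute m z ∧ F.a * m * F.a⁻¹ = m⁻¹

/-- Odd elements of `C(y)` centralized by `a` and inverted by `z`. -/
def PA (F : Frame D T) (m : G) : Prop :=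
  Odd (orderOf m) ∧ Commute m F.y ∧ Commute m F.a ∧ z * m * z⁻¹ = m⁻¹

/-- Odd elements of `C(y)` centralized by `a * z` and inverted by `z`. -/
def PAZ (F : Frame D T) (m : G) : Prop :=
  Odd (orderOf m) ∧ Commute m F.y ∧ Commute m (F.a * z) ∧ z * m * z⁻¹ = m⁻¹

theorem orderOf_conj' (g m : G) : orderOf (g * m * g⁻¹) = orderOf m :=
  orderOf_injective (MulAut.conj g).toMonoidHom (MulEquiv.injective _) m

theorem commute_conj {g x y : G} (h : Commute x y) : Commute (g * x * g⁻¹) (g * y * g⁻¹) :=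
  h.map (MulAut.conj g).toMonoidHom

namespace Turn

variable {F : Frame D T} (τ : Turn F)

theorem taz : τ.t * (F.a * z) * τ.t⁻¹ = z := by
  rw [← conj_mul, τ.ta, τ.tz, mul_assoc, F.a_z.symm.eq, ← mul_assoc, F.ha2, one_mul]

theorem ty' : τ.t * F.y * τ.t⁻¹ = F.y := by rw [τ.ty.eq, mul_inv_cancel_right]

theorem a_inv_of {m : G} (h : Commute m F.a) (hi : z * m * z⁻¹ = m⁻¹) :
    F.a * z * m * (F.a * z)⁻¹ = m⁻¹ := by
  rw [show F.a * z * m * (F.a * z)⁻¹ = F.a * (z * m * z⁻¹) * F.a⁻¹ by group, hi, h.symm.inv_right.eq,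
    mul_inv_cancel_right]

theorem pa_of_pz {m : G} (h : PZ F m) : PA F (τ.t * m * τ.t⁻¹) := by
  obtain ⟨ho, hy, hz, ha⟩ := h
  refine ⟨by rw [orderOf_conj']; exact ho, ?_, ?_, ?_⟩
  · have := commute_conj (g := τ.t) hy; rwa [τ.ty'] at this
  · have := commute_conj (g := τ.t) hz; rwa [τ.tz] at this
  · have hazm : F.a * z * m * (F.a * z)⁻¹ = m⁻¹ := by
      rw [show F.a * z * m * (F.a * z)⁻¹ = F.a * (z * m * z⁻¹) * F.a⁻¹ by group, hz.symm.eq,
        mul_inv_cancel_right, ha]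
    have h2 : τ.t * (F.a * z) * τ.t⁻¹ * (τ.t * m * τ.t⁻¹) * (τ.t * (F.a * z) * τ.t⁻¹)⁻¹ =
      τ.t * (F.a * z * m * (F.a * z)⁻¹) * τ.t⁻¹ := by group
    rw [τ.taz] at h2
    rw [h2, hazm]
    group

theorem pz_of_pa {m : G} (h : PA F m) : PZ F (τ.t⁻¹ * m * τ.t) := by
  obtain ⟨ho, hy, ha, hz⟩ := h
  have ez : τ.t⁻¹ * F.a * τ.t = z := by rw [← τ.tz]; group
  have ea : τ.t⁻¹ * (F.a * z) * τ.t = F.a := by rw [← τ.ta]; group
  refine ⟨by have := orderOf_conj' τ.t⁻¹ m; rw [inv_inv] at this; rw [this]; exact ho, ?_, ?_, ?_⟩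
  · have := commute_conj (g := τ.t⁻¹) hy
    rwa [inv_inv, show τ.t⁻¹ * F.y * τ.t = F.y by rw [← τ.ty.inv_left.eq.symm]; group] at this
  · have := commute_conj (g := τ.t⁻¹) ha
    rwa [inv_inv, ez] at this
  · rw [← ea, show τ.t⁻¹ * (F.a * z) * τ.t * (τ.t⁻¹ * m * τ.t) * (τ.t⁻¹ * (F.a * z) * τ.t)⁻¹ =
      τ.t⁻¹ * (F.a * z * m * (F.a * z)⁻¹) * τ.t by group, a_inv_of ha hz]
    group

theorem paz_of_pa {m : G} (h : PA F m) : PAZ F (τ.t * m * τ.t⁻¹) := by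
  obtain ⟨ho, hy, ha, hz⟩ := h
  refine ⟨by rw [orderOf_conj']; exact ho, ?_, ?_, ?_⟩
  · have := commute_conj (g := τ.t) hy; rwa [τ.ty'] at this
  · have := commute_conj (g := τ.t) ha; rwa [τ.ta] at this
  · have h2 : τ.t * (F.a * z) * τ.t⁻¹ * (τ.t * m * τ.t⁻¹) * (τ.t * (F.a * z) * τ.t⁻¹)⁻¹ =
      τ.t * (F.a * z * m * (F.a * z)⁻¹) * τ.t⁻¹ := by group
    rw [τ.taz] at h2
    rw [h2, a_inv_of ha hz]
    group

theorem pz_of_paz {m : G} (h : PAZ F m) : PZ F (τ.t * m * τ.t⁻¹) := by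
  obtain ⟨ho, hy, haz, hz⟩ := h
  refine ⟨by rw [orderOf_conj']; exact ho, ?_, ?_, ?_⟩
  · have := commute_conj (g := τ.t) hy; rwa [τ.ty'] at this
  · have := commute_conj (g := τ.t) haz; rwa [τ.taz] at this
  · rw [← τ.tz, show τ.t * z * τ.t⁻¹ * (τ.t * m * τ.t⁻¹) * (τ.t * z * τ.t⁻¹)⁻¹ =
      τ.t * (z * m * z⁻¹) * τ.t⁻¹ by group, hz]
    group

theorem cube_pz (_τ : Turn F) {m : G} (h : PZ F m) : m ^ 3 = 1 := F.cube_of_odd h.2.2.1 h.2.1 h.1

theorem cube_pa (τ : Turn F) {m : G} (h : PA F m) : m ^ 3 = 1 := by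
  have := τ.cube_pz (τ.pz_of_pa h)
  rw [show (τ.t⁻¹ * m * τ.t) ^ 3 = τ.t⁻¹ * m ^ 3 * τ.t by simp only [pow_succ, pow_zero, one_mul]; group] at this
  rw [show m ^ 3 = τ.t * (τ.t⁻¹ * m ^ 3 * τ.t) * τ.t⁻¹ by group, this, mul_one, mul_inv_cancel]

theorem cube_paz (τ : Turn F) {m : G} (h : PAZ F m) : m ^ 3 = 1 := by
  have := τ.cube_pz (τ.pz_of_paz h)
  rwa [conj_pow, conj_eq_one_iff] at this

end Turn

namespace Frame

variable (F : Frame D T)

theorem s_az : F.s * (F.a * z) * F.s⁻¹ = F.a := by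
  rw [← conj_mul, F.s_a, F.s_z.eq, mul_inv_cancel_right, mul_assoc, D.z_sq, mul_one]

theorem paz_of_pa {m : G} (h : PA F m) : PAZ F (F.s * m * F.s⁻¹) := by
  obtain ⟨ho, hy, ha, hz⟩ := h
  refine ⟨by rw [orderOf_conj']; exact ho, ?_, ?_, ?_⟩
  · have := (commute_conj (g := F.s) hy).inv_right
    rwa [F.s_y, inv_inv] at this
  · have := commute_conj (g := F.s) ha; rwa [F.s_a] at this
  · rw [show z * (F.s * m * F.s⁻¹) * z⁻¹ = z * F.s * m * F.s⁻¹ * z⁻¹ by group, ← F.s_z.eq,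
      show F.s * z * m * F.s⁻¹ * z⁻¹ = F.s * z * m * (z * F.s)⁻¹ by group, ← F.s_z.eq,
      show F.s * z * m * (F.s * z)⁻¹ = F.s * (z * m * z⁻¹) * F.s⁻¹ by group, hz]
    group

theorem pa_of_paz {m : G} (h : PAZ F m) : PA F (F.s * m * F.s⁻¹) := by
  obtain ⟨ho, hy, ha, hz⟩ := h
  refine ⟨by rw [orderOf_conj']; exact ho, ?_, ?_, ?_⟩
  · have := (commute_conj (g := F.s) hy).inv_right
    rwa [F.s_y, inv_inv] at this
  · have := commute_conj (g := F.s) ha; rwa [F.s_az] at this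
  · rw [show z * (F.s * m * F.s⁻¹) * z⁻¹ = z * F.s * m * F.s⁻¹ * z⁻¹ by group, ← F.s_z.eq,
      show F.s * z * m * F.s⁻¹ * z⁻¹ = F.s * z * m * (z * F.s)⁻¹ by group, ← F.s_z.eq,
      show F.s * z * m * (F.s * z)⁻¹ = F.s * (z * m * z⁻¹) * F.s⁻¹ by group, hz]
    group

end Frame

end CfsgLib.DoubleAlt
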